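import Groth.Agent.L04.Koszul.Basic
import Groth.Agent.L04.Depth2
import Groth.Prelude.Def_Koszul
import Mathlib.RingTheory.Regular.Category
import Mathlib.Algebra.Homology.HomologySequence

/-!
# Null homotopies and vanishing of Koszul cohomology
-/

set_option autoImplicit false
set_option backward.isDefEq.respectTransparency.types false

universe u

open CategoryTheory CategoryTheory.Limits CochainComplex CohIII RingTheory.Sequence
open Groth.L28.Kun (Z cl)

namespace Groth.L04.Koszul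

variable {A : Type u} [CommRing A]

section Homotopy

variable (K : CochainComplex (ModuleCat.{u} A) ℤ) (a f : A)

/-- A homotopy to zero of a scalar, from its components. -/
noncomputable def homotopyOfMaps (s : ∀ i j : ℤ, j + 1 = i → (K.X i →ₗ[A] K.X j))
    (hs : ∀ (p : ℤ) (z : K.X p), K.d (p - 1) p (s p (p - 1) (sub_add_cancel p 1) z) +
      s (p + 1) p rfl (K.d p (p + 1) z) = a • z) :
    Homotopy (a • 𝟙 K) 0 where
  hom i j := if h : j + 1 = i then ModuleCat.ofHom (s i j h) else 0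
  zero i j h := dif_neg (fun e => h (by simpa using e))
  comm p := by
    refine ModuleCat.hom_ext (LinearMap.ext fun z => ?_)
    have h₂ : (ComplexShape.up ℤ).Rel p (p + 1) := by simp
    have h₁ : (ComplexShape.up ℤ).Rel (p - 1) p := by simp
    rw [dNext_eq _ h₂, prevD_eq _ h₁, dif_pos rfl, dif_pos (sub_add_cancel p 1),
      HomologicalComplex.zero_f, add_zero]
    show a • z = _
    rw [← hs p z, add_comm]
    rfl

theorem homotopy_apply {K L : CochainComplex (ModuleCat.{u} A) ℤ} {φ : K ⟶ L} (h : Homotopy φ 0)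
    (p : ℤ) (z : K.X p) :
    φ.f p z = L.d (p - 1) p (h.hom p (p - 1) z) + h.hom (p + 1) p (K.d p (p + 1) z) := by
  have e := h.comm p
  rw [dNext_eq _ (show (ComplexShape.up ℤ).Rel p (p + 1) by simp),
    prevD_eq _ (show (ComplexShape.up ℤ).Rel (p - 1) p by simp), HomologicalComplex.zero_f,
    add_zero] at e
  exact (ConcreteCategory.congr_hom e z).trans (add_comm _ _)

/-- `f` is null homotopic on the cone of `f`. -/
noncomputable def homotopyConeSelf :
    Homotopy (f • 𝟙 (mappingCone (f • 𝟙 K))) 0 :=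
  homotopyOfMaps _ f (fun i j hij =>
    (Groth.L02.PC.coneEquiv (f • 𝟙 K) j i hij).symm.toLinearMap.comp
      ((LinearMap.inl A (K.X i) (K.X j)).comp
        ((LinearMap.snd A (K.X (i + 1)) (K.X i)).comp
          (Groth.L02.PC.coneEquiv (f • 𝟙 K) i (i + 1) rfl).toLinearMap))) (fun p z => by
    obtain ⟨q, x, rfl⟩ := exists_cmk (f • 𝟙 K) (rfl : p + 1 = p + 1) z
    rw [d_cmk (f • 𝟙 K) (rfl : p + 1 = p + 1) (rfl : p + 1 + 1 = p + 1 + 1)]
    change (mappingCone (f • 𝟙 K)).d (p - 1) p (cmk (f • 𝟙 K) (p - 1) p (sub_add_cancel p 1)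
        (Groth.L02.PC.coneEquiv (f • 𝟙 K) p (p + 1) rfl (cmk _ p (p + 1) rfl q x)).2 0) +
      cmk (f • 𝟙 K) p (p + 1) rfl
        (Groth.L02.PC.coneEquiv (f • 𝟙 K) (p + 1) (p + 1 + 1) rfl
          (cmk (f • 𝟙 K) (p + 1) (p + 1 + 1) rfl (-K.d (p + 1) (p + 1 + 1) q)
            ((f • 𝟙 K : K ⟶ K).f (p + 1) q + K.d p (p + 1) x))).2 0 =
      f • cmk (f • 𝟙 K) p (p + 1) rfl q x
    rw [coneEquiv_cmk, coneEquiv_cmk, d_cmk (f • 𝟙 K) (sub_add_cancel p 1) (rfl : p + 1 = p + 1),
      ← cmk_add, map_zero, add_zero, add_zero, smul_cmk]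
    congr 1
    show -K.d p (p + 1) x + (f • q + K.d p (p + 1) x) = f • q
    abel)

/-- A null homotopy of `a` passes to the cone of `f`. -/
noncomputable def homotopyConeLift (h : Homotopy (a • 𝟙 K) 0) :
    Homotopy (a • 𝟙 (mappingCone (f • 𝟙 K))) 0 :=
  homotopyOfMaps _ a (fun i j hij =>
    (Groth.L02.PC.coneEquiv (f • 𝟙 K) j i hij).symm.toLinearMap.comp
      (((-(h.hom (i + 1) i).hom).prodMap (h.hom i j).hom).comp
        (Groth.L02.PC.coneEquiv (f • 𝟙 K) i (i + 1) rfl).toLinearMap)) (fun p z => by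
    obtain ⟨q, x, rfl⟩ := exists_cmk (f • 𝟙 K) (rfl : p + 1 = p + 1) z
    rw [d_cmk (f • 𝟙 K) (rfl : p + 1 = p + 1) (rfl : p + 1 + 1 = p + 1 + 1)]
    simp only [LinearMap.comp_apply, LinearEquiv.coe_coe, coneEquiv_cmk, LinearMap.prodMap_apply,
      LinearMap.neg_apply]
    change (mappingCone (f • 𝟙 K)).d (p - 1) p (cmk (f • 𝟙 K) (p - 1) p (sub_add_cancel p 1) (-h.hom (p + 1) p q)
        (h.hom p (p - 1) x)) +
      cmk (f • 𝟙 K) p (p + 1) rfl (-h.hom (p + 1 + 1) (p + 1) (-K.d (p + 1) (p + 1 + 1) q))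
        (h.hom (p + 1) p (f • q + K.d p (p + 1) x)) = a • cmk (f • 𝟙 K) p (p + 1) rfl q x
    rw [d_cmk (f • 𝟙 K) (sub_add_cancel p 1) (rfl : p + 1 = p + 1), ← cmk_add, smul_cmk]
    have e1 := homotopy_apply h (p + 1) q
    have e2 := homotopy_apply h p x
    rw [show p + 1 - 1 = p by ring] at e1
    change a • q = _ at e1
    change a • x = _ at e2
    congr 1
    · rw [map_neg, map_neg, neg_neg, neg_neg, e1]
    · change f • (-h.hom (p + 1) p q) + _ + _ = _
      rw [map_add, map_smul, e2, smul_neg]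
      abel)

end Homotopy

variable (M : ModuleCat.{u} A)

/-- The scalars null homotopic on a complex. -/
def nullIdeal (K : CochainComplex (ModuleCat.{u} A) ℤ) : Ideal A where
  carrier := {a | Nonempty (Homotopy (a • 𝟙 K) 0)}
  zero_mem' := ⟨Homotopy.ofEq (zero_smul A _)⟩
  add_mem' := fun {a b} ⟨h⟩ ⟨h'⟩ =>
    ⟨(Homotopy.ofEq (add_smul a b (𝟙 K))).trans ((h.add h').trans (Homotopy.ofEq (add_zero 0)))⟩
  smul_mem' := fun c {a} ⟨h⟩ =>
    ⟨(Homotopy.ofEq (show (c • a) • 𝟙 K = (a • 𝟙 K) ≫ (c • 𝟙 K) by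
        rw [Linear.comp_smul, Category.comp_id, smul_smul, smul_eq_mul])).trans
      ((h.compRight (c • 𝟙 K)).trans (Homotopy.ofEq zero_comp))⟩

theorem ofList_le_nullIdeal : ∀ fs : List A, Ideal.ofList fs ≤ nullIdeal (koszulCx M fs) := by
  intro fs
  induction fs with
  | nil => rw [Ideal.ofList_nil]; exact bot_le
  | cons f fs ih =>
    rw [Ideal.ofList_cons, sup_le_iff, Ideal.span_singleton_le_iff_mem]
    exact ⟨⟨homotopyConeSelf _ f⟩, fun a ha => (ih ha).elim fun h => ⟨homotopyConeLift _ a f h⟩⟩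

theorem smul_homology_eq_zero {fs : List A} {a : A} (ha : a ∈ Ideal.ofList fs) (n : ℤ)
    (c : (koszulCx M fs).homology n) : a • c = 0 := by
  obtain ⟨h⟩ := ofList_le_nullIdeal M fs ha
  rw [← homologyMap_smul_id (koszulCx M fs) a n c, h.homologyMap_eq n,
    HomologicalComplex.homologyMap_zero]
  rfl

theorem isZero_homology_of_eq_top {fs : List A} (h : Ideal.ofList fs = ⊤) (n : ℤ) :
    IsZero ((koszulCx M fs).homology n) :=
  ModuleCat.isZero_iff_subsingleton.2 (subsingleton_of_forall_eq 0 fun c => by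
    rw [← one_smul A c]
    exact smul_homology_eq_zero M (h ▸ Submodule.mem_top) n c)

section Regular

variable {M} {f : A} (hf : IsSMulRegular M f) (fs : List A)

include hf in
theorem isZero_cons_iff (n : ℤ) :
    IsZero ((koszulCx M (f :: fs)).homology n) ↔
      IsZero ((koszulCx (ModuleCat.of A (QuotSMulTop f M)) fs).homology n) := by
  have hS := hf.smulShortComplex_shortExact
  have hK := kSeq_shortExact hS fs
  have hmap : ∀ (m : ℤ) (c : (koszulCx M fs).homology m),
      HomologicalComplex.homologyMap (kSeq hS fs).f m c = f • c := fun m c => by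
    refine Eq.trans ?_ (homologyMap_smul_id (koszulCx M fs) f m c)
    exact congrArg (fun φ : koszulCx M fs ⟶ koszulCx M fs => (HomologicalComplex.homologyMap φ m).hom c) (kmap_smul_id f fs)
  have e₂ := (ShortComplex.ShortExact.moduleCat_exact_iff_function_exact _).1 (hK.homology_exact₂ n)
  have e₃ := (ShortComplex.ShortExact.moduleCat_exact_iff_function_exact _).1
    (hK.homology_exact₃ n (n + 1) (by simp))
  have e₁ := (ShortComplex.ShortExact.moduleCat_exact_iff_function_exact _).1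
    (hK.homology_exact₁ n (n + 1) (by simp))
  refine (isZero_cone_smul_iff (koszulCx M fs) f n (n + 1) rfl).trans ?_
  rw [ModuleCat.isZero_iff_subsingleton]
  constructor
  · rintro ⟨h1, h2⟩
    refine subsingleton_of_forall_eq 0 fun d => ?_
    obtain ⟨c, rfl⟩ := (e₃ d).1 (h2 _ ((hmap _ _).symm.trans ((e₁ _).2 ⟨d, rfl⟩)))
    obtain ⟨c', rfl⟩ := h1 c
    exact (e₂ _).2 ⟨c', hmap n c'⟩
  · intro h
    refine ⟨fun c => ?_, fun c hc => ?_⟩
    · obtain ⟨c', hc'⟩ := (e₂ c).1 (@Subsingleton.elim _ h _ _)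
      exact ⟨c', (hmap n c').symm.trans hc'⟩
    · obtain ⟨d, rfl⟩ := (e₁ c).1 ((hmap _ c).trans hc)
      rw [@Subsingleton.elim _ h d 0]
      exact map_zero _

end Regular

theorem isZero_of_isWeaklyRegular : ∀ (fs : List A) (M : ModuleCat.{u} A),
    IsWeaklyRegular M fs → ∀ n : ℤ, n ≠ 0 → IsZero ((koszulCx M fs).homology n) := by
  intro fs
  induction fs with
  | nil =>
    intro M _ n hn
    exact ModuleCat.isZero_iff_subsingleton.2
      (subsingleton_homology_of_out M [] n (by simp only [List.length_nil]; omega))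
  | cons f fs ih =>
    intro M h n hn
    obtain ⟨h1, h2⟩ := (isWeaklyRegular_cons_iff M f fs).1 h
    exact (isZero_cons_iff h1 fs n).2 (ih (ModuleCat.of A (QuotSMulTop f M)) h2 n hn)

theorem koszul_eq : ∀ l : List A, _root_.Koszul.koszul A l = koszulCx (ModuleCat.of A A) l := by
  intro l
  induction l with
  | nil => rfl
  | cons f l ih =>
    show mappingCone (f • 𝟙 (_root_.Koszul.koszul A l)) = _
    rw [ih]
    rfl

end Groth.L04.Koszul
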