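import Groth.Agent.L04.Koszul.Vanish

/-!
# Depth sensitivity of the Koszul complex
-/

set_option autoImplicit false
set_option backward.isDefEq.respectTransparency.types false

universe u

open CategoryTheory CategoryTheory.Limits CochainComplex CohIII RingTheory.Sequence IsLocalRing

namespace Groth.L04.Koszul

variable {R : Type u} [CommRing R] [IsNoetherianRing R] [IsLocalRing R]

theorem nontrivial_quotSMulTop (M : Type u) [AddCommGroup M] [Module R M] [Module.Finite R M]
    [Nontrivial M] {x : R} (hx : x ∈ maximalIdeal R) : Nontrivial (QuotSMulTop x M) := by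
  refine Submodule.Quotient.nontrivial_iff.2 ?_
  exact fun h => Submodule.top_ne_pointwise_smul_of_mem_jacobson_annihilator
    (maximalIdeal_le_jacobson _ hx) h.symm

/-- Koszul cohomology below and at the depth. -/
theorem depth_sensitive (xs : List R) (hxs : ∀ x ∈ xs, x ∈ maximalIdeal R) (r : ℕ) :
    ∀ (M : Type u) [AddCommGroup M] [Module R M] [Module.Finite R M] [Nontrivial M],
      LocCoh.idealDepth (Ideal.ofList xs) M = r →
      (∀ j : ℤ, j + xs.length < r → IsZero ((koszulCx (ModuleCat.of R M) xs).homology j)) ∧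
        ∀ j : ℤ, j + xs.length = r → ¬ IsZero ((koszulCx (ModuleCat.of R M) xs).homology j) := by
  induction r with
  | zero =>
    intro M _ _ _ _ hd
    refine ⟨fun j hj => ModuleCat.isZero_iff_subsingleton.2
      (subsingleton_homology_of_out _ xs j (Or.inr (by simpa using hj))), fun j hj h0 => ?_⟩
    rcases exists_regular_or_killed (Ideal.ofList xs) M with ⟨y, hy, hreg⟩ | ⟨z, hz0, hz⟩
    · have := one_le_idealDepth_of_regular hy hreg
      rw [hd] at this
      norm_num at this
    · obtain ⟨c, hc⟩ := (mem_range_botMap (ModuleCat.of R M) xs j (by simpa using hj) z).2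
        fun a ha => hz a (Ideal.subset_span ha)
      haveI := ModuleCat.subsingleton_of_isZero h0
      rw [Subsingleton.elim c 0, map_zero] at hc
      exact hz0 hc.symm
  | succ r ih =>
    intro M _ _ _ _ hd
    obtain ⟨y, hy, hreg⟩ : ∃ y ∈ Ideal.ofList xs, IsSMulRegular M y := by
      rcases exists_regular_or_killed (Ideal.ofList xs) M with h | ⟨z, hz0, hz⟩
      · exact h
      · exact absurd (hom_zero_of_one_le (I := Ideal.ofList xs) (z := z) (by rw [hd]; simp) hz) hz0
    have hym : y ∈ maximalIdeal R := (Ideal.span_le.2 hxs) hy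
    haveI := nontrivial_quotSMulTop M hym
    obtain ⟨ihv, ihn⟩ := ih (QuotSMulTop y M) (by
      have h := idealDepth_quotSMulTop_add_one hy hreg
      rw [hd, Nat.cast_add_one] at h
      exact (ENat.add_left_injective_of_ne_top ENat.one_ne_top) h)
    have hS := (show IsSMulRegular (ModuleCat.of R M) y from hreg).smulShortComplex_shortExact
    have hK := kSeq_shortExact hS xs
    have hmap : ∀ (m : ℤ) (c : (kSeq hS xs).X₁.homology m),
        (HomologicalComplex.homologyMap (kSeq hS xs).f m).hom c = 0 := fun m c => by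
      refine Eq.trans ?_ (smul_homology_eq_zero (ModuleCat.of R M) hy m c)
      refine Eq.trans ?_ (homologyMap_smul_id (koszulCx (ModuleCat.of R M) xs) y m c)
      exact congrArg (fun φ : koszulCx (ModuleCat.of R M) xs ⟶ koszulCx (ModuleCat.of R M) xs =>
        (HomologicalComplex.homologyMap φ m).hom c) (kmap_smul_id y xs)
    have e₁ := fun (j : ℤ) => (ShortComplex.ShortExact.moduleCat_exact_iff_function_exact _).1
      (hK.homology_exact₁ j (j + 1) (by simp))
    have hvan : ∀ j : ℤ, j + xs.length < (r + 1 : ℕ) →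
        IsZero ((koszulCx (ModuleCat.of R M) xs).homology j) := fun j hj => by
      obtain ⟨i, rfl⟩ : ∃ i, j = i + 1 := ⟨j - 1, (sub_add_cancel j 1).symm⟩
      refine ModuleCat.isZero_iff_subsingleton.2 (subsingleton_of_forall_eq 0 fun c => ?_)
      obtain ⟨d, rfl⟩ := (e₁ i c).1 (hmap _ c)
      haveI := ModuleCat.subsingleton_of_isZero (ihv i (by push_cast at hj ⊢; omega))
      exact (congrArg (hK.δ i (i + 1) (by simp)).hom (Subsingleton.elim
        (α := (koszulCx (ModuleCat.of R (QuotSMulTop y M)) xs).homology i) d 0)).trans (map_zero _)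
    refine ⟨hvan, fun j hj h0 => ?_⟩
    obtain ⟨i, rfl⟩ : ∃ i, j = i + 1 := ⟨j - 1, (sub_add_cancel j 1).symm⟩
    refine ihn i (by push_cast at hj ⊢; omega) (ModuleCat.isZero_iff_subsingleton.2
      (subsingleton_of_forall_eq 0 fun d => ?_))
    have e₃ := (ShortComplex.ShortExact.moduleCat_exact_iff_function_exact _).1
      (hK.homology_exact₃ i (i + 1) (by simp))
    obtain ⟨c, rfl⟩ := (e₃ d).1 (@Subsingleton.elim _ (ModuleCat.subsingleton_of_isZero h0) _ _)
    have := ModuleCat.subsingleton_of_isZero (hvan i (by push_cast at hj ⊢; omega))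
    exact (congrArg (HomologicalComplex.homologyMap (kSeq hS xs).g i).hom
      (@Subsingleton.elim _ this c 0)).trans (map_zero _)

end Groth.L04.Koszul
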