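import Groth.Agent.L04.Koszul.Lim
import Groth.Agent.L04.Depth
import Mathlib.Algebra.Category.ModuleCat.EnoughInjectives
import Mathlib.Algebra.Category.ModuleCat.Injective

/-!
# Local cohomology is the direct limit of Koszul cohomology
-/

set_option autoImplicit false
set_option backward.isDefEq.respectTransparency.types false

universe u

open CategoryTheory CategoryTheory.Limits CohIII

namespace Groth.L04.Koszul

variable {A : Type u} [CommRing A]

/-- Two cokernels over a common submodule. -/
theorem nonempty_equiv_of_presentations {Q U U' X X' : Type u} [AddCommGroup Q] [Module A Q]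
    [AddCommGroup U] [Module A U] [AddCommGroup U'] [Module A U'] [AddCommGroup X] [Module A X]
    [AddCommGroup X'] [Module A X'] (b : U →ₗ[A] Q) (b' : U' →ₗ[A] Q) (hb : Function.Injective b)
    (hb' : Function.Injective b') (hr : LinearMap.range b = LinearMap.range b')
    (d : U →ₗ[A] X) (d' : U' →ₗ[A] X') (hd : Function.Surjective d) (hd' : Function.Surjective d')
    (W : Submodule A Q) (hk : LinearMap.ker d = W.comap b) (hk' : LinearMap.ker d' = W.comap b') :
    Nonempty (X ≃ₗ[A] X') := by
  let e : U ≃ₗ[A] U' := (LinearEquiv.ofInjective b hb).trans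
    ((LinearEquiv.ofEq _ _ hr).trans (LinearEquiv.ofInjective b' hb').symm)
  have he : ∀ u, b' (e u) = b u := fun u => by
    show b' ((LinearEquiv.ofInjective b' hb').symm
      (LinearEquiv.ofEq _ _ hr (LinearEquiv.ofInjective b hb u))) = b u
    rw [LinearEquiv.ofInjective_symm_apply]
    rfl
  refine ⟨(d.quotKerEquivOfSurjective hd).symm.trans
    ((Submodule.Quotient.equiv _ _ e ?_).trans (d'.quotKerEquivOfSurjective hd'))⟩
  rw [hk, hk']
  ext u'
  obtain ⟨u, rfl⟩ := e.surjective u'
  show e u ∈ Submodule.map e.toLinearMap _ ↔ _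
  constructor
  · rintro ⟨v, hv, hve⟩
    rw [← e.injective hve]
    show b' (e v) ∈ W
    rw [he]
    exact hv
  · intro h
    refine ⟨u, ?_, rfl⟩
    show b u ∈ W
    rw [← he]
    exact h

theorem exists_injective_sequence (M : ModuleCat.{u} A) :
    ∃ S : ShortComplex (ModuleCat.{u} A), S.ShortExact ∧ S.X₁ = M ∧ Injective S.X₂ := by
  refine ⟨ShortComplex.mk (Injective.ι M) (cokernel.π (Injective.ι M)) (cokernel.condition _), ?_, rfl,
    inferInstanceAs (Injective (Injective.under M))⟩
  exact { exact := ShortComplex.exact_cokernel _, mono_f := inferInstance, epi_g := inferInstance }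

theorem nonempty_H_equiv_HLim [IsNoetherianRing A] (fs : List A) (i : ℕ) :
    ∀ M : ModuleCat.{u} A, Nonempty ((localCohomology (Ideal.ofList fs) i).obj M ≃ₗ[A]
      HLim fs M ((i : ℤ) - fs.length)) := by
  induction i with
  | zero =>
    intro M
    have hj : (((0 : ℕ) : ℤ) - fs.length) + fs.length = 0 := by omega
    exact ⟨(LinearEquiv.ofInjective _ (LC.evalZero_injective (Ideal.ofList fs) M)).trans
      ((LinearEquiv.ofEq _ _ ((LC.range_evalZero _ M).trans (range_botL fs M _ hj).symm)).trans
        (LinearEquiv.ofInjective _ (botL_injective fs M _ hj)).symm)⟩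
  | succ i ih =>
    intro M
    obtain ⟨S, hS, rfl, hE⟩ := exists_injective_sequence M
    have hjk : ((i : ℤ) - fs.length) + 1 = ((i + 1 : ℕ) : ℤ) - fs.length := by push_cast; ring
    have hEi : Module.Injective A S.X₂ := (Module.injective_iff_injective_object A S.X₂).2 hE
    have hHE := LC.subsingleton_H_succ_of_injective (Ideal.ofList fs) i S.X₂
    have hLE := subsingleton_HLim_of_injective fs S.X₂ hEi (((i + 1 : ℕ) : ℤ) - fs.length) (by omega)
    have hHd : Function.Surjective (LC.Hδ (Ideal.ofList fs) hS i) := fun x =>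
      (LC.H_exact₁ (Ideal.ofList fs) hS i x).1 (@Subsingleton.elim _ hHE _ _)
    have hLd : Function.Surjective (dL fs hS _ _ hjk) := fun x =>
      (lim_exact₁ fs hS _ _ hjk x).1 (@Subsingleton.elim _ hLE _ _)
    rcases i with _ | i
    · have hj : (((0 : ℕ) : ℤ) - fs.length) + fs.length = 0 := by omega
      refine nonempty_equiv_of_presentations (LC.evalZero (Ideal.ofList fs) S.X₃)
        (botL fs S.X₃ _ hj) (LC.evalZero_injective _ _) (botL_injective fs _ _ hj)
        ((LC.range_evalZero _ _).trans (range_botL fs _ _ hj).symm) _ _ hHd hLd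
        (Submodule.map S.g.hom (DRing.torsionSub (Ideal.ofList fs) S.X₂)) ?_ ?_
      · ext u
        rw [LinearMap.mem_ker, LC.H_exact₃ (Ideal.ofList fs) hS 0 u, Submodule.mem_comap,
          ← LC.range_evalZero, Submodule.mem_map]
        constructor
        · rintro ⟨w, rfl⟩
          exact ⟨_, ⟨w, rfl⟩, (LC.evalZero_natural _ S.g w).symm⟩
        · rintro ⟨_, ⟨w, rfl⟩, h⟩
          exact ⟨w, LC.evalZero_injective _ _ ((LC.evalZero_natural _ S.g w).trans h)⟩
      · ext u
        rw [LinearMap.mem_ker, lim_exact₃ fs hS _ _ hjk u, Submodule.mem_comap,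
          ← range_botL fs S.X₂ _ hj, Submodule.mem_map]
        constructor
        · rintro ⟨w, rfl⟩
          exact ⟨_, ⟨w, rfl⟩, (botL_natural fs S.g _ hj w).symm⟩
        · rintro ⟨_, ⟨w, rfl⟩, h⟩
          exact ⟨w, botL_injective fs _ _ hj ((botL_natural fs S.g _ hj w).trans h)⟩
    · obtain ⟨e⟩ := ih S.X₃
      have hHE' := LC.subsingleton_H_succ_of_injective (Ideal.ofList fs) i S.X₂
      have hLE' := subsingleton_HLim_of_injective fs S.X₂ hEi (((i + 1 : ℕ) : ℤ) - fs.length) (by omega)
      have h1 : Function.Injective (LC.Hδ (Ideal.ofList fs) hS (i + 1)) := by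
        rw [injective_iff_map_eq_zero]
        intro x hx
        obtain ⟨w, rfl⟩ := (LC.H_exact₃ (Ideal.ofList fs) hS (i + 1) x).1 hx
        rw [@Subsingleton.elim _ hHE' w 0, map_zero]
      have h2 : Function.Injective (dL fs hS _ _ hjk) := by
        rw [injective_iff_map_eq_zero]
        intro x hx
        obtain ⟨w, rfl⟩ := (lim_exact₃ fs hS _ _ hjk x).1 hx
        rw [@Subsingleton.elim _ hLE' w 0, map_zero]
      exact ⟨(LinearEquiv.ofBijective _ ⟨h1, hHd⟩).symm.trans
        (e.trans (LinearEquiv.ofBijective _ ⟨h2, hLd⟩))⟩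

end Groth.L04.Koszul
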