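import Groth.Agent.L04.Koszul.Affine
import Groth.Agent.L04.Koszul.Compare

/-!
# The punctured spectrum of a Noetherian ring
-/

set_option autoImplicit false
set_option backward.isDefEq.respectTransparency.types false

universe u

open CategoryTheory CategoryTheory.Limits TopologicalSpace Opposite AlgebraicGeometry

namespace Groth.L04.Koszul.Cech

variable {A : Type u} [CommRing A]

theorem exists_list [IsNoetherianRing A] (I : Ideal A) :
    ∃ fs : List A, Ideal.span {a | a ∈ fs} = I := by
  obtain ⟨s, hs⟩ := IsNoetherian.noetherian I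
  refine ⟨s.toList, ?_⟩
  rw [← hs]
  congr 1
  ext a
  simp

theorem nonempty_hhon_punctured (fs : List A) (M : ModuleCat.{u} A) (p : ℕ) (hp : 1 ≤ p) :
    Nonempty (Coh.HHon (Spec (CommRingCat.of A)) (tilde (R := CommRingCat.of A) M)
      (LocCoh.puncturedOpen A (Ideal.span {a | a ∈ fs})) p ≃+ HLim fs M (((p + 1 : ℕ) : ℤ) - fs.length)) := by
  rw [puncturedOpen_eq]
  obtain ⟨e⟩ := Groth.L17.nonempty_cechH_equiv (X := Spec (CommRingCat.of A))
    (fun i : ULift.{u} (Fin fs.length) => (PrimeSpectrum.basicOpen (fam fs i) : (Spec (CommRingCat.of A)).Opens))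
    (tilde (R := CommRingCat.of A) M) (fun n a => by
      rw [← Groth.L10.Cech.tup_eq_iInf (X := (Spec (CommRingCat.of A)).toTopCat)
        (fun i : ULift.{u} (Fin fs.length) => (PrimeSpectrum.basicOpen (fam fs i) : (Spec (CommRingCat.of A)).Opens)) a,
        ← specBasicOpen_prod_eq]
      exact IsAffineOpen.Spec_basicOpen (R := CommRingCat.of A) _) p
  obtain ⟨e₁⟩ := (tildeLocData (fam fs) M).nonempty_cechHTop_equiv p
  obtain ⟨e₂⟩ := nonempty_HLim_equiv_cx fs M p hp (((p + 1 : ℕ) : ℤ) - fs.length) (sub_add_cancel _ _)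
  obtain ⟨e'⟩ := Groth.L17.nonempty_hhon_equiv (tilde (R := CommRingCat.of A) M)
    (⨆ i : ULift.{u} (Fin fs.length), (PrimeSpectrum.basicOpen (fam fs i) : (Spec (CommRingCat.of A)).Opens)) p
  exact ⟨e'.trans (e.symm.trans (e₁.trans e₂.symm.toAddEquiv))⟩

theorem nonempty_hhon_punctured_localCohomology [IsNoetherianRing A] (I : Ideal A) (M : ModuleCat.{u} A)
    (p : ℕ) (hp : 1 ≤ p) :
    Nonempty (Coh.HHon (Spec (CommRingCat.of A)) (tilde (R := CommRingCat.of A) M)
      (LocCoh.puncturedOpen A I) p ≃+ ((localCohomology I (p + 1)).obj M : Type u)) := by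
  obtain ⟨fs, rfl⟩ := exists_list I
  obtain ⟨e⟩ := nonempty_hhon_punctured fs M p hp
  obtain ⟨e'⟩ := nonempty_H_equiv_HLim fs (p + 1) M
  exact ⟨e.trans e'.symm.toAddEquiv⟩

theorem exists_toOpen_punctured [IsNoetherianRing A] (I : Ideal A) (M : ModuleCat.{u} A) :
    LinearMap.ker (tilde.toOpen (R := CommRingCat.of A) M (LocCoh.puncturedOpen A I)).hom =
      DRing.torsionSub I M ∧
    Nonempty (((modulesSpecToSheaf.obj (tilde (R := CommRingCat.of A) M)).presheaf.obj
      (op (LocCoh.puncturedOpen A I)) ⧸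
        LinearMap.range (tilde.toOpen (R := CommRingCat.of A) M (LocCoh.puncturedOpen A I)).hom) ≃ₗ[A]
      (localCohomology I 1).obj M) := by
  obtain ⟨fs, rfl⟩ := exists_list I
  let D := tildeLocData (fam fs) M
  have hts : ∀ V : (Spec (CommRingCat.of A)).Opens,
      D.toSect V = (tilde.toOpen (R := CommRingCat.of A) M V).hom := fun V =>
    (ModuleCat.hom_comp _ _).symm.trans (congrArg ModuleCat.Hom.hom
      (tilde.toOpen_res (R := CommRingCat.of A) M ⊤ V (homOfLE le_top)))
  rw [puncturedOpen_eq, ← hts]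
  have hQ : TopCat.Presheaf.IsSheaf (D.Q : TopCat.Presheaf AddCommGrpCat.{u} (Spec (CommRingCat.of A)).toTopCat) :=
    (tilde (R := CommRingCat.of A) M).isSheaf
  obtain ⟨e, he⟩ := D.exists_sections_equiv hQ
  refine ⟨?_, ?_⟩
  · rw [show DRing.torsionSub (Ideal.span {a | a ∈ fs}) M = LinearMap.ker (aug (fam fs) M) from
      (ker_aug fs M).symm]
    ext m
    rw [LinearMap.mem_ker, LinearMap.mem_ker, ← he]
    constructor
    · intro h
      refine (congrArg (fun z => (e z : (cx (fam fs) M).X 0)) h).trans ?_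
      exact congrArg Subtype.val (map_zero e)
    · intro h
      exact e.injective ((Subtype.ext h : e (D.toSect _ m) = 0).trans (map_zero e).symm)
  · obtain ⟨-, ⟨b⟩⟩ := nonempty_ker_coker_equiv fs M D hQ (-(fs.length : ℤ))
      (((1 : ℕ) : ℤ) - fs.length) (by omega) (by omega)
    obtain ⟨e'⟩ := nonempty_H_equiv_HLim fs 1 M
    exact ⟨b.trans e'.symm⟩

theorem iSup_torsionBy_eq (I : Ideal A) (N : Type u) [AddCommGroup N] [Module A N] :
    (⨆ n : ℕ, LocCoh.torsionBy (I ^ n) N) = DRing.torsionSub I N := by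
  have hdir : Directed (· ≤ ·) fun n : ℕ => LocCoh.torsionBy (I ^ n) N :=
    (show Monotone fun n : ℕ => LocCoh.torsionBy (I ^ n) N from fun a b h =>
      Submodule.torsionBySet_le_torsionBySet_of_subset (Ideal.pow_le_pow_right h)).directed_le
  ext x
  rw [Submodule.mem_iSup_of_directed _ hdir]
  simp only [Submodule.mem_torsionBySet_iff, Subtype.forall, SetLike.mem_coe]
  rfl

/-- Sections on the punctured open have no torsion. -/
theorem torsionSub_punctured (fs : List A) (M : ModuleCat.{u} A) :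
    DRing.torsionSub (Ideal.span {a | a ∈ fs})
      ((modulesSpecToSheaf.obj (tilde (R := CommRingCat.of A) M)).presheaf.obj
        (op (LocCoh.puncturedOpen A (Ideal.span {a | a ∈ fs}))) : Type u) = ⊥ := by
  rw [puncturedOpen_eq]
  let D := tildeLocData (fam fs) M
  have hQ : TopCat.Presheaf.IsSheaf (D.Q : TopCat.Presheaf AddCommGrpCat.{u} (Spec (CommRingCat.of A)).toTopCat) :=
    (tilde (R := CommRingCat.of A) M).isSheaf
  obtain ⟨e, -⟩ := D.exists_sections_equiv hQ
  refine (Submodule.eq_bot_iff _).2 fun x hx => ?_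
  obtain ⟨n, hn⟩ := hx
  refine e.injective ((Subtype.ext (ext_val (fam fs) fun a => ?_)).trans (map_zero e).symm)
  refine (inv_pow_smul_injective (fam fs) (inv_apply a 0) n ?_).trans (congrFun (map_zero (val (fam fs))) a).symm
  have h : fam fs (a 0) ^ n • e x = 0 :=
    (map_smul e _ x).symm.trans ((congrArg e (hn _ (pow_mem_ofList_pow fs (List.get_mem fs (a 0).down) le_rfl))).trans
      (map_zero e))
  exact congrFun ((map_smul (val (fam fs)) _ _).symm.trans
    ((congrArg (val (fam fs)) (congrArg Subtype.val h)).trans (map_zero _))) a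

/-- The restriction to the punctured open. -/
theorem ker_res_punctured [IsNoetherianRing A] (I : Ideal A) (M : ModuleCat.{u} A)
    (W : (Spec (CommRingCat.of A)).Opens) (hW : LocCoh.puncturedOpen A I ≤ W) :
    LinearMap.ker ((modulesSpecToSheaf.obj (tilde (R := CommRingCat.of A) M)).presheaf.map (homOfLE hW).op).hom =
      DRing.torsionSub I ((modulesSpecToSheaf.obj (tilde (R := CommRingCat.of A) M)).presheaf.obj (op W) : Type u) := by
  obtain ⟨fs, rfl⟩ := exists_list I
  haveI : IsNoetherianRing (CommRingCat.of A) := inferInstanceAs (IsNoetherianRing A)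
  ext s
  rw [LinearMap.mem_ker]
  constructor
  · intro hs
    refine (mem_torsionSub_iff fs s).2 fun i => ?_
    let a : Γ(Spec (CommRingCat.of A), W) :=
      (Spec (CommRingCat.of A)).presheaf.map (homOfLE (le_top : W ≤ ⊤)).op ((Scheme.ΓSpecIso (CommRingCat.of A)).inv (fs.get i))
    have hb : (Spec (CommRingCat.of A)).basicOpen a ≤ LocCoh.puncturedOpen A (Ideal.span {a | a ∈ fs}) := by
      rw [Scheme.basicOpen_res, puncturedOpen_eq]
      refine inf_le_right.trans (le_trans ?_ (le_iSup _ ⟨i⟩))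
      rw [show (Spec (CommRingCat.of A)).basicOpen ((Scheme.ΓSpecIso (CommRingCat.of A)).inv (fs.get i)) =
        PrimeSpectrum.basicOpen (fam fs ⟨i⟩) from basicOpen_eq_of_affine (R := CommRingCat.of A) _]
    obtain ⟨k, hk⟩ := Groth.L16.QcqsPush.exists_pow_smul_eq_zero (tilde (R := CommRingCat.of A) M)
      (TopologicalSpace.NoetherianSpace.isCompact _) a (show Γ(tilde (R := CommRingCat.of A) M, W) from s) ((by
        have := Groth.L18.Frame.rs_rs (tilde (R := CommRingCat.of A) M) hW hb s
        exact this.symm.trans ((congrArg (Groth.L18.Frame.rs _ hb) hs).trans (map_zero _))))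
    refine ⟨k, ?_⟩
    refine Eq.trans ?_ hk
    show (Spec (CommRingCat.of A)).presheaf.map (homOfLE (le_top : W ≤ ⊤)).op
        ((Scheme.ΓSpecIso (CommRingCat.of A)).inv (fs.get i ^ k)) •
        (show Γ(tilde (R := CommRingCat.of A) M, W) from s) =
      a ^ k • (show Γ(tilde (R := CommRingCat.of A) M, W) from s)
    rw [map_pow, map_pow]
  · rintro ⟨n, hn⟩
    refine (Submodule.eq_bot_iff _).1 (torsionSub_punctured fs M) _ ⟨n, fun b hb => ?_⟩
    rw [← map_smul, hn b hb, map_zero]

end Groth.L04.Koszul.Cech
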