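import Groth.Agent.L04.Koszul.Main
import Groth.Prelude.Def_LocCohZ

/-!
# Cohomology with supports on an affine scheme as direct limit Koszul cohomology
-/

set_option autoImplicit false
set_option backward.isDefEq.respectTransparency.types false

universe u

open CategoryTheory CategoryTheory.Limits TopologicalSpace Opposite AlgebraicGeometry CategoryTheory.Abelian

namespace Groth.L04.Koszul.Cech

variable {A : Type u} [CommRing A]

theorem specBasicOpen_prod_eq {ι : Type u} (f : ι → A) {n : ℕ} (a : Fin (n + 1) → ι) :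
    (PrimeSpectrum.basicOpen (cp f a) : (Spec (CommRingCat.of A)).Opens) =
      Groth.L10.Cech.tup (E := (Spec (CommRingCat.of A)).Opens)
        (fun i => (PrimeSpectrum.basicOpen (f i) : (Spec (CommRingCat.of A)).Opens)) a := by
  refine (Eq.trans ?_ (Groth.L10.Cech.tup_eq_iInf (X := (Spec (CommRingCat.of A)).toTopCat)
    (fun i => (PrimeSpectrum.basicOpen (f i) : (Spec (CommRingCat.of A)).Opens)) a).symm)
  induction n with
  | zero =>
    rw [show cp f a = f (a 0) from Fin.prod_univ_one _]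
    exact (le_iInf fun k => (congrArg (fun k => (PrimeSpectrum.basicOpen (f (a k)) : (Spec (CommRingCat.of A)).Opens))
      (Subsingleton.elim (α := Fin 1) k (0 : Fin 1))).ge).antisymm (iInf_le _ (0 : Fin 1))
  | succ n ih =>
    rw [show cp f a = f (a 0) * cp f (a ∘ Fin.succ) from Fin.prod_univ_succ _, PrimeSpectrum.basicOpen_mul,
      ih (a ∘ Fin.succ)]
    refine le_antisymm (le_iInf fun k => ?_) (le_inf (iInf_le _ 0) (le_iInf fun k => iInf_le _ k.succ))
    refine Fin.cases ?_ ?_ k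
    · exact inf_le_left
    · exact fun k => inf_le_right.trans (iInf_le _ k)

/-- The Čech data of `M~`. -/
noncomputable def tildeLocData {ι : Type u} (f : ι → A) (M : ModuleCat.{u} A) :
    LocData (X := (Spec (CommRingCat.of A)).toTopCat) f
      (fun i => (PrimeSpectrum.basicOpen (f i) : (Spec (CommRingCat.of A)).Opens)) M where
  P := (modulesSpecToSheaf.obj (tilde (R := CommRingCat.of A) M)).presheaf
  ρ := (tilde.toOpen (R := CommRingCat.of A) M ⊤).hom
  loc {n} a := by
    have key : ∀ (V : (Spec (CommRingCat.of A)).Opens), V = PrimeSpectrum.basicOpen (cp f a) →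
        IsLocalizedModule (Submonoid.powers (cp f a))
          (((modulesSpecToSheaf.obj (tilde (R := CommRingCat.of A) M)).presheaf.map
            (homOfLE (le_top : V ≤ ⊤)).op).hom.comp (tilde.toOpen (R := CommRingCat.of A) M ⊤).hom) := by
      rintro V rfl
      have e := tilde.toOpen_res (R := CommRingCat.of A) M ⊤ (PrimeSpectrum.basicOpen (cp f a))
        (homOfLE (le_top : (PrimeSpectrum.basicOpen (cp f a) : (Spec (CommRingCat.of A)).Opens) ≤ ⊤))
      exact (congrArg (fun φ : M ⟶ _ => IsLocalizedModule (Submonoid.powers (cp f a)) φ.hom) e).mpr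
        (tilde.instAwayCarrierCarrierObjOppositeOpensCarrierCarrierCommRingCatSpecModuleCatPresheafModulesSheafModulesSpecToSheafOpBasicOpenHomToOpen
          (R := CommRingCat.of A) M (cp f a))
    exact key _ (specBasicOpen_prod_eq f a).symm

theorem puncturedOpen_eq (fs : List A) :
    LocCoh.puncturedOpen A (Ideal.span {a | a ∈ fs}) =
      ⨆ i : ULift.{u} (Fin fs.length),
        (PrimeSpectrum.basicOpen (fam fs i) : (Spec (CommRingCat.of A)).Opens) := by
  ext x
  refine Iff.trans ?_ TopologicalSpace.Opens.mem_iSup.symm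
  show ¬ ((↑(Ideal.span {a | a ∈ fs}) : Set A) ⊆ ((x : PrimeSpectrum A).asIdeal : Set A)) ↔ _
  rw [SetLike.coe_subset_coe, Ideal.span_le, Set.not_subset]
  constructor
  · rintro ⟨a, ha, hx⟩
    obtain ⟨i, rfl⟩ := List.get_of_mem ha
    exact ⟨⟨i⟩, hx⟩
  · rintro ⟨i, hi⟩
    exact ⟨fam fs i, List.get_mem fs i.down, hi⟩

theorem hu₀_res {X : TopCat.{u}} {U V : Opens X} (h : V ≤ U) (F : CohTop.Ab X)
    (x : Groth.L17.HU U F 0) :
    Groth.L17.hu₀ V F ((Ext.mk₀ (Groth.L17.zMap h)).comp x (zero_add 0)) =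
      F.obj.map (homOfLE h).op (Groth.L17.hu₀ U F x) := by
  obtain ⟨g, rfl⟩ := Ext.addEquiv₀.symm.surjective x
  show Groth.L17.zAddEquiv V F (Ext.addEquiv₀ ((Ext.mk₀ (Groth.L17.zMap h)).comp (Ext.mk₀ g) (zero_add 0))) =
    F.obj.map (homOfLE h).op (Groth.L17.zAddEquiv U F (Ext.addEquiv₀ (Ext.mk₀ g)))
  rw [Ext.mk₀_comp_mk₀, show ∀ {P Q : CohTop.Ab X} (φ : P ⟶ Q), Ext.addEquiv₀ (Ext.mk₀ φ) = φ from
    fun φ => Ext.addEquiv₀.apply_symm_apply φ, show ∀ {P Q : CohTop.Ab X} (φ : P ⟶ Q),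
      Ext.addEquiv₀ (Ext.mk₀ φ) = φ from fun φ => Ext.addEquiv₀.apply_symm_apply φ]
  exact Groth.L17.zEquiv_zMap h g

theorem nonempty_HLim_HZM (fs : List A) (M : ModuleCat.{u} A) (i : ℕ) :
    Nonempty (HLim fs M ((i : ℤ) - fs.length) ≃+
      LocCohZ.HZM (Spec (CommRingCat.of A)) (tilde (R := CommRingCat.of A) M) i
        (LocCoh.puncturedOpen A (Ideal.span {a | a ∈ fs}))) := by
  rw [puncturedOpen_eq]
  let X := (Spec (CommRingCat.of A)).toTopCat
  let F : CohTop.Ab X := Coh.toAb (tilde (R := CommRingCat.of A) M)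
  let U : Opens X := ⨆ i : ULift.{u} (Fin fs.length),
    (PrimeSpectrum.basicOpen (fam fs i) : (Spec (CommRingCat.of A)).Opens)
  let D := tildeLocData (fam fs) M
  have hS := LocCohZ.zqSeq_shortExact (X := X) (le_top : U ≤ ⊤)
  have hρ : Function.Bijective D.ρ :=
    (@asIso _ _ _ _ (tilde.toOpen (R := CommRingCat.of A) M ⊤) (tilde.isIso_toOpen_top (R := CommRingCat.of A) (M := M))).toLinearEquiv.bijective
  have hQ : TopCat.Presheaf.IsSheaf (D.Q : TopCat.Presheaf AddCommGrpCat.{u} X) :=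
    (tilde (R := CommRingCat.of A) M).isSheaf
  have haff : ∀ n, ∀ x : Groth.L17.HU (⊤ : Opens X) F (n + 1), x = 0 := fun n x =>
    Groth.L17.hu_affine_eq_zero (tilde (R := CommRingCat.of A) M) (isAffineOpen_top _) n x
  let res : F.obj.obj (op ⊤) →+ F.obj.obj (op U) := (F.obj.map (homOfLE (le_top : U ≤ ⊤)).op).hom
  let δ : ∀ n, Groth.L17.HU U F n →+ LocCohZ.HZc F (n + 1) U := fun n =>
    hS.extClass.precomp F (by omega)
  have hsurj : ∀ n, Function.Surjective (δ n) := fun n x => by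
    obtain ⟨y, hy⟩ := Ext.contravariant_sequence_exact₃ hS F x (haff n _) (n₀ := n) (by omega)
    exact ⟨y, hy⟩
  have hker : ∀ n (x : Groth.L17.HU U F n), δ n x = 0 ↔
      ∃ y : Groth.L17.HU (⊤ : Opens X) F n, (Ext.mk₀ (Groth.L17.zMap (le_top : U ≤ ⊤))).comp y (zero_add n) = x := by
    intro n x
    refine ⟨fun hx => Ext.contravariant_sequence_exact₁ hS F x (by omega) hx, ?_⟩
    rintro ⟨y, rfl⟩
    exact ShortComplex.ShortExact.extClass_comp_assoc hS y (h := Nat.add_comm 1 n)
  rcases i with _ | i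
  · obtain ⟨⟨a⟩, -⟩ := nonempty_ker_coker_equiv fs M D hQ (((0 : ℕ) : ℤ) - fs.length)
      (1 - (fs.length : ℤ)) (by omega) (by omega)
    refine ⟨a.symm.toAddEquiv.trans (AddEquiv.trans ?_ (LocCohZ.sect0Equiv F (le_top : U ≤ ⊤)).symm)⟩
    refine AddEquiv.ofBijective
      ({ toFun := fun m => (⟨D.ρ m.1, m.2⟩ : LocCohZ.sectZ F (le_top : U ≤ ⊤))
         map_zero' := Subtype.ext (map_zero D.ρ)
         map_add' := fun m m' => Subtype.ext (map_add D.ρ m.1 m'.1) } :
        LinearMap.ker (D.toSect U) →+ LocCohZ.sectZ F (le_top : U ≤ ⊤)) ⟨fun m m' h => ?_, fun s => ?_⟩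
    · exact Subtype.ext (hρ.1 (congrArg Subtype.val h))
    · obtain ⟨m, hm⟩ := hρ.2 s.1
      have hmem : m ∈ LinearMap.ker (D.toSect U) := by
        show res (D.ρ m) = 0
        rw [hm]
        exact s.2
      exact ⟨⟨m, hmem⟩, Subtype.ext hm⟩
  rcases i with _ | i
  · obtain ⟨-, ⟨b⟩⟩ := nonempty_ker_coker_equiv fs M D hQ (-(fs.length : ℤ))
      (((0 + 1 : ℕ) : ℤ) - fs.length) (by omega) (by omega)
    let d : F.obj.obj (op U) →+ LocCohZ.HZc F 1 U :=
      (δ 0).comp (Groth.L17.hu₀ U F).symm.toAddMonoidHom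
    have hd : Function.Surjective d := (hsurj 0).comp (Groth.L17.hu₀ U F).symm.surjective
    let π : D.P.obj (op (⨆ i, (fun i : ULift.{u} (Fin fs.length) =>
        (PrimeSpectrum.basicOpen (fam fs i) : (Spec (CommRingCat.of A)).Opens)) i)) →+
        D.P.obj (op U) ⧸ LinearMap.range (D.toSect U) :=
      (LinearMap.range (D.toSect U)).mkQ.toAddMonoidHom
    have hπ : ∀ s, d s = 0 ↔ π s = 0 := fun s => by
      refine (hker 0 _).trans ?_
      refine Iff.trans ?_ (Submodule.Quotient.mk_eq_zero _).symm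
      constructor
      · rintro ⟨y, hy⟩
        obtain ⟨m, hm⟩ := hρ.2 (Groth.L17.hu₀ ⊤ F y)
        refine ⟨m, ?_⟩
        show res (D.ρ m) = s
        rw [hm]
        exact (hu₀_res (le_top : U ≤ ⊤) F y).symm.trans
          ((congrArg (Groth.L17.hu₀ U F) hy).trans ((Groth.L17.hu₀ U F).apply_symm_apply s))
      · rintro ⟨m, hm⟩
        refine ⟨(Groth.L17.hu₀ ⊤ F).symm (D.ρ m), (Groth.L17.hu₀ U F).injective ?_⟩
        rw [hu₀_res, AddEquiv.apply_symm_apply]
        exact hm.trans ((Groth.L17.hu₀ U F).apply_symm_apply s).symm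
    have hπs : Function.Surjective π := Submodule.mkQ_surjective _
    exact ⟨b.symm.toAddEquiv.trans ((QuotientAddGroup.quotientKerEquivOfSurjective π hπs).symm.trans
      ((QuotientAddGroup.quotientAddEquivOfEq (show π.ker = d.ker from
        AddSubgroup.ext fun s => (hπ s).symm)).trans
          (QuotientAddGroup.quotientKerEquivOfSurjective d hd)))⟩
  · obtain ⟨e⟩ := Groth.L17.nonempty_cechH_equiv (X := Spec (CommRingCat.of A))
      (fun i : ULift.{u} (Fin fs.length) => (PrimeSpectrum.basicOpen (fam fs i) : (Spec (CommRingCat.of A)).Opens))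
      (tilde (R := CommRingCat.of A) M) (fun n a => by
        rw [← Groth.L10.Cech.tup_eq_iInf (X := (Spec (CommRingCat.of A)).toTopCat)
          (fun i : ULift.{u} (Fin fs.length) => (PrimeSpectrum.basicOpen (fam fs i) : (Spec (CommRingCat.of A)).Opens)) a,
          ← specBasicOpen_prod_eq]
        exact IsAffineOpen.Spec_basicOpen (R := CommRingCat.of A) _) (i + 1)
    obtain ⟨e₁⟩ := D.nonempty_cechHTop_equiv (i + 1)
    obtain ⟨e₂⟩ := nonempty_HLim_equiv_cx fs M (i + 1) (by omega) (((i + 1 + 1 : ℕ) : ℤ) - fs.length)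
      (sub_add_cancel _ _)
    refine ⟨e₂.toAddEquiv.trans (e₁.symm.trans (e.trans (AddEquiv.ofBijective (δ (i + 1)) ⟨?_, hsurj _⟩)))⟩
    rw [injective_iff_map_eq_zero]
    intro x hx
    obtain ⟨y, hy⟩ := (hker (i + 1) x).1 hx
    rw [← hy, haff i y, Ext.comp_zero]

end Groth.L04.Koszul.Cech
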