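import Groth.Prelude.Def_Koszul
import Groth.Prelude.Def_DTen
import Mathlib.Algebra.Homology.Monoidal
import Mathlib.Algebra.Homology.HomotopyCategory.MappingCone
import Mathlib.Algebra.Category.ModuleCat.Monoidal.Basic

/-! Tensor product commutes with mapping cones; `K(f) ⊗ K(g) ≅ K(f ++ g)`. -/

set_option autoImplicit false
set_option backward.defeqAttrib.useBackward true
set_option backward.isDefEq.respectTransparency false
set_option backward.isDefEq.respectTransparency.types false

universe u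

open CategoryTheory CategoryTheory.Limits MonoidalCategory CochainComplex HomologicalComplex
open CochainComplex.HomComplex

namespace Groth.L04.Koszul.TensorCone

noncomputable section

variable {A : Type u} [CommRing A]

theorem ι_d (K L : DRing.Cx A) (a b n n' : ℤ) (h : a + b = n) (h' : n + 1 = n') :
    ιTensorObj K L a b n h ≫ (K ⊗ L).d n n' =
      (K.d a (a + 1) ▷ L.X b) ≫ ιTensorObj K L (a + 1) b n' (by omega) +
        a.negOnePow • ((K.X a ◁ L.d b (b + 1)) ≫ ιTensorObj K L a (b + 1) n' (by omega)) := by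
  change ιTensorObj K L a b n h ≫ (HomologicalComplex.tensorObj K L).d n n' = _
  rw [mapBifunctor.d_eq, Preadditive.comp_add]
  erw [mapBifunctor.ι_D₁, mapBifunctor.ι_D₂]
  rw [mapBifunctor.d₁_eq K L (curriedTensor _) (ComplexShape.up ℤ) (show (ComplexShape.up ℤ).Rel a (a + 1) from rfl) b n' (show a + 1 + b = n' by omega),
    mapBifunctor.d₂_eq K L (curriedTensor _) (ComplexShape.up ℤ) a (show (ComplexShape.up ℤ).Rel b (b + 1) from rfl) n' (show a + (b + 1) = n' by omega)]
  congr 1
  exact one_smul _ _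

theorem hom_ext {K L : DRing.Cx A} {n : ℤ} {Y : ModuleCat.{u} A}
    {f g : (K ⊗ L).X n ⟶ Y}
    (h : ∀ (a b : ℤ) (h : a + b = n), ιTensorObj K L a b n h ≫ f = ιTensorObj K L a b n h ≫ g) :
    f = g :=
  mapBifunctor.hom_ext fun a b hab => h a b hab

/-- The morphism out of a degree of a tensor product. -/
abbrev desc {K L : DRing.Cx A} {n : ℤ} {Y : ModuleCat.{u} A}
    (f : ∀ a b : ℤ, a + b = n → (K.X a ⊗ L.X b ⟶ Y)) : (K ⊗ L).X n ⟶ Y :=
  mapBifunctorDesc (K₁ := K) (K₂ := L) (F := curriedTensor _) (c := ComplexShape.up ℤ) f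

theorem ι_desc {K L : DRing.Cx A} {n : ℤ} {Y : ModuleCat.{u} A}
    (f : ∀ a b : ℤ, a + b = n → (K.X a ⊗ L.X b ⟶ Y)) (a b : ℤ) (h : a + b = n) :
    ιTensorObj K L a b n h ≫ desc f = f a b h :=
  ι_mapBifunctorDesc (K₁ := K) (K₂ := L) (F := curriedTensor _) (c := ComplexShape.up ℤ) f a b h

theorem ι_map {K K' : DRing.Cx A} (φ : K ⟶ K') (L : DRing.Cx A) (a b n : ℤ) (h : a + b = n) :
    ιTensorObj K L a b n h ≫ (φ ▷ L).f n = (φ.f a ▷ L.X b) ≫ ιTensorObj K' L a b n h := by
  change ιTensorObj K L a b n h ≫ (mapBifunctorMap φ (𝟙 L) _ _).f n = _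
  rw [ι_mapBifunctorMap]
  simp

variable {K K' : DRing.Cx A} (φ : K ⟶ K') (L : DRing.Cx A)

/-- `inl ⊗ 1`. -/
def α : Cochain (K ⊗ L) (mappingCone φ ⊗ L) (-1) :=
  Cochain.mk fun p q hpq => desc fun a b h =>
    ((mappingCone.inl φ).v a (a - 1) (by omega) ▷ L.X b) ≫
      ιTensorObj (mappingCone φ) L (a - 1) b q (by omega)

theorem ι_α (a a' b p q : ℤ) (h : a + b = p) (hpq : p + (-1) = q) (ha : a + (-1) = a') :
    ιTensorObj K L a b p h ≫ (α φ L).v p q hpq =
      ((mappingCone.inl φ).v a a' ha ▷ L.X b) ≫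
        ιTensorObj (mappingCone φ) L a' b q (by omega) := by
  obtain rfl : a' = a - 1 := by omega
  exact ι_desc _ a b h

theorem δ_α : δ (-1) 0 (α φ L) = Cochain.ofHom ((φ ▷ L) ≫ (mappingCone.inr φ ▷ L)) := by
  refine Cochain.ext₀ _ _ fun p => ?_
  rw [δ_v (-1) 0 (neg_add_cancel 1) _ p p (add_zero p) (p - 1) (p + 1) rfl rfl, Cochain.ofHom_v,
    comp_f]
  refine hom_ext (A := A) (K := K) (L := L) (n := p) fun a b hab => ?_
  simp only [Preadditive.comp_add, Linear.comp_units_smul, Int.negOnePow_zero, one_smul]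
  rw [reassoc_of% ι_α φ L a (a - 1) b p (p - 1) hab _ (by omega),
    ι_d (mappingCone φ) L (a - 1) b (p - 1) p (by omega) (by omega),
    reassoc_of% ι_d K L a b p (p + 1) hab rfl,
    reassoc_of% ι_map φ L a b p hab, ι_map (mappingCone.inr φ) L a b p hab]
  simp only [Preadditive.add_comp, Category.assoc, Linear.units_smul_comp, Preadditive.comp_add,
    Linear.comp_units_smul]
  rw [ι_α φ L (a + 1) a b (p + 1) p (by omega) _ (by omega),
    ι_α φ L a (a - 1) (b + 1) (p + 1) p (by omega) _ (by omega),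
    ← comp_whiskerRight_assoc (φ.f a), ← whisker_exchange_assoc ((mappingCone.inl φ).v a (a - 1) (by omega)) (L.d b (b + 1))]
  have h1 : (a - 1).negOnePow = -a.negOnePow := by rw [Int.negOnePow_sub, Int.negOnePow_one]; simp
  rw [h1, Units.neg_smul]
  have h2 : (mappingCone.inl φ).v a (a - 1) (by omega) ≫ (mappingCone φ).d (a - 1) (a - 1 + 1) ≫
      ((mappingCone φ).XIsoOfEq (show a - 1 + 1 = a by omega)).hom =
      φ.f a ≫ (mappingCone.inr φ).f a - K.d a (a + 1) ≫ (mappingCone.inl φ).v (a + 1) a (by omega) := by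
    rw [HomologicalComplex.d_comp_XIsoOfEq_hom]
    exact mappingCone.inl_v_d φ a (a - 1) (a + 1) _ _
  have h3 : ∀ (x y : ℤ) (e : x = y) (hx : x + b = p),
      ιTensorObj (mappingCone φ) L x b p hx = (((mappingCone φ).XIsoOfEq e).hom ▷ L.X b) ≫
        ιTensorObj (mappingCone φ) L y b p (by omega) := by
    rintro x _ rfl hx
    simp
  rw [h3 (a - 1 + 1) a (by omega), ← comp_whiskerRight_assoc, ← comp_whiskerRight_assoc, Category.assoc, h2,
    show ∀ x y : _ ⟶ _, (x - y) ▷ L.X b = x ▷ L.X b - y ▷ L.X b from fun x y => (tensorRight (L.X b)).map_sub]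
  simp only [Preadditive.sub_comp, comp_whiskerRight, Category.assoc]
  abel

/-- `cone (φ ⊗ 1) ⟶ cone φ ⊗ L`. -/
def coneHom : mappingCone (φ ▷ L) ⟶ mappingCone φ ⊗ L :=
  mappingCone.desc (φ ▷ L) (α φ L) (mappingCone.inr φ ▷ L) (δ_α φ L)

/-- The inverse, degreewise. -/
def coneInv (n : ℤ) : (mappingCone φ ⊗ L).X n ⟶ (mappingCone (φ ▷ L)).X n :=
  desc fun a b h =>
    ((mappingCone.fst φ).1.v a (a + 1) rfl ▷ L.X b) ≫ ιTensorObj K L (a + 1) b (n + 1) (by omega) ≫
        (mappingCone.inl (φ ▷ L)).v (n + 1) n (by omega) +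
      ((mappingCone.snd φ).v a a (add_zero a) ▷ L.X b) ≫ ιTensorObj K' L a b n h ≫
        (mappingCone.inr (φ ▷ L)).f n

instance isIso_coneHom : IsIso (coneHom φ L) := by
  haveI : ∀ n, IsIso ((coneHom φ L).f n) := fun n => by
    refine ⟨⟨coneInv φ L n, ?_, ?_⟩⟩
    · refine mappingCone.ext_from (φ ▷ L) (n + 1) n rfl ?_ ?_
      · rw [Category.comp_id, coneHom, ← Category.assoc, mappingCone.inl_v_desc_f]
        refine hom_ext (A := A) (K := K) (L := L) (n := n + 1) fun a b hab => ?_
        rw [reassoc_of% ι_α φ L a (a - 1) b (n + 1) n hab _ (by omega), coneInv, ι_desc,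
          Preadditive.comp_add, ← comp_whiskerRight_assoc, ← comp_whiskerRight_assoc,
          mappingCone.inl_v_snd_v]
        have h3 : ∀ (x y : ℤ) (e : x + 1 = y) (hy : y + b = n + 1),
            ((mappingCone.inl φ).v y x (by omega) ≫ (mappingCone.fst φ).1.v x (x + 1) rfl) ▷ L.X b ≫
              ιTensorObj K L (x + 1) b (n + 1) (by omega) = ιTensorObj K L y b (n + 1) hy := by
          rintro x _ rfl hy
          rw [mappingCone.inl_v_fst_v, id_whiskerRight, Category.id_comp]
        rw [← Category.assoc _ (ιTensorObj K L _ b (n + 1) _), h3 (a - 1) a (by omega) hab]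
        simp
      · rw [Category.comp_id, coneHom, ← Category.assoc, mappingCone.inr_f_desc_f]
        refine hom_ext (A := A) (K := K') (L := L) (n := n) fun a b hab => ?_
        rw [reassoc_of% ι_map (mappingCone.inr φ) L a b n hab, coneInv, ι_desc, Preadditive.comp_add,
          ← comp_whiskerRight_assoc, ← comp_whiskerRight_assoc, mappingCone.inr_f_fst_v,
          mappingCone.inr_f_snd_v, id_whiskerRight, Category.id_comp]
        simp
    · refine hom_ext (A := A) (K := mappingCone φ) (L := L) (n := n) fun a b hab => ?_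
      refine Eq.trans ?_ (Category.comp_id _).symm
      rw [coneInv, ← Category.assoc, ι_desc, Preadditive.add_comp]
      simp only [Category.assoc, coneHom, mappingCone.inl_v_desc_f, mappingCone.inr_f_desc_f]
      rw [ι_α φ L (a + 1) a b (n + 1) n (by omega) _ (by omega),
        ι_map (mappingCone.inr φ) L a b n hab, ← comp_whiskerRight_assoc, ← comp_whiskerRight_assoc,
        ← Preadditive.add_comp,
        ← show ∀ x y : _ ⟶ _, (x + y) ▷ L.X b = x ▷ L.X b + y ▷ L.X b from
          fun x y => (tensorRight (L.X b)).map_add,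
        mappingCone.id_X, id_whiskerRight, Category.id_comp]
  exact HomologicalComplex.Hom.isIso_of_components _

/-- `cone φ ⊗ L ≅ cone (φ ⊗ 1)`. -/
def coneIso : mappingCone φ ⊗ L ≅ mappingCone (φ ▷ L) := (asIso (coneHom φ L)).symm

omit φ in
theorem smul_id_whiskerRight (f : A) : (f • 𝟙 K) ▷ L = f • 𝟙 (K ⊗ L) := by
  refine HomologicalComplex.Hom.ext (funext fun n => ?_)
  refine hom_ext (A := A) (K := K) (L := L) (n := n) fun a b hab => ?_
  rw [ι_map, HomologicalComplex.smul_f_apply, HomologicalComplex.smul_f_apply, HomologicalComplex.id_f,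
    HomologicalComplex.id_f, show (f • 𝟙 (K.X a)) ▷ L.X b = f • (𝟙 (K.X a) ▷ L.X b) from
      (tensorRight (L.X b)).map_smul f (𝟙 (K.X a)), id_whiskerRight, Linear.smul_comp,
    Category.id_comp, Linear.comp_smul]
  exact congrArg (f • ·) (Category.comp_id _).symm

omit φ in
/-- Cones of a scalar on isomorphic complexes. -/
def coneSmulIso {P Q : DRing.Cx A} (e : P ≅ Q) (f : A) :
    mappingCone (f • 𝟙 P) ≅ mappingCone (f • 𝟙 Q) where
  hom := mappingCone.map _ _ e.hom e.hom (by simp)
  inv := mappingCone.map _ _ e.inv e.inv (by simp)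
  hom_inv_id := by simp [← mappingCone.map_comp, mappingCone.map_id]
  inv_hom_id := by simp [← mappingCone.map_comp, mappingCone.map_id]

omit φ in
theorem koszul_tensor (g : List A) : ∀ f : List A,
    Nonempty (_root_.Koszul.koszul A f ⊗ _root_.Koszul.koszul A g ≅ _root_.Koszul.koszul A (f ++ g))
  | [] => ⟨λ_ (_root_.Koszul.koszul A g)⟩
  | a :: f => by
    obtain ⟨e⟩ := koszul_tensor g f
    exact ⟨coneIso (a • 𝟙 (_root_.Koszul.koszul A f)) (_root_.Koszul.koszul A g) ≪≫
      eqToIso (congrArg (fun t => mappingCone t) (smul_id_whiskerRight _ a)) ≪≫ coneSmulIso e a⟩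

end

end Groth.L04.Koszul.TensorCone
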