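import Groth.Agent.L04.Koszul.Cone
import Groth.Agent.L04.Koszul.Vanish
import Groth.Agent.L04.Koszul.TensorCone
import Groth.Agent.L05.Kosz.Basic
import Groth.Agent.S14433
import Mathlib.Algebra.Category.ModuleCat.Monoidal.Symmetric
import Mathlib.Data.Fintype.Card
import Mathlib.Data.Fintype.Sum
import Mathlib.Data.Fintype.Option

/-!
Appending elements of the ideal to a Koszul sequence.
-/

set_option autoImplicit false
set_option linter.all false
set_option backward.isDefEq.respectTransparency.types false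
noncomputable section
universe u

open CategoryTheory CategoryTheory.Limits CochainComplex CochainComplex.HomComplex MonoidalCategory
open Groth.L28.Kun (Z cl)

namespace Groth.L04.Koszul

variable {A : Type u} [CommRing A]

/-- The homology of the cone of a null-homotopic map splits. -/
theorem nonempty_cone_homology_split {K P : CochainComplex (ModuleCat.{u} A) ℤ} (φ : P ⟶ K)
    (h : Homotopy φ 0) (i j : ℤ) (hij : i + 1 = j) :
    Nonempty ((mappingCone φ).homology i ≃ₗ[A] (K.homology i × P.homology j)) := by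
  obtain ⟨α, hα⟩ := Cochain.equivHomotopy φ 0 h
  let r : mappingCone φ ⟶ K := mappingCone.desc φ α (𝟙 K) (by
    rw [Category.comp_id, hα, Cochain.ofHom_zero, add_zero])
  have hr : ∀ a : K.homology i,
      (HomologicalComplex.homologyMap r i).hom ((HomologicalComplex.homologyMap (mappingCone.inr φ) i).hom a) = a :=
    fun a => by
      rw [← ModuleCat.comp_apply, ← HomologicalComplex.homologyMap_comp, mappingCone.inr_desc,
        HomologicalComplex.homologyMap_id]
      rfl
  let Ψ := (HomologicalComplex.homologyMap r i).hom.prod (deltaC φ i j hij)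
  refine ⟨LinearEquiv.ofBijective Ψ ⟨?_, ?_⟩⟩
  · rw [injective_iff_map_eq_zero]
    intro c hc
    obtain ⟨a, rfl⟩ := (exact_inr_deltaC φ i j hij c).1 (congrArg Prod.snd hc)
    have := congrArg Prod.fst hc
    change (HomologicalComplex.homologyMap r i).hom _ = 0 at this
    rw [hr] at this
    rw [this, map_zero]
  · rintro ⟨a, b⟩
    obtain ⟨c, rfl⟩ := (exact_deltaC_map φ i j hij b).1 (by
      rw [h.homologyMap_eq, HomologicalComplex.homologyMap_zero]; rfl)
    refine ⟨c + (HomologicalComplex.homologyMap (mappingCone.inr φ) i).hom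
      (a - (HomologicalComplex.homologyMap r i).hom c), Prod.ext ?_ ?_⟩
    · show (HomologicalComplex.homologyMap r i).hom (_ + _) = a
      rw [map_add, hr, add_sub_cancel]
    · show deltaC φ i j hij (_ + _) = deltaC φ i j hij c
      rw [map_add, (exact_inr_deltaC φ i j hij).apply_apply_eq_zero, add_zero]

/-- the splitting indexed by an abstract weighted finite type -/
theorem exists_weights (M : ModuleCat.{u} A) (xs : List A) : ∀ ys : List A,
    (∀ y ∈ ys, y ∈ Ideal.span {a | a ∈ xs}) →
    ∃ (ι : Type) (_ : Fintype ι) (w : ι → ℕ),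
      (∀ j, Nat.card {i // w i = j} = ys.length.choose j) ∧
      ∀ m : ℤ, Nonempty ((CohIII.koszulCx M (ys ++ xs)).homology m ≃ₗ[A]
        ((i : ι) → (CohIII.koszulCx M xs).homology (m + w i))) := by
  intro ys
  induction ys with
  | nil =>
    intro _
    refine ⟨Unit, inferInstance, fun _ => 0, fun j => ?_, fun m => ⟨?_⟩⟩
    · cases j with
      | zero => simp
      | succ j => simp
    · have e : (CohIII.koszulCx M xs).homology m = (CohIII.koszulCx M xs).homology (m + ((0 : ℕ) : ℤ)) := by simp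
      exact (eqToIso e).toLinearEquiv ≪≫ₗ (LinearEquiv.funUnique Unit A _).symm
  | cons y ys ih =>
    intro hy
    obtain ⟨ι, _, w, hw, he⟩ := ih fun z hz => hy z (List.mem_cons_of_mem _ hz)
    refine ⟨ι ⊕ ι, inferInstance, Sum.elim w (fun i => w i + 1), fun j => ?_, fun m => ?_⟩
    · rw [Nat.card_congr (Equiv.subtypeSum), Nat.card_sum]
      cases j with
      | zero =>
        haveI : IsEmpty {i : ι // w i + 1 = 0} := ⟨fun i => Nat.succ_ne_zero _ i.2⟩
        simp only [Sum.elim_inl, Sum.elim_inr, hw, Nat.card_of_isEmpty, List.length_cons, Nat.choose_zero_right, Nat.add_zero]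
      | succ j =>
        simp only [Sum.elim_inl, Sum.elim_inr, hw]
        rw [Nat.card_congr (Equiv.subtypeEquivRight (p := fun i => w i + 1 = j + 1) (q := fun i => w i = j) fun i => Nat.succ_inj), hw,
          List.length_cons, Nat.choose_succ_succ, Nat.add_comm]
    · obtain ⟨h⟩ := Groth.Agent.S14433.result M (ys ++ xs) y (Ideal.span_mono
        (fun a (ha : a ∈ xs) => List.mem_append_right ys ha) (hy y (List.mem_cons_self)))
      obtain ⟨e⟩ := nonempty_cone_homology_split (y • 𝟙 (CohIII.koszulCx M (ys ++ xs))) h m (m + 1) rfl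
      obtain ⟨e₀⟩ := he m
      obtain ⟨e₁⟩ := he (m + 1)
      let c : ∀ i, (CohIII.koszulCx M xs).homology (m + 1 + w i) ≃ₗ[A]
          (CohIII.koszulCx M xs).homology (m + ((w i + 1 : ℕ) : ℤ)) := fun i =>
        (eqToIso (show (CohIII.koszulCx M xs).homology (m + 1 + (w i : ℤ)) = (CohIII.koszulCx M xs).homology (m + ((w i + 1 : ℕ) : ℤ)) by
          rw [show m + 1 + (w i : ℤ) = m + ((w i + 1 : ℕ) : ℤ) by omega])).toLinearEquiv
      exact ⟨e ≪≫ₗ (e₀.prodCongr (e₁ ≪≫ₗ LinearEquiv.piCongrRight c)) ≪≫ₗ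
        (LinearEquiv.sumPiEquivProdPi A ι ι fun s => (CohIII.koszulCx M xs).homology (m + (Sum.elim w (fun i => w i + 1) s : ℕ))).symm⟩

theorem nonempty_homology_append (M : ModuleCat.{u} A) (xs ys : List A)
    (hy : ∀ y ∈ ys, y ∈ Ideal.span {a | a ∈ xs}) (m : ℤ) :
    Nonempty ((DRing.tensorCx (_root_.Koszul.koszul A (xs ++ ys)) M).homology m ≅
      ModuleCat.of A ((j : Fin (ys.length + 1)) → Fin (ys.length.choose j) →
        (DRing.tensorCx (_root_.Koszul.koszul A xs) M).homology (m + j))) := by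
  classical
  obtain ⟨ι, _, w, hw, he⟩ := exists_weights M xs ys hy
  obtain ⟨e⟩ := he m
  obtain ⟨k₁⟩ := TensorCone.koszul_tensor ys xs
  obtain ⟨k₂⟩ := TensorCone.koszul_tensor xs ys
  let κ : _root_.Koszul.koszul A (xs ++ ys) ≅ _root_.Koszul.koszul A (ys ++ xs) :=
    k₁.symm ≪≫ _root_.DTen.braidCx _ _ ≪≫ k₂
  let e' : (DRing.tensorCx (_root_.Koszul.koszul A (xs ++ ys)) M).homology m ≅ (CohIII.koszulCx M (ys ++ xs)).homology m :=
    (HomologicalComplex.homologyFunctor _ _ m).mapIso
      (((tensorRight M).mapHomologicalComplex _).mapIso κ ≪≫ Groth.L05.Kosz.tensorIso M (ys ++ xs))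
  let t : ∀ n, (CohIII.koszulCx M xs).homology n ≃ₗ[A] (DRing.tensorCx (_root_.Koszul.koszul A xs) M).homology n := fun n =>
    ((HomologicalComplex.homologyFunctor _ _ n).mapIso (Groth.L05.Kosz.tensorIso M xs)).symm.toLinearEquiv
  have hle : ∀ i, w i < ys.length + 1 := fun i => by
    by_contra hlt
    haveI : Nonempty {i' // w i' = w i} := ⟨⟨i, rfl⟩⟩
    have := hw (w i)
    rw [Nat.choose_eq_zero_of_lt (by omega)] at this
    exact Nat.card_pos.ne' this
  let b : ∀ j : Fin (ys.length + 1), Fin (ys.length.choose j) ≃ {i // w i = (j : ℕ)} := fun j =>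
    (Finite.equivFinOfCardEq (hw j)).symm
  let F : ℕ → Type u := fun n => (DRing.tensorCx (_root_.Koszul.koszul A xs) M).homology (m + n)
  let cast' : ∀ {p q : ℕ}, p = q → (F p →ₗ[A] F q) := fun hpq =>
    (eqToHom (congrArg (fun n : ℕ => (DRing.tensorCx (_root_.Koszul.koszul A xs) M).homology (m + n)) hpq)).hom
  have hcast : ∀ {p : ℕ} (h : p = p) (x : F p), cast' h x = x := fun _ _ => rfl
  let G : ((i : ι) → F (w i)) →ₗ[A] ((j : Fin (ys.length + 1)) → Fin (ys.length.choose j) → F j) :=
    LinearMap.pi fun j => LinearMap.pi fun k => (cast' (b j k).2) ∘ₗ LinearMap.proj (b j k).1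
  have hG : Function.Bijective G := by
    constructor
    · intro v v' h
      funext i
      have := congrFun (congrFun h ⟨w i, hle i⟩) ((b ⟨w i, hle i⟩).symm ⟨i, rfl⟩)
      change cast' (b _ _).2 (v (b _ _).1) = cast' (b _ _).2 (v' (b _ _).1) at this
      generalize hs : b ⟨w i, hle i⟩ ((b ⟨w i, hle i⟩).symm ⟨i, rfl⟩) = s at this
      rw [Equiv.apply_symm_apply] at hs
      subst hs
      exact (hcast rfl (v i)).symm.trans (this.trans (hcast rfl (v' i)))
    · intro z
      refine ⟨fun i => z ⟨w i, hle i⟩ ((b ⟨w i, hle i⟩).symm ⟨i, rfl⟩), ?_⟩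
      funext j k
      show cast' (b j k).2 _ = z j k
      obtain ⟨n, hn⟩ := j
      obtain ⟨s, hs⟩ : ∃ s, s = b ⟨n, hn⟩ k := ⟨_, rfl⟩
      rw [show k = (b ⟨n, hn⟩).symm s by rw [hs, Equiv.symm_apply_apply]]
      clear hs k
      obtain ⟨i, hi⟩ := s
      change w i = n at hi
      subst hi
      generalize hT : b ⟨w i, hn⟩ ((b ⟨w i, hn⟩).symm ⟨i, rfl⟩) = T
      rw [Equiv.apply_symm_apply] at hT
      subst hT
      exact hcast rfl _
  exact ⟨(e'.toLinearEquiv ≪≫ₗ e ≪≫ₗ LinearEquiv.piCongrRight (fun i => t (m + w i)) ≪≫ₗ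
    LinearEquiv.ofBijective G hG).toModuleIso⟩

end Groth.L04.Koszul
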