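import Groth.Agent.L04.Koszul.Cone
import Groth.Prelude.Def_ega3

/-!
# The iterated-cone Koszul complex: bounds, functoriality, bottom and top degree
-/

set_option autoImplicit false
set_option backward.isDefEq.respectTransparency.types false

universe u

open CategoryTheory CategoryTheory.Limits CochainComplex CohIII
open Groth.L02.PC (coneEquiv)
open Groth.L28.Kun (Z cl cl_surjective cl_eq_zero_iff homologyMap_cl)

namespace Groth.L04.Koszul

variable {A : Type u} [CommRing A]

/-- The cone step of the Koszul complex. -/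
noncomputable abbrev stepHom (M : ModuleCat.{u} A) (f : A) (fs : List A) :
    koszulCx M fs ⟶ koszulCx M fs := f • 𝟙 (koszulCx M fs)

variable (M : ModuleCat.{u} A)

theorem isZero_X (fs : List A) : ∀ n : ℤ, 0 < n ∨ n + fs.length < 0 →
    IsZero ((koszulCx M fs).X n) := by
  induction fs with
  | nil =>
    intro n hn
    refine HomologicalComplex.isZero_single_obj_X _ _ _ _ ?_
    simp only [List.length_nil] at hn
    omega
  | cons f fs ih =>
    intro n hn
    simp only [List.length_cons] at hn
    exact (mappingCone.isZero_X_iff (stepHom M f fs) n).2 ⟨ih _ (by omega), ih _ (by omega)⟩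

theorem subsingleton_homology_of_out (fs : List A) (n : ℤ) (hn : 0 < n ∨ n + fs.length < 0) :
    Subsingleton ((koszulCx M fs).homology n) := by
  have := ModuleCat.isZero_iff_subsingleton.1 (isZero_X M fs n hn)
  refine subsingleton_of_forall_eq 0 fun c => ?_
  obtain ⟨x, rfl⟩ := exists_mk _ c
  rw [show x = 0 from Subtype.ext (Subsingleton.elim _ _), map_zero]

theorem exists_cmk_cons {f : A} {fs : List A} (i j : ℤ) (hij : i + 1 = j)
    (z : (koszulCx M (f :: fs)).X i) :
    ∃ p x, cmk (stepHom M f fs) i j hij p x = z := exists_cmk _ hij z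

section Functoriality

variable {N : ModuleCat.{u} A} (g : M ⟶ N)

variable {M}

/-- Functoriality of the Koszul complex in the module. -/
noncomputable def kmap : ∀ fs : List A, koszulCx M fs ⟶ koszulCx N fs
  | [] => (HomologicalComplex.single (ModuleCat.{u} A) (ComplexShape.up ℤ) 0).map g
  | f :: fs => mappingCone.map (stepHom M f fs) (stepHom N f fs) (kmap fs) (kmap fs)
      (by simp only [stepHom, Linear.smul_comp, Linear.comp_smul, Category.id_comp, Category.comp_id])

theorem kmap_cmk (f : A) (fs : List A) {i j : ℤ} (hij : i + 1 = j) (p : (koszulCx M fs).X j)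
    (x : (koszulCx M fs).X i) :
    (kmap g (f :: fs)).f i (cmk (stepHom M f fs) i j hij p x) =
      cmk (stepHom N f fs) i j hij ((kmap g fs).f j p) ((kmap g fs).f i x) :=
  map_cmk _ _ _ _ _ hij p x

theorem single_X_eq (n : ℤ) (hn : n = 0) : Function.Bijective
    (HomologicalComplex.singleObjXIsoOfEq (ComplexShape.up ℤ) (0 : ℤ) M n hn).hom :=
  (HomologicalComplex.singleObjXIsoOfEq (ComplexShape.up ℤ) (0 : ℤ) M n hn).toLinearEquiv.bijective

theorem kmap_nil_apply (n : ℤ) (hn : n = 0) (x : (koszulCx M []).X n) :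
    (HomologicalComplex.singleObjXIsoOfEq (ComplexShape.up ℤ) (0 : ℤ) N n hn).hom
        ((kmap g []).f n x) =
      g ((HomologicalComplex.singleObjXIsoOfEq (ComplexShape.up ℤ) (0 : ℤ) M n hn).hom x) := by
  subst hn
  show _ = g ((HomologicalComplex.singleObjXSelf (ComplexShape.up ℤ) 0 M).hom x)
  show (HomologicalComplex.singleObjXSelf (ComplexShape.up ℤ) 0 N).hom
    (((HomologicalComplex.single (ModuleCat.{u} A) (ComplexShape.up ℤ) 0).map g).f 0 x) = _
  rw [HomologicalComplex.single_map_f_self, ← ConcreteCategory.comp_apply,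
    ← ConcreteCategory.comp_apply, Category.assoc, Category.assoc, Iso.inv_hom_id, Category.comp_id]

theorem kmap_injective (hg : Function.Injective g) :
    ∀ (fs : List A) (n : ℤ), Function.Injective ((kmap g fs).f n) := by
  intro fs
  induction fs with
  | nil =>
    intro n
    by_cases hn : n = 0
    · intro x y h
      apply (single_X_eq (M := M) n hn).1
      apply hg
      rw [← kmap_nil_apply, ← kmap_nil_apply, h]
    · intro x y _
      exact (ModuleCat.isZero_iff_subsingleton.1 (isZero_X M [] n
        (by simp only [List.length_nil]; omega))).elim x y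
  | cons f fs ih =>
    intro n z w h
    obtain ⟨p, x, rfl⟩ := exists_cmk_cons M n (n + 1) rfl z
    obtain ⟨q, y, rfl⟩ := exists_cmk_cons M n (n + 1) rfl w
    rw [kmap_cmk, kmap_cmk] at h
    obtain ⟨h1, h2⟩ := cmk_inj _ rfl h
    rw [ih _ h1, ih _ h2]

theorem kmap_surjective (hg : Function.Surjective g) :
    ∀ (fs : List A) (n : ℤ), Function.Surjective ((kmap g fs).f n) := by
  intro fs
  induction fs with
  | nil =>
    intro n y
    by_cases hn : n = 0
    · obtain ⟨m, hm⟩ := hg
        ((HomologicalComplex.singleObjXIsoOfEq (ComplexShape.up ℤ) (0 : ℤ) N n hn).hom y)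
      obtain ⟨x, hx⟩ := (single_X_eq (M := M) n hn).2 m
      exact ⟨x, (single_X_eq (M := N) n hn).1 (by rw [kmap_nil_apply, hx, hm])⟩
    · exact ⟨0, (ModuleCat.isZero_iff_subsingleton.1 (isZero_X N [] n
        (by simp only [List.length_nil]; omega))).elim _ _⟩
  | cons f fs ih =>
    intro n w
    obtain ⟨q, y, rfl⟩ := exists_cmk_cons N n (n + 1) rfl w
    obtain ⟨p, rfl⟩ := ih _ q
    obtain ⟨x, rfl⟩ := ih _ y
    exact ⟨_, kmap_cmk g f fs rfl p x⟩

theorem kmap_exact {P : ModuleCat.{u} A} {h : N ⟶ P} (hex : Function.Exact g h) :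
    ∀ (fs : List A) (n : ℤ), Function.Exact ((kmap g fs).f n) ((kmap h fs).f n) := by
  intro fs
  induction fs with
  | nil =>
    intro n y
    by_cases hn : n = 0
    · constructor
      · intro hy
        obtain ⟨m, hm⟩ := (hex _).1 (((kmap_nil_apply h n hn y).symm.trans (congrArg _ hy)).trans (map_zero _))
        obtain ⟨x, hx⟩ := (single_X_eq (M := M) n hn).2 m
        exact ⟨x, (single_X_eq (M := N) n hn).1 (by rw [kmap_nil_apply, hx, hm])⟩
      · rintro ⟨x, rfl⟩
        apply (single_X_eq (M := P) n hn).1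
        rw [kmap_nil_apply, kmap_nil_apply]
        exact ((hex _).2 ⟨_, rfl⟩).trans (map_zero _).symm
    · exact ⟨fun _ => ⟨0, (ModuleCat.isZero_iff_subsingleton.1 (isZero_X N [] n
        (by simp only [List.length_nil]; omega))).elim _ _⟩,
        fun _ => (ModuleCat.isZero_iff_subsingleton.1 (isZero_X P [] n
        (by simp only [List.length_nil]; omega))).elim _ _⟩
  | cons f fs ih =>
    intro n w
    obtain ⟨q, y, rfl⟩ := exists_cmk_cons N n (n + 1) rfl w
    rw [kmap_cmk]
    constructor
    · intro hw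
      obtain ⟨h1, h2⟩ := cmk_inj _ rfl (hw.trans (cmk_zero (stepHom P f fs) rfl).symm)
      obtain ⟨p, rfl⟩ := (ih _ _).1 h1
      obtain ⟨x, rfl⟩ := (ih _ _).1 h2
      exact ⟨_, kmap_cmk g f fs rfl p x⟩
    · rintro ⟨z, hz⟩
      obtain ⟨p, x, rfl⟩ := exists_cmk_cons M n (n + 1) rfl z
      rw [kmap_cmk] at hz
      obtain ⟨h1, h2⟩ := cmk_inj _ rfl hz
      rw [(ih _ _).2 ⟨p, h1⟩, (ih _ _).2 ⟨x, h2⟩]
      exact cmk_zero _ rfl

theorem kmap_smul_id (a : A) : ∀ fs : List A, kmap (a • 𝟙 M) fs = a • 𝟙 (koszulCx M fs) := by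
  intro fs
  induction fs with
  | nil =>
    refine HomologicalComplex.Hom.ext (funext fun n => ModuleCat.hom_ext (LinearMap.ext fun x => ?_))
    by_cases hn : n = 0
    · exact (single_X_eq (M := M) n hn).1 ((kmap_nil_apply (a • 𝟙 M) n hn x).trans (map_smul (HomologicalComplex.singleObjXIsoOfEq (ComplexShape.up ℤ) (0 : ℤ) M n hn).hom.hom a x).symm)
    · exact (ModuleCat.isZero_iff_subsingleton.1 (isZero_X M [] n
        (by simp only [List.length_nil]; omega))).elim _ _
  | cons f fs ih =>
    refine HomologicalComplex.Hom.ext (funext fun n => ModuleCat.hom_ext (LinearMap.ext fun z => ?_))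
    obtain ⟨p, x, rfl⟩ := exists_cmk_cons M n (n + 1) rfl z
    refine (kmap_cmk (a • 𝟙 M) f fs rfl p x).trans ?_
    rw [ih]
    exact (smul_cmk _ rfl a p x).symm

end Functoriality

section ShortExact

variable {S : ShortComplex (ModuleCat.{u} A)} (hS : S.ShortExact) (fs : List A)

/-- The short complex of Koszul complexes. -/
noncomputable def kSeq : ShortComplex (CochainComplex (ModuleCat.{u} A) ℤ) :=
  ShortComplex.mk (kmap S.f fs) (kmap S.g fs) (by
    refine HomologicalComplex.Hom.ext (funext fun n => ModuleCat.hom_ext (LinearMap.ext fun x => ?_))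
    exact (kmap_exact S.f ((ShortComplex.ShortExact.moduleCat_exact_iff_function_exact S).1 hS.exact) fs n _).2
      ⟨x, rfl⟩)

theorem kSeq_shortExact : (kSeq hS fs).ShortExact := by
  refine HomologicalComplex.shortExact_of_degreewise_shortExact _ fun n => ?_
  refine { exact := ?_, mono_f := ?_, epi_g := ?_ }
  · rw [ShortComplex.ShortExact.moduleCat_exact_iff_function_exact]
    exact kmap_exact S.f ((ShortComplex.ShortExact.moduleCat_exact_iff_function_exact S).1 hS.exact) fs n
  · rw [ModuleCat.mono_iff_injective]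
    haveI := hS.mono_f
    exact kmap_injective S.f ((ModuleCat.mono_iff_injective _).1 inferInstance) fs n
  · rw [ModuleCat.epi_iff_surjective]
    haveI := hS.epi_g
    exact kmap_surjective S.g ((ModuleCat.epi_iff_surjective _).1 inferInstance) fs n

end ShortExact

section Trans

variable {M}

theorem trans_cmk (f : A) (fs : List A) {n m : ℕ} (h : n ≤ m) {i j : ℤ} (hij : i + 1 = j)
    (p : (koszulCx M (fs.map (· ^ n))).X j) (x : (koszulCx M (fs.map (· ^ n))).X i) :
    (koszulTrans M n m h (f :: fs)).f i (cmk (stepHom M (f ^ n) (fs.map (· ^ n))) i j hij p x) =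
      cmk (stepHom M (f ^ m) (fs.map (· ^ m))) i j hij ((koszulTrans M n m h fs).f j p)
        (f ^ (m - n) • (koszulTrans M n m h fs).f i x) :=
  map_cmk _ _ _ _ _ hij p x

theorem trans_self (n : ℕ) : ∀ (fs : List A) (i : ℤ) (z : (koszulCx M (fs.map (· ^ n))).X i),
    (koszulTrans M n n le_rfl fs).f i z = z := by
  intro fs
  induction fs with
  | nil => intro i z; rfl
  | cons f fs ih =>
    intro i z
    obtain ⟨p, x, rfl⟩ := exists_cmk (stepHom M (f ^ n) (fs.map (· ^ n))) (rfl : i + 1 = i + 1) z
    refine (trans_cmk f fs le_rfl rfl p x).trans ?_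
    rw [ih, ih, Nat.sub_self, pow_zero, one_smul]

theorem trans_trans {n m l : ℕ} (h : n ≤ m) (h' : m ≤ l) :
    ∀ (fs : List A) (i : ℤ) (z : (koszulCx M (fs.map (· ^ n))).X i),
      (koszulTrans M m l h' fs).f i ((koszulTrans M n m h fs).f i z) =
        (koszulTrans M n l (h.trans h') fs).f i z := by
  intro fs
  induction fs with
  | nil => intro i z; rfl
  | cons f fs ih =>
    intro i z
    obtain ⟨p, x, rfl⟩ := exists_cmk (stepHom M (f ^ n) (fs.map (· ^ n))) (rfl : i + 1 = i + 1) z
    refine Eq.trans ?_ (trans_cmk f fs (h.trans h') rfl p x).symm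
    erw [trans_cmk f fs h rfl p x, trans_cmk f fs h' rfl]
    erw [map_smul]
    rw [ih, ih, smul_smul, ← pow_add, show l - m + (m - n) = l - n by omega]

theorem trans_kmap {N : ModuleCat.{u} A} (g : M ⟶ N) {n m : ℕ} (h : n ≤ m) :
    ∀ fs : List A, koszulTrans M n m h fs ≫ kmap g (fs.map (· ^ m)) =
      kmap g (fs.map (· ^ n)) ≫ koszulTrans N n m h fs := by
  intro fs
  induction fs with
  | nil =>
    refine HomologicalComplex.Hom.ext (funext fun i => ModuleCat.hom_ext (LinearMap.ext fun z => ?_))
    change (kmap g ([] : List A)).f i ((𝟙 (koszulCx M ([] : List A)) : _ ⟶ _).f i z) =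
      (𝟙 (koszulCx N ([] : List A)) : _ ⟶ _).f i ((kmap g ([] : List A)).f i z)
    rfl
  | cons f fs ih =>
    refine HomologicalComplex.Hom.ext (funext fun i => ModuleCat.hom_ext (LinearMap.ext fun z => ?_))
    obtain ⟨p, x, rfl⟩ := exists_cmk (stepHom M (f ^ n) (fs.map (· ^ n))) (rfl : i + 1 = i + 1) z
    have e : ∀ (k : ℤ) (y : (koszulCx M (fs.map (· ^ n))).X k),
        (kmap g (fs.map (· ^ m))).f k ((koszulTrans M n m h fs).f k y) =
          (koszulTrans N n m h fs).f k ((kmap g (fs.map (· ^ n))).f k y) := fun k y =>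
      ConcreteCategory.congr_hom (congrArg (fun φ => HomologicalComplex.Hom.f φ k) ih) y
    show (kmap g (f ^ m :: fs.map (· ^ m))).f i ((koszulTrans M n m h (f :: fs)).f i _) =
      (koszulTrans N n m h (f :: fs)).f i ((kmap g (f ^ n :: fs.map (· ^ n))).f i _)
    refine Eq.trans (congrArg (fun w => (kmap g (f ^ m :: fs.map (· ^ m))).f i w)
      (trans_cmk f fs h rfl p x)) ?_
    refine (kmap_cmk g (f ^ m) (fs.map (· ^ m)) rfl _ _).trans ?_
    refine Eq.trans ?_ (congrArg (fun w => (koszulTrans N n m h (f :: fs)).f i w)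
      (kmap_cmk g (f ^ n) (fs.map (· ^ n)) rfl p x)).symm
    refine Eq.trans ?_ (trans_cmk f fs h rfl _ _).symm
    exact congrArg₂ (cmk (stepHom N (f ^ m) (fs.map (· ^ m))) i (i + 1) rfl) (e _ p)
      ((map_smul ((kmap g (fs.map (· ^ m))).f i).hom _ _).trans (congrArg (f ^ (m - n) • ·) (e _ x)))

end Trans

section Bottom

/-- The identification of the homology in the bottom degree with a submodule of the module. -/
noncomputable def botMap : ∀ (fs : List A) (j : ℤ), j + fs.length = 0 →
    ((koszulCx M fs).homology j →ₗ[A] M)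
  | [], j, hj => descCl (koszulCx M [])
      ((HomologicalComplex.singleObjXIsoOfEq (ComplexShape.up ℤ) (0 : ℤ) M j
        (by simpa using hj)).hom.hom.comp (Z (koszulCx M []) j).subtype)
      (by
        rintro x ⟨y, hy⟩
        have h0 : y = 0 := (ModuleCat.isZero_iff_subsingleton.1 (isZero_X M [] (j - 1)
          (by simp only [List.length_nil, Nat.cast_zero] at hj ⊢; omega))).elim _ _
        rw [h0, map_zero] at hy
        show (HomologicalComplex.singleObjXIsoOfEq (ComplexShape.up ℤ) (0 : ℤ) M j
          (by simpa using hj)).hom.hom x.1 = 0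
        rw [← hy]
        exact map_zero _)
  | f :: fs, j, hj => (botMap fs (j + 1) (by simp only [List.length_cons] at hj; omega)).comp
      (deltaC (stepHom M f fs) j (j + 1) rfl)

theorem botMap_injective : ∀ (fs : List A) (j : ℤ) (hj : j + fs.length = 0),
    Function.Injective (botMap M fs j hj) := by
  intro fs
  induction fs with
  | nil =>
    intro j hj
    rw [← LinearMap.ker_eq_bot, Submodule.eq_bot_iff]
    intro c hc
    obtain ⟨x, rfl⟩ := exists_mk _ c
    rw [LinearMap.mem_ker, botMap, descCl_cl, LinearMap.comp_apply] at hc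
    rw [show x = 0 from Subtype.ext ((single_X_eq (M := M) j (by simpa using hj)).1
      (hc.trans (map_zero _).symm)), map_zero]
  | cons f fs ih =>
    intro j hj
    suffices hinj : Function.Injective (deltaC (stepHom M f fs) j (j + 1) rfl) from fun c c' h =>
      hinj (ih (j + 1) (by simp only [List.length_cons] at hj; omega) h)
    rw [injective_iff_map_eq_zero]
    intro c hc
    obtain ⟨c', rfl⟩ := (exact_inr_deltaC (stepHom M f fs) j (j + 1) rfl c).1 hc
    haveI := subsingleton_homology_of_out M fs j (by simp only [List.length_cons] at hj; omega)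
    rw [Subsingleton.elim c' 0, map_zero]

theorem mem_range_botMap : ∀ (fs : List A) (j : ℤ) (hj : j + fs.length = 0) (m : M),
    m ∈ LinearMap.range (botMap M fs j hj) ↔ ∀ a ∈ fs, a • m = 0 := by
  intro fs
  induction fs with
  | nil =>
    intro j hj m
    refine ⟨fun _ a ha => absurd ha List.not_mem_nil, fun _ => ?_⟩
    obtain ⟨x, hx⟩ := (single_X_eq (M := M) j (by simpa using hj)).2 m
    have hx0 : x ∈ Z (koszulCx M []) j := (ModuleCat.isZero_iff_subsingleton.1 (isZero_X M [] (j + 1)
      (by simp only [List.length_nil, Nat.cast_zero] at hj ⊢; omega))).elim _ _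
    exact ⟨cl _ j ⟨x, hx0⟩, by rw [botMap, descCl_cl]; exact hx⟩
  | cons f fs ih =>
    intro j hj m
    constructor
    · rintro ⟨c, rfl⟩ a ha
      rcases List.mem_cons.1 ha with rfl | ha
      · show a • botMap M fs _ _ (deltaC (stepHom M a fs) j (j + 1) rfl c) = 0
        rw [← map_smul, ← homologyMap_smul_id (koszulCx M fs) a]
        erw [(exact_deltaC_map (stepHom M a fs) j (j + 1) rfl _).2 ⟨c, rfl⟩]
        exact map_zero _
      · exact (ih _ _ _).1 ⟨_, rfl⟩ a ha
    · intro hm
      obtain ⟨c', hc'⟩ := (ih (j + 1) (by simp only [List.length_cons] at hj; omega) m).2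
        fun a ha => hm a (List.mem_cons_of_mem _ ha)
      obtain ⟨c, rfl⟩ := (exact_deltaC_map (stepHom M f fs) j (j + 1) rfl c').1 (by
        refine (homologyMap_smul_id (koszulCx M fs) f _ c').trans ?_
        refine botMap_injective M fs _ (by simp only [List.length_cons] at hj; omega) ?_
        rw [map_smul, hc', map_zero]
        exact hm f List.mem_cons_self)
      exact ⟨c, hc'⟩

variable {M}

theorem botMap_kmap {N : ModuleCat.{u} A} (g : M ⟶ N) : ∀ (fs : List A) (j : ℤ)
    (hj : j + fs.length = 0) (c : (koszulCx M fs).homology j),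
    botMap N fs j hj (HomologicalComplex.homologyMap (kmap g fs) j c) = g (botMap M fs j hj c) := by
  intro fs
  induction fs with
  | nil =>
    intro j hj c
    obtain ⟨x, rfl⟩ := exists_mk _ c
    rw [homologyMap_cl, botMap, descCl_cl, botMap, descCl_cl]
    exact kmap_nil_apply g j (by simpa using hj) x.1
  | cons f fs ih =>
    intro j hj c
    show botMap N fs _ _ (deltaC (stepHom N f fs) j (j + 1) rfl _) = g (botMap M fs _ _ _)
    erw [deltaC_naturality (stepHom M f fs) (stepHom N f fs)]
    exact ih _ _ _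

theorem botMap_trans {n m : ℕ} (h : n ≤ m) : ∀ (fs : List A) (j : ℤ) (hj : j + fs.length = 0)
    (c : (koszulCx M (fs.map (· ^ n))).homology j),
    botMap M (fs.map (· ^ m)) j (by simpa using hj)
        (HomologicalComplex.homologyMap (koszulTrans M n m h fs) j c) =
      botMap M (fs.map (· ^ n)) j (by simpa using hj) c := by
  intro fs
  induction fs with
  | nil =>
    intro j hj c
    exact congrArg _ (homologyMap_id_apply (K := koszulCx M []) j c)
  | cons f fs ih =>
    intro j hj c
    show botMap M (fs.map (· ^ m)) (j + 1) _ (deltaC (stepHom M (f ^ m) (fs.map (· ^ m))) j (j + 1) rfl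
      _) = botMap M (fs.map (· ^ n)) (j + 1) _ _
    erw [deltaC_naturality (stepHom M (f ^ n) (fs.map (· ^ n))) (stepHom M (f ^ m) (fs.map (· ^ m)))]
    exact ih _ (by simp only [List.length_cons] at hj; omega) _

end Bottom

section Top

/-- The surjection of the module on the homology in degree zero. -/
noncomputable def topMap : ∀ fs : List A, M →ₗ[A] (koszulCx M fs).homology 0
  | [] => (cl (koszulCx M []) 0).comp (LinearMap.codRestrict _
      (HomologicalComplex.singleObjXIsoOfEq (ComplexShape.up ℤ) (0 : ℤ) M 0 rfl).inv.hom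
      (fun _ => (ModuleCat.isZero_iff_subsingleton.1
        (isZero_X M [] ((0 : ℤ) + 1) (Or.inl (by norm_num)))).elim _ _))
  | f :: fs => (HomologicalComplex.homologyMap (mappingCone.inr (stepHom M f fs)) 0).hom.comp
      (topMap fs)

theorem topMap_surjective : ∀ fs : List A, Function.Surjective (topMap M fs) := by
  intro fs
  induction fs with
  | nil =>
    intro c
    obtain ⟨x, rfl⟩ := exists_mk _ c
    refine ⟨(HomologicalComplex.singleObjXIsoOfEq (ComplexShape.up ℤ) (0 : ℤ) M 0 rfl).hom x.1, ?_⟩
    exact congrArg (cl (koszulCx M []) 0) (Subtype.ext ((HomologicalComplex.singleObjXIsoOfEq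
      (ComplexShape.up ℤ) (0 : ℤ) M 0 rfl).hom_inv_id_apply x.1))
  | cons f fs ih =>
    intro d
    haveI := subsingleton_homology_of_out M fs 1 (Or.inl one_pos)
    obtain ⟨c, rfl⟩ := (exact_inr_deltaC (stepHom M f fs) 0 1 (zero_add 1) d).1 (Subsingleton.elim _ _)
    obtain ⟨m, rfl⟩ := ih c
    exact ⟨m, rfl⟩

theorem ker_topMap : ∀ fs : List A,
    LinearMap.ker (topMap M fs) = Ideal.ofList fs • (⊤ : Submodule A M) := by
  intro fs
  induction fs with
  | nil =>
    rw [Ideal.ofList_nil, Submodule.bot_smul, Submodule.eq_bot_iff]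
    intro m hm
    rw [LinearMap.mem_ker, topMap, LinearMap.comp_apply, cl_eq_zero_iff _ (sub_add_cancel 0 1)] at hm
    obtain ⟨y, hy⟩ := hm
    rw [(ModuleCat.isZero_iff_subsingleton.1 (isZero_X M [] ((0 : ℤ) - 1)
      (Or.inr (by norm_num)))).elim y 0, map_zero] at hy
    have := congrArg (HomologicalComplex.singleObjXIsoOfEq (ComplexShape.up ℤ) (0 : ℤ) M 0 rfl).hom
      hy.symm
    erw [map_zero] at this
    exact (((HomologicalComplex.singleObjXIsoOfEq (ComplexShape.up ℤ) (0 : ℤ)
      M 0 rfl).inv_hom_id_apply m).symm.trans this)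
  | cons f fs ih =>
    rw [Ideal.ofList_cons, Submodule.sup_smul, ← ih, Submodule.ideal_span_singleton_smul]
    ext m
    constructor
    · intro hm
      obtain ⟨c, hc⟩ := (exact_map_inr (stepHom M f fs) 0 (topMap M fs m)).1 hm
      obtain ⟨m', rfl⟩ := topMap_surjective M fs c
      refine Submodule.mem_sup.2 ⟨f • m', Submodule.smul_mem_pointwise_smul _ _ _ trivial,
        m - f • m', ?_, add_sub_cancel _ _⟩
      rw [LinearMap.mem_ker, map_sub, map_smul, ← hc, ← homologyMap_smul_id (koszulCx M fs) f 0]
      exact sub_self _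
    · intro hm
      obtain ⟨a, ha, b, hb, rfl⟩ := Submodule.mem_sup.1 hm
      obtain ⟨m', -, rfl⟩ := Submodule.mem_smul_pointwise_iff_exists _ _ _ |>.1 ha
      rw [LinearMap.mem_ker] at hb ⊢
      show (HomologicalComplex.homologyMap (mappingCone.inr (stepHom M f fs)) 0).hom _ = 0
      rw [map_add (topMap M fs), hb, add_zero, map_smul]
      exact (exact_map_inr (stepHom M f fs) 0 _).2
        ⟨topMap M fs m', homologyMap_smul_id (koszulCx M fs) f 0 _⟩

/-- `H^r(f, M) = M / (f) M`. -/
noncomputable def topEquiv (fs : List A) :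
    (M ⧸ (Ideal.ofList fs • ⊤ : Submodule A M)) ≃ₗ[A] (koszulCx M fs).homology 0 :=
  (Submodule.quotEquivOfEq _ _ (ker_topMap M fs).symm).trans
    ((topMap M fs).quotKerEquivOfSurjective (topMap_surjective M fs))

end Top

end Groth.L04.Koszul
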