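import Groth.Agent.L04.Koszul.CechRT
import Groth.Agent.L10.CechNerves
import Groth.Prelude.Def_CohB1
import Mathlib.Algebra.Category.ModuleCat.Limits
import Mathlib.Algebra.Homology.ShortComplex.PreservesHomology
import Mathlib.Topology.Sheaves.SheafCondition.UniqueGluing

/-!
# Čech complexes of a presheaf of modules whose sections are localisations
-/

set_option autoImplicit false
set_option backward.isDefEq.respectTransparency.types false

universe u

open CategoryTheory CategoryTheory.Limits TopologicalSpace Opposite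

namespace Groth.L04.Koszul.Cech

variable {A : Type u} [CommRing A] {ι : Type u} (f : ι → A) {X : TopCat.{u}}

/-- A presheaf of modules whose sections on the intersections are the localisations of `M`. -/
structure LocData (U : ι → Opens X) (M : ModuleCat.{u} A) where
  /-- the presheaf -/
  P : (Opens X)ᵒᵖ ⥤ ModuleCat.{u} A
  /-- the map to global sections -/
  ρ : M →ₗ[A] P.obj (op ⊤)
  loc : ∀ {n : ℕ} (a : Fin (n + 1) → ι), IsLocalizedModule (Submonoid.powers (cp f a))
    ((P.map (homOfLE (le_top : Groth.L10.Cech.tup U a ≤ ⊤)).op).hom.comp ρ)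

namespace LocData

variable {f} {U : ι → Opens X} {M : ModuleCat.{u} A} (D : LocData f U M)

/-- The underlying presheaf of groups. -/
noncomputable abbrev Q : (Opens X)ᵒᵖ ⥤ AddCommGrpCat.{u} := D.P ⋙ forget₂ _ AddCommGrpCat.{u}

/-- The restriction of global sections. -/
noncomputable abbrev toSect (V : Opens X) : M →ₗ[A] D.P.obj (op V) :=
  (D.P.map (homOfLE (le_top : V ≤ ⊤)).op).hom.comp D.ρ

theorem toSect_res {V W : Opens X} (h : W ≤ V) (m : M) :
    (D.P.map (homOfLE h).op).hom (D.toSect V m) = D.toSect W m := by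
  show (D.P.map (homOfLE (le_top : V ≤ ⊤)).op ≫ D.P.map (homOfLE h).op).hom (D.ρ m) = _
  rw [← Functor.map_comp]
  rfl

/-- The comparison with the localisation. -/
noncomputable def psi {n : ℕ} (a : Fin (n + 1) → ι) :
    Cech.loc f M a ≃ₗ[A] D.P.obj (op (Groth.L10.Cech.tup U a)) :=
  haveI := D.loc a
  IsLocalizedModule.linearEquiv (Submonoid.powers (cp f a)) (mkLoc f M a)
    (D.toSect (Groth.L10.Cech.tup U a))

theorem psi_mk {n : ℕ} (a : Fin (n + 1) → ι) (m : M) :
    D.psi a (mkLoc f M a m) = D.toSect _ m :=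
  haveI := D.loc a
  IsLocalizedModule.linearEquiv_apply _ _ _ m

theorem psi_res {n k : ℕ} {a : Fin (n + 1) → ι} {b : Fin (k + 1) → ι} (h : Refines f M a b)
    (hle : Groth.L10.Cech.tup U b ≤ Groth.L10.Cech.tup U a) (z : Cech.loc f M a) :
    (D.P.map (homOfLE hle).op).hom (D.psi a z) = D.psi b (Cech.res h z) := by
  haveI := D.loc b
  exact LinearMap.congr_fun (IsLocalizedModule.ext (Submonoid.powers (cp f a)) (mkLoc f M a)
    (fun x => by
      have hu := units_of_refines h x
      rw [Module.End.isUnit_iff] at hu ⊢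
      have he : ((algebraMap A (Module.End A (D.P.obj (op (Groth.L10.Cech.tup U b)))) x) :
          _ → _) = D.psi b ∘ ((algebraMap A (Module.End A (Cech.loc f M b)) x) : _ → _) ∘ (D.psi b).symm := by
        funext y
        simp only [Function.comp_apply, Module.algebraMap_end_apply, map_smul, LinearEquiv.apply_symm_apply]
      rw [he]
      exact (D.psi b).bijective.comp (hu.comp (D.psi b).symm.bijective))
    (j := (D.P.map (homOfLE hle).op).hom.comp (D.psi a).toLinearMap)
    (k := (D.psi b).toLinearMap.comp (Cech.res h))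
    (LinearMap.ext fun y => by
      simp only [LinearMap.comp_apply, LinearEquiv.coe_coe]
      rw [psi_mk, toSect_res, res_mk, psi_mk])) z

/-- The comparison map on cochains. -/
noncomputable def toCx (n : ℕ) :
    ((cx f M).X n : Type u) ≃+ ((Groth.L10.Cech.cx (𝟭 (Opens X)) U D.Q).X n : Type u) where
  toFun x := Groth.L10.Cech.mk fun a => D.psi a (val f x a)
  invFun y := mkC f fun a => (D.psi a).symm (Groth.L10.Cech.co a y)
  left_inv x := ext_val f fun a => by
    rw [val_mkC, Groth.L10.Cech.co_mk]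
    exact (D.psi a).symm_apply_apply _
  right_inv y := Groth.L10.Cech.co_ext fun a => by
    rw [Groth.L10.Cech.co_mk, val_mkC]
    exact (D.psi a).apply_symm_apply _
  map_add' x y := Groth.L10.Cech.co_ext fun a => by
    rw [map_add (Groth.L10.Cech.co a), Groth.L10.Cech.co_mk, Groth.L10.Cech.co_mk,
      Groth.L10.Cech.co_mk, map_add, Pi.add_apply]
    exact map_add _ _ _

theorem co_toCx (n : ℕ) (x : (cx f M).X n) (a : Fin (n + 1) → ι) :
    Groth.L10.Cech.co a (D.toCx n x) = D.psi a (val f x a) := Groth.L10.Cech.co_mk _ a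

theorem toCx_d (n : ℕ) (x : (cx f M).X n) :
    (Groth.L10.Cech.cx (𝟭 (Opens X)) U D.Q).d n (n + 1) (D.toCx n x) =
      D.toCx (n + 1) ((cx f M).d n (n + 1) x) := by
  refine Groth.L10.Cech.co_ext fun a => ?_
  rw [Groth.L10.Cech.co_d, co_toCx, val_d]
  refine Eq.trans (Finset.sum_congr rfl fun j _ => ?_) (map_sum (D.psi a) _ _).symm
  rw [co_toCx, map_zsmul]
  refine congrArg _ ?_
  rw [← D.psi_res (refines_comp j.succAbove a) (Groth.L10.Cech.face U j a).le]
  rfl

/-- The isomorphism of complexes. -/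
noncomputable def cxIso : ((forget₂ (ModuleCat.{u} A) AddCommGrpCat.{u}).mapHomologicalComplex
      (ComplexShape.up ℕ)).obj (cx f M) ≅ Groth.L10.Cech.cx (𝟭 (Opens X)) U D.Q :=
  HomologicalComplex.Hom.isoOfComponents (fun n => (D.toCx n).toAddCommGrpIso) (by
    rintro n k (rfl : n + 1 = k)
    exact AddCommGrpCat.hom_ext (AddMonoidHom.ext fun x => D.toCx_d n x))

/-- The homology comparison. -/
theorem nonempty_cechHTop_equiv (p : ℕ) :
    Nonempty (↑(CohB1.cechHTop U D.Q p) ≃+ ↑((cx f M).homology p)) :=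
  ⟨((HomologicalComplex.homologyFunctor AddCommGrpCat.{u} (ComplexShape.up ℕ) p).mapIso D.cxIso.symm ≪≫
    ((cx f M).sc p).mapHomologyIso (forget₂ (ModuleCat.{u} A) AddCommGrpCat.{u})).addCommGroupIsoToAddEquiv⟩

theorem exists_sections_equiv [Finite ι] (hQ : TopCat.Presheaf.IsSheaf (D.Q : TopCat.Presheaf AddCommGrpCat.{u} X)) :
    ∃ e : D.P.obj (op (iSup U)) ≃ₗ[A] Z0 (cx f M),
      ∀ m : M, (e (D.toSect (iSup U) m) : (cx f M).X 0) = aug f M m := by
  classical
  have hU : ∀ a : Fin 1 → ι, Groth.L10.Cech.tup U a ≤ U (a 0) := fun a => (Pi.π (U ∘ a) 0).le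
  have hV : ∀ a : Fin 1 → ι, U (a 0) ≤ Groth.L10.Cech.tup U a := fun a => by
    rw [Groth.L10.Cech.tup_eq_iInf]
    exact le_iInf fun k => (congrArg (fun k => U (a k)) (Subsingleton.elim (α := Fin 1) k (0 : Fin 1))).ge
  let F : TopCat.Sheaf AddCommGrpCat.{u} X := ⟨D.Q, hQ⟩
  let g : D.P.obj (op (iSup U)) →ₗ[A] (cx f M).X 0 :=
    (LinearMap.pi fun a : Fin 1 → ι => (D.psi a).symm.toLinearMap.comp
      (D.P.map (homOfLE ((hU a).trans (le_iSup U (a 0)))).op).hom :
        D.P.obj (op (iSup U)) →ₗ[A] ∀ a : Fin 1 → ι, Cech.loc f M a)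
  have hval : ∀ (s : D.P.obj (op (iSup U))) (a : Fin 1 → ι), D.psi a (val f (g s) a) =
      (D.P.map (homOfLE ((hU a).trans (le_iSup U (a 0)))).op).hom s := fun s a =>
    (D.psi a).apply_symm_apply _
  have hcomp : ∀ {V W T : Opens X} (h : W ≤ V) (h' : T ≤ W) (s : D.P.obj (op V)),
      (D.P.map (homOfLE h').op).hom ((D.P.map (homOfLE h).op).hom s) =
        (D.P.map (homOfLE (h'.trans h)).op).hom s := fun h h' s => by
    show (D.P.map (homOfLE h).op ≫ D.P.map (homOfLE h').op).hom s = _
    rw [← Functor.map_comp]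
    rfl
  have hgz : ∀ s, g s ∈ Z0 (cx f M) := fun s => by
    refine ext_val f fun b => (D.psi b).injective ?_
    rw [map_zero, Pi.zero_apply, map_zero, val_d, map_sum]
    have e : ∀ (j : Fin 2) (hj : Refines f M (b ∘ j.succAbove) b),
        D.psi b (res hj (val f (g s) (b ∘ j.succAbove))) =
          (D.P.map (homOfLE ((Groth.L10.Cech.face U j b).le.trans
            ((hU _).trans (le_iSup U _)))).op).hom s := fun j hj => by
      rw [← D.psi_res hj (Groth.L10.Cech.face U j b).le, hval, hcomp]
    simp only [map_zsmul, e, Fin.sum_univ_two]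
    simp
  refine ⟨LinearEquiv.ofBijective (g.codRestrict _ hgz) ⟨fun s t h => ?_, fun x => ?_⟩, fun m => ?_⟩
  · refine TopCat.Sheaf.eq_of_locally_eq' F U (iSup U) (fun i => homOfLE (le_iSup U i)) le_rfl s t fun i => ?_
    have h1 := congrArg (fun y : (cx f M).X 0 => D.psi (one i) (val f y (one i))) (congrArg Subtype.val h)
    change D.psi (one i) (val f (g s) (one i)) = D.psi (one i) (val f (g t) (one i)) at h1
    rw [hval, hval] at h1
    have h2 := congrArg (D.P.map (homOfLE (hV (one i))).op).hom h1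
    rw [hcomp, hcomp] at h2
    exact h2
  · let sf : ∀ i, D.P.obj (op (U i)) := fun i =>
      (D.P.map (homOfLE (hV (one i))).op).hom (D.psi (one i) (val f x.1 (one i)))
    have hc : TopCat.Presheaf.IsCompatible (X := X) D.Q U sf := fun i j => by
      show (D.P.map (homOfLE (inf_le_left : U i ⊓ U j ≤ U i)).op).hom (sf i) =
        (D.P.map (homOfLE (inf_le_right : U i ⊓ U j ≤ U j)).op).hom (sf j)
      have hW : U i ⊓ U j ≤ Groth.L10.Cech.tup U ![i, j] := by
        rw [Groth.L10.Cech.tup_eq_iInf]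
        refine le_iInf fun k => ?_
        fin_cases k
        · exact inf_le_left
        · exact inf_le_right
      have h1 : Refines f M (one j) ![i, j] := fun _ => inv_apply ![i, j] 1
      have h0 : Refines f M (one i) ![i, j] := fun _ => inv_apply ![i, j] 0
      have key := congrArg (fun z => (D.P.map (homOfLE hW).op).hom (D.psi ![i, j] z))
        (res_pair_eq_of_d_eq_zero f x.2 i j h1 h0)
      have hl : ∀ k : Fin 2, Groth.L10.Cech.tup U ![i, j] ≤ Groth.L10.Cech.tup U (one (![i, j] k)) :=
        fun k => ((Pi.π (U ∘ ![i, j]) k).le).trans (hV (one (![i, j] k)))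
      rw [← D.psi_res h1 (hl 1), ← D.psi_res h0 (hl 0), hcomp, hcomp] at key
      simp only [sf, hcomp]
      exact key.symm
    obtain ⟨s, hs, -⟩ := F.existsUnique_gluing' U (iSup U) (fun i => homOfLE (le_iSup U i)) le_rfl sf hc
    refine ⟨s, Subtype.ext (ext_val f fun a => (D.psi a).injective ?_)⟩
    change D.psi a (val f (g s) a) = _
    obtain ⟨i, rfl⟩ : ∃ i, a = one i := ⟨a 0, eq_one a⟩
    rw [hval]
    refine ((hcomp (le_iSup U i) (hU (one i)) s).symm.trans
      (congrArg (D.P.map (homOfLE (hU (one i))).op).hom (hs i))).trans ?_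
    simp only [sf]
    rw [hcomp]
    show (D.P.map (homOfLE (le_refl (Groth.L10.Cech.tup U (one i)))).op).hom _ = _
    rw [show (homOfLE (le_refl (Groth.L10.Cech.tup U (one i)))).op = 𝟙 (op (Groth.L10.Cech.tup U (one i))) from rfl,
      CategoryTheory.Functor.map_id]
    rfl
  · refine ext_val f fun a => (D.psi a).injective ?_
    show D.psi a (val f (g (D.toSect (iSup U) m)) a) = D.psi a (val f (aug f M m) a)
    rw [hval, toSect_res, val_aug, psi_mk]

end LocData

end Groth.L04.Koszul.Cech
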