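import Mathlib.Algebra.Category.ModuleCat.Abelian
import Mathlib.Algebra.Homology.HomologicalComplexAbelian
import Mathlib.AlgebraicTopology.AlternatingFaceMapComplex
import Mathlib.Algebra.Module.LocalizedModule.Exact
import Groth.Agent.L28.HomElt

/-!
# The algebraic Čech complex of localisations
-/

set_option autoImplicit false
set_option backward.isDefEq.respectTransparency.types false

universe u

open CategoryTheory CategoryTheory.Limits Simplicial

namespace Groth.L04.Koszul.Cech

variable {A : Type u} [CommRing A] {ι : Type u} (f : ι → A)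

/-- The product of the elements of a tuple. -/
def cp {n : ℕ} (a : Fin (n + 1) → ι) : A := ∏ k, f (a k)

/-- The localisation at a tuple. -/
abbrev loc (M : ModuleCat.{u} A) {n : ℕ} (a : Fin (n + 1) → ι) : Type u :=
  LocalizedModule (Submonoid.powers (cp f a)) M

/-- The structure map. -/
noncomputable abbrev mkLoc (M : ModuleCat.{u} A) {n : ℕ} (a : Fin (n + 1) → ι) : M →ₗ[A] loc f M a :=
  LocalizedModule.mkLinearMap (Submonoid.powers (cp f a)) M

variable {f} {M : ModuleCat.{u} A}

/-- `f i` acts invertibly on the localisation at `a`. -/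
def Inv (M : ModuleCat.{u} A) {n : ℕ} (a : Fin (n + 1) → ι) (s : A) : Prop :=
  IsUnit (algebraMap A (Module.End A (loc f M a)) s)

theorem inv_of_dvd {n : ℕ} (a : Fin (n + 1) → ι) {s : A} (h : s ∣ cp f a) : Inv (f := f) M a s := by
  obtain ⟨t, ht⟩ := h
  have hu := IsLocalizedModule.map_units (mkLoc f M a) ⟨cp f a, Submonoid.mem_powers _⟩
  change IsUnit (algebraMap A (Module.End A (loc f M a)) (cp f a)) at hu
  replace hu := (congrArg (fun z => IsUnit (algebraMap A (Module.End A (loc f M a)) z)) ht).mp hu
  rw [map_mul] at hu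
  exact ((Commute.isUnit_mul_iff (show Commute _ _ from Algebra.commutes s _)).1 hu).1

theorem inv_apply {n : ℕ} (a : Fin (n + 1) → ι) (k : Fin (n + 1)) : Inv (f := f) M a (f (a k)) :=
  inv_of_dvd a (Finset.dvd_prod_of_mem _ (Finset.mem_univ k))

variable (f) in
/-- `a` refines `b`: the elements of `a` act invertibly on the localisation at `b`. -/
def Refines (M : ModuleCat.{u} A) {n m : ℕ} (a : Fin (n + 1) → ι) (b : Fin (m + 1) → ι) : Prop :=
  ∀ k, Inv (f := f) M b (f (a k))

theorem refines_comp {n m : ℕ} (θ : Fin (n + 1) → Fin (m + 1)) (b : Fin (m + 1) → ι) :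
    Refines f M (b ∘ θ) b := fun k => inv_apply b (θ k)

theorem units_of_refines {n m : ℕ} {a : Fin (n + 1) → ι} {b : Fin (m + 1) → ι} (h : Refines f M a b)
    (x : Submonoid.powers (cp f a)) : IsUnit (algebraMap A (Module.End A (loc f M b)) x) := by
  obtain ⟨_, k, rfl⟩ := x
  rw [map_pow]
  refine IsUnit.pow _ ?_
  have hp : ∀ s : Finset (Fin (n + 1)),
      IsUnit (algebraMap A (Module.End A (loc f M b)) (∏ k ∈ s, f (a k))) := by
    classical
    intro s
    induction s using Finset.induction_on with
    | empty => rw [Finset.prod_empty, map_one]; exact isUnit_one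
    | insert i s hi ih => rw [Finset.prod_insert hi, map_mul]; exact (h i).mul ih
  exact hp Finset.univ

/-- The restriction map. -/
noncomputable def res {n m : ℕ} {a : Fin (n + 1) → ι} {b : Fin (m + 1) → ι} (h : Refines f M a b) :
    loc f M a →ₗ[A] loc f M b :=
  IsLocalizedModule.lift (Submonoid.powers (cp f a)) (mkLoc f M a) (mkLoc f M b) (units_of_refines h)

theorem res_mk {n m : ℕ} {a : Fin (n + 1) → ι} {b : Fin (m + 1) → ι} (h : Refines f M a b) (x : M) :
    res h (mkLoc f M a x) = mkLoc f M b x :=
  IsLocalizedModule.lift_apply _ _ _ _ _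

theorem res_unique {n m : ℕ} {a : Fin (n + 1) → ι} {b : Fin (m + 1) → ι} (h : Refines f M a b)
    (g g' : loc f M a →ₗ[A] loc f M b) (hg : ∀ x, g (mkLoc f M a x) = g' (mkLoc f M a x)) : g = g' :=
  IsLocalizedModule.ext (Submonoid.powers (cp f a)) (mkLoc f M a) (units_of_refines h)
    (LinearMap.ext hg)

theorem res_res {n m l : ℕ} {a : Fin (n + 1) → ι} {b : Fin (m + 1) → ι} {c : Fin (l + 1) → ι}
    (h : Refines f M a b) (h' : Refines f M b c) (h'' : Refines f M a c) (x : loc f M a) :
    res h' (res h x) = res h'' x :=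
  LinearMap.congr_fun (res_unique h'' ((res h').comp (res h)) (res h'')
    fun y => by rw [LinearMap.comp_apply, res_mk, res_mk, res_mk]) x

theorem res_self {n : ℕ} {a : Fin (n + 1) → ι} (h : Refines f M a a) (x : loc f M a) :
    res h x = x :=
  LinearMap.congr_fun (res_unique h (res h) LinearMap.id fun y => res_mk h y) x

variable (f) in
/-- The map on localisations induced by a morphism. -/
noncomputable def locMap {N : ModuleCat.{u} A} (g : M ⟶ N) {n : ℕ} (a : Fin (n + 1) → ι) :
    loc f M a →ₗ[A] loc f N a :=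
  IsLocalizedModule.map (Submonoid.powers (cp f a)) (mkLoc f M a) (mkLoc f N a) g.hom

theorem locMap_mk {N : ModuleCat.{u} A} (g : M ⟶ N) {n : ℕ} (a : Fin (n + 1) → ι) (x : M) :
    locMap f g a (mkLoc f M a x) = mkLoc f N a (g x) :=
  IsLocalizedModule.map_apply _ _ _ _ _

theorem locMap_res {N : ModuleCat.{u} A} (g : M ⟶ N) {n m : ℕ} {a : Fin (n + 1) → ι}
    {b : Fin (m + 1) → ι} (h : Refines f M a b) (h' : Refines f N a b) (x : loc f M a) :
    locMap f g b (res h x) = res h' (locMap f g a x) :=
  LinearMap.congr_fun (IsLocalizedModule.ext (Submonoid.powers (cp f a)) (mkLoc f M a)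
    (units_of_refines h') (j := (locMap f g b).comp (res h)) (k := (res h').comp (locMap f g a))
    (LinearMap.ext fun y => by
      simp only [LinearMap.comp_apply]
      rw [res_mk, locMap_mk, locMap_mk, res_mk])) x

variable (f)

/-- The cosimplicial module of localisations. -/
noncomputable def cosimp (M : ModuleCat.{u} A) : CosimplicialObject (ModuleCat.{u} A) where
  obj n := ModuleCat.of A (∀ a : Fin (n.len + 1) → ι, loc f M a)
  map {n m} θ := ModuleCat.ofHom (LinearMap.pi fun a =>
    (res (refines_comp (M := M) θ.toOrderHom a)).comp (LinearMap.proj (a ∘ θ.toOrderHom)))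
  map_id n := ModuleCat.hom_ext (LinearMap.ext fun x => funext fun a =>
    res_self (refines_comp (id : Fin (n.len + 1) → Fin (n.len + 1)) a) (x a))
  map_comp {n m l} θ η := ModuleCat.hom_ext (LinearMap.ext fun x => funext fun a =>
    (res_res (refines_comp θ.toOrderHom (a ∘ η.toOrderHom)) (refines_comp η.toOrderHom a) (refines_comp (η.toOrderHom ∘ θ.toOrderHom) a) _).symm)

/-- The natural map of cosimplicial modules. -/
noncomputable def cosimpMap {N : ModuleCat.{u} A} (g : M ⟶ N) : cosimp f M ⟶ cosimp f N where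
  app n := ModuleCat.ofHom (LinearMap.pi fun a : Fin (n.len + 1) → ι => (locMap f g a).comp (LinearMap.proj a))
  naturality {n m} θ := ModuleCat.hom_ext (LinearMap.ext fun x => funext fun a =>
    locMap_res g (refines_comp θ.toOrderHom a) (refines_comp θ.toOrderHom a) _)

/-- The Čech complex. -/
noncomputable def cx (M : ModuleCat.{u} A) : CochainComplex (ModuleCat.{u} A) ℕ :=
  AlgebraicTopology.AlternatingCofaceMapComplex.obj (cosimp f M)

/-- A cochain as a function. -/
noncomputable def val {n : ℕ} : (cx f M).X n →ₗ[A] ∀ a : Fin (n + 1) → ι, loc f M a := LinearMap.id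

/-- A function as a cochain. -/
noncomputable def mkC {n : ℕ} (x : ∀ a : Fin (n + 1) → ι, loc f M a) : (cx f M).X n := x

theorem val_mkC {n : ℕ} (x : ∀ a : Fin (n + 1) → ι, loc f M a) : val f (mkC f x) = x := rfl

theorem ext_val {n : ℕ} {x y : (cx f M).X n} (h : ∀ a, val f x a = val f y a) : x = y := funext h

theorem val_d {n : ℕ} (a : Fin (n + 2) → ι) (x : (cx f M).X n) :
    val f ((cx f M).d n (n + 1) x) a =
      ∑ j : Fin (n + 2), (-1 : ℤ) ^ (j : ℕ) •
        res (refines_comp j.succAbove a) (val f x (a ∘ j.succAbove)) := by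
  have hd : (cx f M).d n (n + 1) = AlgebraicTopology.AlternatingCofaceMapComplex.objD (cosimp f M) n :=
    @CochainComplex.of_d (ModuleCat.{u} A) _ _ ℕ _ _ _
      (fun m : ℕ => ((cosimp f M).obj (SimplexCategory.mk m) : ModuleCat.{u} A))
      (AlgebraicTopology.AlternatingCofaceMapComplex.objD (cosimp f M)) n
  rw [hd]
  let ev : (cx f M).X (n + 1) →ₗ[A] loc f M a := (LinearMap.proj a).comp (val f)
  show ev ((∑ i : Fin (n + 2), (-1 : ℤ) ^ (i : ℕ) • (cosimp f M).δ i).hom x) = _
  rw [ModuleCat.hom_sum, LinearMap.sum_apply]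
  refine (map_sum ev _ _).trans (Finset.sum_congr rfl fun j _ => ?_)
  rw [ModuleCat.hom_zsmul]
  rfl

/-- Functoriality of the Čech complex. -/
noncomputable def cxMap {N : ModuleCat.{u} A} (g : M ⟶ N) : cx f M ⟶ cx f N :=
  AlgebraicTopology.AlternatingCofaceMapComplex.map (cosimpMap f g)

theorem val_cxMap {N : ModuleCat.{u} A} (g : M ⟶ N) {n : ℕ} (x : (cx f M).X n)
    (a : Fin (n + 1) → ι) : val f ((cxMap f g).f n x) a = locMap f g a (val f x a) := rfl

section Exact

variable {S : ShortComplex (ModuleCat.{u} A)} (hS : S.ShortExact)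

/-- The short complex of Čech complexes. -/
noncomputable def cSeq (S : ShortComplex (ModuleCat.{u} A)) :
    ShortComplex (CochainComplex (ModuleCat.{u} A) ℕ) :=
  ShortComplex.mk (cxMap f S.f) (cxMap f S.g) (by
    refine HomologicalComplex.Hom.ext (funext fun n => ModuleCat.hom_ext (LinearMap.ext fun x =>
      ext_val f fun a => ?_))
    show locMap f S.g a (locMap f S.f a (val f x a)) = 0
    have h : (locMap f S.g a).comp (locMap f S.f a) = 0 :=
      IsLocalizedModule.ext (Submonoid.powers (cp f a)) (mkLoc f S.X₁ a)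
        (IsLocalizedModule.map_units (mkLoc f S.X₃ a)) (LinearMap.ext fun y => by
          simp only [LinearMap.comp_apply, LinearMap.zero_apply]
          rw [locMap_mk, locMap_mk, ← ConcreteCategory.comp_apply, S.zero]
          exact map_zero _)
    exact LinearMap.congr_fun h _)

include hS in
theorem cSeq_shortExact : (cSeq f S).ShortExact := by
  refine HomologicalComplex.shortExact_of_degreewise_shortExact _ fun n => ?_
  have := hS.mono_f
  have := hS.epi_g
  refine { exact := ?_, mono_f := ?_, epi_g := ?_ }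
  · rw [ShortComplex.moduleCat_exact_iff]
    intro x hx
    have hex := fun a : Fin (n + 1) → ι => LocalizedModule.map_exact (Submonoid.powers (cp f a))
      S.f.hom S.g.hom ((ShortComplex.ShortExact.moduleCat_exact_iff_function_exact S).1 hS.exact)
    choose y hy using fun a => ((hex a) (val f x a)).1 (congrFun hx a)
    exact ⟨mkC f y, ext_val f hy⟩
  · rw [ModuleCat.mono_iff_injective]
    exact fun x y h => ext_val f fun a => IsLocalizedModule.map_injective
      (Submonoid.powers (cp f a)) (mkLoc f S.X₁ a) (mkLoc f S.X₂ a) S.f.hom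
      ((ModuleCat.mono_iff_injective _).1 inferInstance) (congrFun h a)
  · rw [ModuleCat.epi_iff_surjective]
    intro y
    choose x hx using fun a : Fin (n + 1) → ι => IsLocalizedModule.map_surjective
      (Submonoid.powers (cp f a)) (mkLoc f S.X₂ a) (mkLoc f S.X₃ a) S.g.hom
      ((ModuleCat.epi_iff_surjective _).1 inferInstance) (val f y a)
    exact ⟨mkC f x, ext_val f hx⟩

end Exact

theorem val_d_zero (a : Fin 2 → ι) (x : (cx f M).X 0) :
    val f ((cx f M).d 0 1 x) a =
      res (refines_comp (fun _ : Fin 1 => (1 : Fin 2)) a) (val f x fun _ => a 1) -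
        res (refines_comp (fun _ : Fin 1 => (0 : Fin 2)) a) (val f x fun _ => a 0) := by
  have key : ∀ (j : Fin 2) (k : Fin 2), (j.succAbove : Fin 1 → Fin 2) = (fun _ => k) →
      ∀ (h : Refines f M (a ∘ j.succAbove) a),
      res h (val f x (a ∘ j.succAbove)) = res (refines_comp (fun _ : Fin 1 => k) a) (val f x fun _ => a k) := by
    intro j k e
    rw [e]
    intro h
    rfl
  rw [val_d, Fin.sum_univ_two,
    key 0 1 (funext fun i => by fin_cases i; rfl), key 1 0 (funext fun i => by fin_cases i; rfl)]
  simp [sub_eq_add_neg]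

section Contractible

variable (i0 : ι) (hbij : Function.Bijective fun x : M => f i0 • x)

include hbij in
theorem inv_base {n : ℕ} (b : Fin (n + 1) → ι) : Inv (f := f) M b (f i0) := by
  let e := LinearEquiv.ofBijective (LinearMap.lsmul A M (f i0)) hbij
  have h1 := IsLocalizedModule.ext (Submonoid.powers (cp f b)) (mkLoc f M b)
    (IsLocalizedModule.map_units (mkLoc f M b))
    (j := (algebraMap A (Module.End A (loc f M b)) (f i0)).comp
      (locMap f (M := M) (N := M) (ModuleCat.ofHom e.symm.toLinearMap) b))
    (k := LinearMap.id) (LinearMap.ext fun x => by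
      simp only [LinearMap.comp_apply, LinearMap.id_apply]
      rw [locMap_mk]
      show f i0 • mkLoc f M b (e.symm x) = mkLoc f M b x
      rw [← map_smul]
      exact congrArg _ (e.apply_symm_apply x))
  refine (Module.End.isUnit_iff _).2 ⟨fun x y h => ?_, fun y => ⟨_, LinearMap.congr_fun h1 y⟩⟩
  have h2 := IsLocalizedModule.ext (Submonoid.powers (cp f b)) (mkLoc f M b)
    (IsLocalizedModule.map_units (mkLoc f M b))
    (j := (locMap f (M := M) (N := M) (ModuleCat.ofHom e.symm.toLinearMap) b).comp
      (algebraMap A (Module.End A (loc f M b)) (f i0)))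
    (k := LinearMap.id) (LinearMap.ext fun x => by
      simp only [LinearMap.comp_apply, LinearMap.id_apply, Module.algebraMap_end_apply]
      rw [← map_smul, locMap_mk]
      exact congrArg _ (e.symm_apply_apply x))
  rw [← LinearMap.id_apply (R := A) x, ← LinearMap.id_apply (R := A) y, ← h2,
    LinearMap.comp_apply, LinearMap.comp_apply]
  exact congrArg _ h

include hbij in
theorem refines_cons {n : ℕ} (b : Fin (n + 1) → ι) :
    Refines f M (Fin.cons i0 b) b := by
  refine Fin.cases ?_ ?_
  · simpa using inv_base f i0 hbij b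
  · exact fun k => by simpa using inv_apply b k

/-- The contracting homotopy. -/
noncomputable def hpy {n : ℕ} (x : (cx f M).X (n + 1)) : (cx f M).X n :=
  mkC f fun b => res (refines_cons f i0 hbij b) (val f x (Fin.cons i0 b))

theorem d_hpy_add {n : ℕ} (x : (cx f M).X (n + 1)) :
    (cx f M).d n (n + 1) (hpy f i0 hbij x) + hpy f i0 hbij ((cx f M).d (n + 1) (n + 2) x) = x := by
  refine ext_val f fun b => ?_
  rw [map_add, Pi.add_apply, val_d]
  show _ + res (refines_cons f i0 hbij b)
    (val f ((cx f M).d (n + 1) (n + 1 + 1) x) (Fin.cons i0 b)) = _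
  rw [val_d, Fin.sum_univ_succ (n := n + 2), map_add, map_sum]
  simp only [Fin.val_zero, pow_zero, one_smul, map_zsmul, Fin.val_succ]
  have h0 : ∀ (h : Refines f M ((Fin.cons i0 b : Fin (n + 3) → ι) ∘ (0 : Fin (n + 3)).succAbove) (Fin.cons i0 b)),
      res (refines_cons f i0 hbij b) (res h (val f x (Fin.cons i0 b ∘ (0 : Fin (n + 3)).succAbove))) =
        val f x b := fun h => by
    refine (res_res h _ (fun k => inv_apply b k) _).trans ?_
    exact res_self (a := b) _ _
  have h1 : ∀ (j : Fin (n + 2)) (h : Refines f M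
      ((Fin.cons i0 b : Fin (n + 3) → ι) ∘ j.succ.succAbove) (Fin.cons i0 b)),
      res (refines_cons f i0 hbij b) (res h (val f x (Fin.cons i0 b ∘ j.succ.succAbove))) =
        res (refines_comp j.succAbove b)
          (res (refines_cons f i0 hbij (b ∘ j.succAbove)) (val f x (Fin.cons i0 (b ∘ j.succAbove)))) := by
    intro j
    have e : ((Fin.cons i0 b : Fin (n + 3) → ι) ∘ j.succ.succAbove) = Fin.cons i0 (b ∘ j.succAbove) := by
      funext k
      refine Fin.cases ?_ (fun k => ?_) k
      · simp
      · simp [Fin.succ_succAbove_succ]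
    rw [e]
    intro h
    have h3 : Refines f M (Fin.cons i0 (b ∘ j.succAbove) : Fin (n + 2) → ι) b := by
      refine Fin.cases ?_ ?_
      · simpa using inv_base f i0 hbij b
      · exact fun k => by simpa using inv_apply b (j.succAbove k)
    rw [res_res h _ h3, res_res _ _ h3]
  rw [h0]
  simp only [h1]
  rw [add_left_comm, ← Finset.sum_add_distrib]
  refine (congrArg (val f x b + ·) (Finset.sum_eq_zero fun j _ => ?_)).trans (add_zero _)
  show (-1 : ℤ) ^ (j : ℕ) • res (refines_comp j.succAbove b)
      (res (refines_cons f i0 hbij (b ∘ j.succAbove)) (val f x (Fin.cons i0 (b ∘ j.succAbove)))) +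
    (-1 : ℤ) ^ ((j : ℕ) + 1) • res (refines_comp j.succAbove b)
      (res (refines_cons f i0 hbij (b ∘ j.succAbove)) (val f x (Fin.cons i0 (b ∘ j.succAbove)))) = 0
  rw [pow_succ, mul_neg_one, neg_smul, add_neg_cancel]

end Contractible

end Groth.L04.Koszul.Cech
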