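import Groth.Agent.L04.Koszul.Lim
import Mathlib.Algebra.Module.LocalizedModule.Basic
import Mathlib.LinearAlgebra.Pi

/-!
# Effacing direct limit Koszul cohomology over an arbitrary ring
-/

set_option autoImplicit false
set_option backward.isDefEq.respectTransparency.types false

universe u

open CategoryTheory CategoryTheory.Limits CochainComplex CohIII
open Groth.L28.Kun (Z cl homologyMap_cl)

namespace Groth.L04.Koszul

variable {A : Type u} [CommRing A] (fs : List A)

theorem kmap_add {M N : ModuleCat.{u} A} (g h : M ⟶ N) :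
    ∀ fs : List A, kmap (g + h) fs = kmap g fs + kmap h fs := by
  intro fs
  induction fs with
  | nil => exact Functor.map_add _
  | cons f fs ih =>
    refine HomologicalComplex.Hom.ext (funext fun n => ModuleCat.hom_ext (LinearMap.ext fun z => ?_))
    obtain ⟨p, x, rfl⟩ := exists_cmk_cons M n (n + 1) rfl z
    refine (kmap_cmk (g + h) f fs rfl p x).trans ?_
    rw [ih]
    refine Eq.trans ?_ (congrArg₂ (· + ·) (kmap_cmk g f fs rfl p x) (kmap_cmk h f fs rfl p x)).symm
    exact cmk_add _ rfl _ _ _ _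

/-- The stage map as an additive function of the morphism. -/
noncomputable def mapHHom {M N : ModuleCat.{u} A} (j : ℤ) (n : ℕ) :
    (M ⟶ N) →+ (Stage fs M j n →ₗ[A] Stage fs N j n) :=
  AddMonoidHom.mk' (fun g => mapH fs g j n) (fun g h => by
    refine LinearMap.ext fun c => ?_
    obtain ⟨x, rfl⟩ := exists_mk _ c
    rw [LinearMap.add_apply]
    erw [homologyMap_cl, homologyMap_cl, homologyMap_cl]
    rw [← map_add]
    refine cl_congr _ _ _ ?_
    show (kmap (g + h) (fs.map (· ^ n))).f j x.1 = _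
    rw [kmap_add]
    rfl)

theorem mapH_id (M : ModuleCat.{u} A) (j : ℤ) (n : ℕ) (c : Stage fs M j n) :
    mapH fs (𝟙 M) j n c = c := by
  have h : kmap (𝟙 M) (fs.map (· ^ n)) = 𝟙 (koszulCx M (fs.map (· ^ n))) := by
    have h' := kmap_smul_id (M := M) (1 : A) (fs.map (· ^ n))
    rwa [one_smul, one_smul] at h'
  show HomologicalComplex.homologyMap (kmap (𝟙 M) (fs.map (· ^ n))) j c = c
  rw [h, homologyMap_id_apply]

theorem mapH_comp {M N P : ModuleCat.{u} A} (g : M ⟶ N) (h : N ⟶ P) (j : ℤ) (n : ℕ)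
    (c : Stage fs M j n) : mapH fs (g ≫ h) j n c = mapH fs h j n (mapH fs g j n c) := by
  refine Eq.trans ?_ (homologyMap_comp_apply _ _ j c)
  suffices hk : ∀ (l : List A), kmap (g ≫ h) l = kmap g l ≫ kmap h l by rw [← hk]
  intro l
  induction l with
  | nil => exact Functor.map_comp _ _ _
  | cons f l ih =>
    refine HomologicalComplex.Hom.ext (funext fun n => ModuleCat.hom_ext (LinearMap.ext fun z => ?_))
    obtain ⟨p, x, rfl⟩ := exists_cmk_cons M n (n + 1) rfl z
    refine (kmap_cmk (g ≫ h) f l rfl p x).trans ?_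
    rw [ih]
    refine Eq.trans ?_ (congrArg (fun w => (kmap h (f :: l)).f n w) (kmap_cmk g f l rfl p x)).symm
    exact (kmap_cmk h f l rfl _ _).symm

theorem subsingleton_stage_of_bijective (M : ModuleCat.{u} A) {f : A} (hf : f ∈ fs)
    (hbij : Function.Bijective fun x : M => f • x) (j : ℤ) (n : ℕ) :
    Subsingleton (Stage fs M j n) := by
  have hn : Function.Bijective (LinearMap.lsmul A M (f ^ n)) := by
    have h : ((LinearMap.lsmul A M (f ^ n)) : M → M) = (fun x : M => f • x)^[n] :=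
      funext fun x => (smul_iterate_apply f n x).symm
    rw [h]
    exact hbij.iterate n
  let e := (LinearEquiv.ofBijective _ hn).toModuleIso
  refine subsingleton_of_forall_eq 0 fun c => ?_
  have he : ∀ c', mapH fs (f ^ n • 𝟙 M) j n c' = 0 := fun c' => by
    refine Eq.trans ?_ (smul_homology_eq_zero M (Ideal.subset_span (s := {x | x ∈ fs.map (· ^ n)})
      (List.mem_map_of_mem (f := (· ^ n)) hf)) j c')
    refine Eq.trans ?_ (homologyMap_smul_id (koszulCx M (fs.map (· ^ n))) (f ^ n) j c')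
    exact congrArg (fun φ : koszulCx M (fs.map (· ^ n)) ⟶ koszulCx M (fs.map (· ^ n)) =>
      (HomologicalComplex.homologyMap φ j).hom c') (kmap_smul_id (f ^ n) _)
  have hinv : mapH fs (e.inv ≫ e.hom) j n c = c := by rw [e.inv_hom_id, mapH_id]
  rw [mapH_comp] at hinv
  exact hinv.symm.trans (he _)

theorem subsingleton_stage_of_finset {ι : Type*} [Fintype ι] {M : ModuleCat.{u} A}
    {E : ι → ModuleCat.{u} A} (p : ∀ i, M ⟶ E i) (q : ∀ i, E i ⟶ M)
    (hpq : ∑ i, p i ≫ q i = 𝟙 M) (j : ℤ) (n : ℕ) (h : ∀ i, Subsingleton (Stage fs (E i) j n)) :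
    Subsingleton (Stage fs M j n) := by
  refine subsingleton_of_forall_eq 0 fun c => ?_
  rw [← mapH_id fs M j n c, ← hpq]
  show mapHHom fs j n (∑ i, p i ≫ q i) c = 0
  rw [map_sum, LinearMap.sum_apply]
  refine Finset.sum_eq_zero fun i _ => ?_
  show mapH fs (p i ≫ q i) j n c = 0
  rw [mapH_comp, @Subsingleton.elim _ (h i) (mapH fs (p i) j n c) 0, map_zero]

/-- Torsion modules have no higher limit Koszul cohomology. -/
theorem exists_trH_eq_zero_of_torsion (M : ModuleCat.{u} A) :
    ∀ (fs : List A), (∀ f ∈ fs, ∀ x : M, ∃ k : ℕ, f ^ k • x = 0) → ∀ (j : ℤ), 0 < j + fs.length →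
      ∀ (n : ℕ) (c : Stage fs M j n), ∃ m, ∃ h : n ≤ m, trH fs M j n m h c = 0 := by
  intro fs
  induction fs with
  | nil =>
    intro _ j hj n c
    exact ⟨n, le_rfl, @Subsingleton.elim _ (subsingleton_homology_of_out M _ j
      (Or.inl (by simpa using hj))) _ _⟩
  | cons f fs ih =>
    intro htor j hj n c
    simp only [List.length_cons] at hj
    have ih' := ih fun g hg => htor g (List.mem_cons_of_mem _ hg)
    obtain ⟨m, hnm, hm⟩ := ih' (j + 1) (by omega) n
      (deltaC (stepHom M (f ^ n) (fs.map (· ^ n))) j (j + 1) rfl c)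
    obtain ⟨b, hb⟩ := (exact_inr_deltaC (stepHom M (f ^ m) (fs.map (· ^ m))) j (j + 1) rfl
      (trH (f :: fs) M j n m hnm c)).1 (Eq.trans (deltaC_naturality
        (stepHom M (f ^ n) (fs.map (· ^ n))) (stepHom M (f ^ m) (fs.map (· ^ m))) _ _ _ rfl c) hm)
    suffices h : ∃ l, ∃ hl : m ≤ l, f ^ (l - m) • trH fs M j m l hl b = 0 by
      obtain ⟨l, hl, h0⟩ := h
      refine ⟨l, hnm.trans hl, ?_⟩
      rw [← DirectedSystem.map_map (f := fun n m h => trH (f :: fs) M j n m h) hnm hl c, ← hb]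
      refine (inr_comp_trans fs M f hl j b).trans ?_
      rw [h0, map_zero]
      rfl
    by_cases hj' : 0 < j + fs.length
    · obtain ⟨l, hl, h0⟩ := ih' j hj' m b
      exact ⟨l, hl, by rw [h0, smul_zero]⟩
    · have hj0 : j + fs.length = 0 := by omega
      obtain ⟨k, hk⟩ := htor f List.mem_cons_self (botMap M (fs.map (· ^ m)) j (by simpa using hj0) b)
      refine ⟨m + k, Nat.le_add_right m k, botMap_injective M _ j (by simpa using hj0) ?_⟩
      rw [map_smul, botMap_trans (Nat.le_add_right m k) fs j hj0 b, Nat.add_sub_cancel_left, hk,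
        map_zero]

section Eff

variable (M : ModuleCat.{u} A)

/-- The localisations. -/
abbrev locAt (i : Fin fs.length) : Type u := LocalizedModule (Submonoid.powers (fs.get i)) M

/-- The map to the product of the localisations. -/
noncomputable def iotaE : M →ₗ[A] ∀ i, locAt fs M i :=
  LinearMap.pi fun i => LocalizedModule.mkLinearMap (Submonoid.powers (fs.get i)) M

theorem mem_ker_iotaE (m : M) :
    m ∈ LinearMap.ker (iotaE fs M) ↔ ∀ f ∈ fs, ∃ k : ℕ, f ^ k • m = 0 := by
  rw [LinearMap.mem_ker, funext_iff, List.forall_mem_iff_getElem]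
  refine (Fin.forall_iff).trans (forall_congr' fun i => forall_congr' fun hi => ?_)
  show LocalizedModule.mkLinearMap (Submonoid.powers fs[i]) M m = 0 ↔ _
  rw [IsLocalizedModule.eq_zero_iff (Submonoid.powers fs[i])]
  constructor
  · rintro ⟨⟨_, k, rfl⟩, hc⟩
    exact ⟨k, hc⟩
  · rintro ⟨k, hk⟩
    exact ⟨⟨_, k, rfl⟩, hk⟩

theorem ker_iotaE : LinearMap.ker (iotaE fs M) = DRing.torsionSub (Ideal.ofList fs) M := by
  classical
  ext m
  rw [mem_ker_iotaE]
  constructor
  · intro h
    choose k hk using h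
    refine exists_pow_kills fs (x := m) (m := ∑ i : Fin fs.length, k fs[i] (fs.getElem_mem i.2))
      fun a ha => ?_
    obtain ⟨i, hi, rfl⟩ := List.getElem_of_mem ha
    obtain ⟨d, hd⟩ := Nat.exists_eq_add_of_le (Finset.single_le_sum
      (f := fun i : Fin fs.length => k fs[i] (fs.getElem_mem i.2)) (fun _ _ => Nat.zero_le _)
      (Finset.mem_univ (⟨i, hi⟩ : Fin fs.length)))
    rw [hd, add_comm, pow_add, mul_smul]
    exact (congrArg _ (hk _ _)).trans (smul_zero _)
  · rintro ⟨n, hn⟩ f hf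
    exact ⟨n, hn _ (pow_mem_ofList_pow fs hf le_rfl)⟩

/-- The effacing module. -/
noncomputable abbrev effE : ModuleCat.{u} A := ModuleCat.of A (∀ i, locAt fs M i)

/-- The cokernel of the effacing map. -/
noncomputable abbrev effQ : ModuleCat.{u} A :=
  ModuleCat.of A ((∀ i, locAt fs M i) ⧸ LinearMap.range (iotaE fs M))

/-- The iterated torsion of the cokernels. -/
noncomputable def RT : ℕ → ModuleCat.{u} A → ModuleCat.{u} A
  | 0, M => ModuleCat.of A (DRing.torsionSub (Ideal.ofList fs) M)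
  | k + 1, M => RT k (effQ fs M)

/-- `0 → T → M → M' → 0`. -/
noncomputable def effSeq₁ : ShortComplex (ModuleCat.{u} A) :=
  ShortComplex.mk (ModuleCat.ofHom (LinearMap.ker (iotaE fs M)).subtype)
    (ModuleCat.ofHom (iotaE fs M).rangeRestrict)
    (ModuleCat.hom_ext (LinearMap.ext fun x => Subtype.ext x.2))

theorem effSeq₁_shortExact : (effSeq₁ fs M).ShortExact := by
  refine { exact := ?_, mono_f := ?_, epi_g := ?_ }
  · rw [ShortComplex.moduleCat_exact_iff]
    exact fun x hx => ⟨⟨x, congrArg Subtype.val hx⟩, rfl⟩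
  · exact (ModuleCat.mono_iff_injective _).2 Subtype.val_injective
  · exact (ModuleCat.epi_iff_surjective _).2 (iotaE fs M).surjective_rangeRestrict

/-- `0 → M' → E → Q → 0`. -/
noncomputable def effSeq₂ : ShortComplex (ModuleCat.{u} A) :=
  ShortComplex.mk (ModuleCat.ofHom (LinearMap.range (iotaE fs M)).subtype)
    (ModuleCat.ofHom (LinearMap.range (iotaE fs M)).mkQ)
    (ModuleCat.hom_ext (LinearMap.ext fun x => (Submodule.Quotient.mk_eq_zero _).2 x.2))

theorem effSeq₂_shortExact : (effSeq₂ fs M).ShortExact := by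
  refine { exact := ?_, mono_f := ?_, epi_g := ?_ }
  · rw [ShortComplex.moduleCat_exact_iff]
    exact fun x hx => ⟨⟨x, (Submodule.Quotient.mk_eq_zero _).1 hx⟩, rfl⟩
  · exact (ModuleCat.mono_iff_injective _).2 Subtype.val_injective
  · exact (ModuleCat.epi_iff_surjective _).2 (Submodule.mkQ_surjective _)

theorem bijective_smul_locAt (i : Fin fs.length) :
    Function.Bijective fun x : locAt fs M i => fs.get i • x :=
  (Module.End.isUnit_iff _).1 (IsLocalizedModule.map_units
    (LocalizedModule.mkLinearMap (Submonoid.powers (fs.get i)) M)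
    ⟨fs.get i, Submonoid.mem_powers _⟩)

theorem subsingleton_stage_effE (j : ℤ) (n : ℕ) : Subsingleton (Stage fs (effE fs M) j n) := by
  classical
  refine subsingleton_stage_of_finset fs (E := fun i => ModuleCat.of A (locAt fs M i))
    (fun i => ModuleCat.ofHom (LinearMap.proj i))
    (fun i => ModuleCat.ofHom (LinearMap.single A (locAt fs M) i)) ?_ j n fun i => ?_
  · refine ModuleCat.hom_ext (LinearMap.ext fun x => ?_)
    rw [ModuleCat.hom_sum, LinearMap.sum_apply]
    exact Finset.univ_sum_single x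
  · exact subsingleton_stage_of_bijective fs _ (List.get_mem fs i) (bijective_smul_locAt fs M i) j n

theorem subsingleton_HLim_effE (j : ℤ) : Subsingleton (HLim fs (effE fs M) j) :=
  subsingleton_HLim fs _ j fun n c =>
    ⟨n, le_rfl, @Subsingleton.elim _ (subsingleton_stage_effE fs M j n) _ _⟩

end Eff

theorem lim_exact₂ {S : ShortComplex (ModuleCat.{u} A)} (hS : S.ShortExact) (j : ℤ) :
    Function.Exact (mapL fs S.f j) (mapL fs S.g j) := by
  intro z
  have hex : ∀ n, Function.Exact (mapH fs S.f j n) (mapH fs S.g j n) := fun n =>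
    (ShortComplex.ShortExact.moduleCat_exact_iff_function_exact _).1
      ((kSeq_shortExact hS (fs.map (· ^ n))).homology_exact₂ j)
  constructor
  · intro hz
    obtain ⟨n, c, rfl⟩ := ιL_surjective fs _ j z
    rw [mapL_ι] at hz
    obtain ⟨m, h, hm⟩ := exists_of_ιL_eq_zero fs _ j hz
    rw [← mapH_trH fs S.g j h] at hm
    obtain ⟨c', hc'⟩ := (hex m _).1 hm
    exact ⟨ιL fs _ j m c', by rw [mapL_ι, hc', ιL_trH]⟩
  · rintro ⟨w, rfl⟩
    obtain ⟨n, c, rfl⟩ := ιL_surjective fs _ j w
    rw [mapL_ι, mapL_ι, (hex n _).2 ⟨c, rfl⟩, map_zero]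

/-- Dimension shifting: `H^{k+1}(M) ≅ H^k(Q)`. -/
theorem nonempty_HLim_equiv_effQ (M : ModuleCat.{u} A) (j k : ℤ) (hjk : j + 1 = k)
    (hk : 0 < k + fs.length) : Nonempty (HLim fs M k ≃ₗ[A] HLim fs (effQ fs M) j) := by
  have h₁ := effSeq₁_shortExact fs M
  have h₂ := effSeq₂_shortExact fs M
  have htor : ∀ f ∈ fs, ∀ x : (effSeq₁ fs M).X₁, ∃ n : ℕ, f ^ n • x = 0 := fun f hf x => by
    obtain ⟨n, hn⟩ := (mem_ker_iotaE fs M x.1).1 x.2 f hf
    exact ⟨n, Subtype.ext hn⟩
  have hT : ∀ i : ℤ, 0 < i + fs.length → Subsingleton (HLim fs (effSeq₁ fs M).X₁ i) :=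
    fun i hi => subsingleton_HLim fs _ i (exists_trH_eq_zero_of_torsion _ fs htor i hi)
  have hg : Function.Bijective (mapL fs (effSeq₁ fs M).g k) := by
    refine ⟨?_, fun y => (lim_exact₃ fs h₁ k (k + 1) rfl y).1
      (@Subsingleton.elim _ (hT (k + 1) (by omega)) _ _)⟩
    rw [injective_iff_map_eq_zero]
    intro x hx
    obtain ⟨w, rfl⟩ := (lim_exact₂ fs h₁ k x).1 hx
    rw [@Subsingleton.elim _ (hT k hk) w 0, map_zero]
  have hd : Function.Bijective (dL fs h₂ j k hjk) := by
    refine ⟨?_, fun y => (lim_exact₁ fs h₂ j k hjk y).1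
      (@Subsingleton.elim _ (subsingleton_HLim_effE fs M k) _ _)⟩
    rw [injective_iff_map_eq_zero]
    intro x hx
    obtain ⟨w, rfl⟩ := (lim_exact₃ fs h₂ j k hjk x).1 hx
    rw [@Subsingleton.elim _ (subsingleton_HLim_effE fs M j) w (0 : HLim fs (effE fs M) j)]
    exact map_zero _
  exact ⟨(LinearEquiv.ofBijective _ hg).trans (LinearEquiv.ofBijective _ hd).symm⟩

/-- The direct limit Koszul cohomology is the iterated torsion. -/
theorem nonempty_HLim_equiv_RT : ∀ (k : ℕ) (M : ModuleCat.{u} A) (j : ℤ), j + fs.length = k →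
    Nonempty (HLim fs M j ≃ₗ[A] RT fs k M) := by
  intro k
  induction k with
  | zero =>
    intro M j hj
    exact ⟨(LinearEquiv.ofInjective _ (botL_injective fs M j hj)).trans
      (LinearEquiv.ofEq _ _ (range_botL fs M j hj))⟩
  | succ k ih =>
    intro M j hj
    obtain ⟨e⟩ := nonempty_HLim_equiv_effQ fs M (j - 1) j (sub_add_cancel j 1)
      (by push_cast at hj; omega)
    obtain ⟨e'⟩ := ih (effQ fs M) (j - 1) (by push_cast at hj ⊢; omega)
    exact ⟨e.trans e'⟩

end Groth.L04.Koszul
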