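import Groth.Agent.L04.Koszul.CechCx
import Groth.Agent.L04.Koszul.Efface

/-!
# Čech cohomology of the localisations is the direct limit Koszul cohomology
-/

set_option autoImplicit false
set_option backward.isDefEq.respectTransparency.types false

universe u

open CategoryTheory CategoryTheory.Limits

namespace Groth.L04.Koszul.Cech

variable {A : Type u} [CommRing A] {ι : Type u} (f : ι → A) {M : ModuleCat.{u} A}

theorem isZero_homology_of_bijective (i0 : ι) (hbij : Function.Bijective fun x : M => f i0 • x)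
    (n : ℕ) : IsZero ((cx f M).homology (n + 1)) := by
  rw [Groth.L28.HomElt.isZero_homology_iff (i := n) (j := n + 1) (k := n + 2) (by simp) (by simp)]
  intro x hx
  refine ⟨hpy f i0 hbij x, ?_⟩
  have h := d_hpy_add f i0 hbij x
  rw [hx] at h
  have h0 : hpy f i0 hbij (0 : (cx f M).X (n + 2)) = 0 :=
    ext_val f fun b => map_zero (res (refines_cons f i0 hbij b))
  rwa [h0, add_zero] at h

theorem subsingleton_X_of_torsion (h : ∀ i, ∀ x : M, ∃ k : ℕ, f i ^ k • x = 0) (n : ℕ) :
    Subsingleton ((cx f M).X n) := by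
  refine ⟨fun x y => ext_val f fun a => ?_⟩
  have hs : Subsingleton (loc f M a) := by
    refine LocalizedModule.subsingleton_iff.2 fun m => ?_
    obtain ⟨k, hk⟩ := h (a 0) m
    obtain ⟨c, hc⟩ := pow_dvd_pow_of_dvd (Finset.dvd_prod_of_mem (fun k => f (a k)) (Finset.mem_univ (0 : Fin (n + 1)))) k
    refine ⟨cp f a ^ k, ⟨k, rfl⟩, ?_⟩
    show (∏ k, f (a k)) ^ k • m = 0
    rw [hc, mul_comm, mul_smul, hk, smul_zero]
  exact Subsingleton.elim _ _

/-- Finitely many idempotent components. -/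
theorem val_sum_components {κ : Type*} [Fintype κ] {E : κ → ModuleCat.{u} A} (p : ∀ i, M ⟶ E i)
    (q : ∀ i, E i ⟶ M) (hpq : ∑ i, p i ≫ q i = 𝟙 M) {n : ℕ} (x : (cx f M).X n) :
    ∑ i, (cxMap f (q i)).f n ((cxMap f (p i)).f n x) = x := by
  refine ext_val f fun a => ?_
  rw [map_sum, Finset.sum_apply]
  simp only [val_cxMap]
  have h : ∑ i, (locMap f (q i) a).comp (locMap f (p i) a) = LinearMap.id :=
    IsLocalizedModule.ext (Submonoid.powers (cp f a)) (mkLoc f M a)
      (IsLocalizedModule.map_units (mkLoc f M a)) (LinearMap.ext fun y => by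
        simp only [LinearMap.comp_apply, LinearMap.sum_apply, LinearMap.id_apply, locMap_mk]
        rw [← map_sum]
        refine congrArg _ ?_
        have := LinearMap.congr_fun (congrArg ModuleCat.Hom.hom hpq) y
        rwa [ModuleCat.hom_sum, LinearMap.sum_apply] at this)
  have := LinearMap.congr_fun h (val f x a)
  rwa [LinearMap.sum_apply] at this

theorem isZero_homology_of_components {κ : Type*} [Fintype κ] {E : κ → ModuleCat.{u} A}
    (p : ∀ i, M ⟶ E i) (q : ∀ i, E i ⟶ M) (hpq : ∑ i, p i ≫ q i = 𝟙 M) (n : ℕ)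
    (h : ∀ i, IsZero ((cx f (E i)).homology (n + 1))) : IsZero ((cx f M).homology (n + 1)) := by
  simp only [Groth.L28.HomElt.isZero_homology_iff (i := n) (j := n + 1) (k := n + 2)
    (show (ComplexShape.up ℕ).prev (n + 1) = n by simp)
    (show (ComplexShape.up ℕ).next (n + 1) = n + 2 by simp)] at h ⊢
  intro x hx
  choose y hy using fun i => h i ((cxMap f (p i)).f (n + 1) x) (by
    rw [← ConcreteCategory.comp_apply, (cxMap f (p i)).comm, ConcreteCategory.comp_apply, hx,
      map_zero])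
  refine ⟨∑ i, (cxMap f (q i)).f n (y i), ?_⟩
  rw [map_sum]
  refine Eq.trans (Finset.sum_congr rfl fun i _ => ?_) (val_sum_components f p q hpq x)
  rw [← ConcreteCategory.comp_apply, (cxMap f (q i)).comm, ConcreteCategory.comp_apply, hy]

/-- The augmentation. -/
noncomputable def aug (M : ModuleCat.{u} A) : M →ₗ[A] (cx f M).X 0 :=
  LinearMap.pi fun a => mkLoc f M a

theorem val_aug (m : M) (a : Fin 1 → ι) : val f (aug f M m) a = mkLoc f M a m := rfl

theorem cxMap_aug {N : ModuleCat.{u} A} (g : M ⟶ N) (m : M) :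
    (cxMap f g).f 0 (aug f M m) = aug f N (g m) :=
  ext_val f fun a => locMap_mk g a m

/-- The constant tuple. -/
abbrev one (i : ι) : Fin 1 → ι := fun _ => i

theorem eq_one (a : Fin 1 → ι) : a = one (a 0) := funext fun k => congrArg a (Subsingleton.elim k 0)

theorem cp_one (i : ι) : cp f (one i) = f i := Fin.prod_univ_one _

theorem exists_val_one (z : ∀ i, loc f M (one i)) :
    ∃ x : (cx f M).X 0, ∀ i, val f x (one i) = z i := by
  refine ⟨mkC f fun a => res (a := one (a 0)) (b := a) (fun _ => inv_apply a 0) (z (a 0)), fun i => ?_⟩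
  rw [val_mkC]
  exact res_self (a := one i) _ (z i)

theorem cp_pair (a : Fin 2 → ι) : cp f a = f (a 0) * f (a 1) := Fin.prod_univ_two _

theorem exists_pow_smul_eq_mk (i : ι) (z : loc f M (one i)) :
    ∃ (k : ℕ) (m : M), f i ^ k • z = mkLoc f M (one i) m := by
  obtain ⟨⟨m, ⟨_, k, rfl⟩⟩, h⟩ := IsLocalizedModule.surj (Submonoid.powers (cp f (one i)))
    (mkLoc f M (one i)) z
  exact ⟨k, m, (congrArg (fun s : A => s ^ k • z) (cp_one f i).symm).trans h⟩

theorem inv_pow_smul_injective {n : ℕ} {a : Fin (n + 1) → ι} {s : A} (h : Inv (f := f) M a s)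
    (k : ℕ) {z : loc f M a} (hz : s ^ k • z = 0) : z = 0 := by
  have h' : IsUnit (algebraMap A (Module.End A (loc f M a)) (s ^ k)) := by
    rw [map_pow]
    exact IsUnit.pow k h
  exact ((Module.End.isUnit_iff _).1 h').1 (hz.trans (map_zero _).symm)

theorem exists_pow_of_res_eq_zero {i j : ι} {a : Fin 2 → ι} (ha : cp f a = f i * f j)
    (h : Refines f M (one j) a) (z : loc f M (one j)) (hz : res h z = 0) :
    ∃ l : ℕ, f i ^ l • z = 0 := by
  obtain ⟨k, m, hm⟩ := exists_pow_smul_eq_mk f j z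
  have h1 : mkLoc f M a m = 0 := by
    rw [← res_mk h, ← hm, map_smul, hz, smul_zero]
  obtain ⟨⟨_, l, rfl⟩, hl⟩ := (IsLocalizedModule.eq_zero_iff (Submonoid.powers (cp f a)) (mkLoc f M a)).1 h1
  change cp f a ^ l • m = 0 at hl
  rw [ha, mul_pow, mul_comm, mul_smul] at hl
  refine ⟨l, inv_pow_smul_injective f (inv_apply (one j) 0) (l + k) ?_⟩
  show f j ^ (l + k) • f i ^ l • z = 0
  rw [smul_comm, pow_add, mul_smul, hm, ← map_smul, ← map_smul, smul_comm, hl, map_zero]

theorem res_pair_eq_of_d_eq_zero {x : (cx f M).X 0} (hx : (cx f M).d 0 1 x = 0) (i j : ι)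
    (h1 : Refines f M (one j) ![i, j]) (h0 : Refines f M (one i) ![i, j]) :
    res h1 (val f x (one j)) = res h0 (val f x (one i)) := by
  have h := val_d_zero f (M := M) ![i, j] x
  rw [hx, map_zero] at h
  exact sub_eq_zero.1 h.symm

theorem d_eq_zero_iff [Finite ι] (x : (cx f M).X 0) :
    (cx f M).d 0 1 x = 0 ↔ ∀ i, ∃ k : ℕ, f i ^ k • x ∈ LinearMap.range (aug f M) := by
  cases nonempty_fintype ι
  constructor
  · intro hx i
    obtain ⟨k, m, hm⟩ := exists_pow_smul_eq_mk f i (val f x (one i))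
    have hj : ∀ j, ∃ l : ℕ, f i ^ l • (mkLoc f M (one j) m - f i ^ k • val f x (one j)) = 0 := by
      intro j
      have h1 : Refines f M (one j) ![i, j] := fun _ => inv_apply ![i, j] 1
      have h0 : Refines f M (one i) ![i, j] := fun _ => inv_apply ![i, j] 0
      refine exists_pow_of_res_eq_zero f (i := i) (j := j) (a := ![i, j])
        (by rw [cp_pair]; rfl) h1 _ ?_
      rw [map_sub, map_smul, res_pair_eq_of_d_eq_zero f hx i j h1 h0, res_mk, ← map_smul, hm,
        res_mk, sub_self]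
    choose l hl using hj
    refine ⟨Finset.univ.sup l + k, f i ^ (Finset.univ.sup l) • m, ext_val f fun a => ?_⟩
    rw [eq_one a, val_aug, map_smul, map_smul, Pi.smul_apply, pow_add, mul_smul, ← sub_eq_zero,
      ← smul_sub, ← Nat.sub_add_cancel (Finset.le_sup (f := l) (Finset.mem_univ (a 0))), pow_add,
      mul_smul, hl, smul_zero]
  · intro h
    refine ext_val f fun a => ?_
    obtain ⟨k, m, hm⟩ := h (a 0)
    have hc : ∀ j, f (a 0) ^ k • val f x (one j) = mkLoc f M (one j) m := fun j =>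
      (congrFun ((map_smul (val f) (f (a 0) ^ k) x).symm.trans (congrArg (val f) hm.symm)) (one j))
    rw [val_d_zero, map_zero, Pi.zero_apply]
    refine inv_pow_smul_injective f (inv_apply a 0) k ?_
    rw [smul_sub, ← map_smul, ← map_smul, hc, hc]
    exact sub_eq_zero.2 ((res_mk _ m).trans (res_mk _ m).symm)

theorem d_aug [Finite ι] (m : M) : (cx f M).d 0 1 (aug f M m) = 0 :=
  (d_eq_zero_iff f _).2 fun i => ⟨0, by rw [pow_zero, one_smul]; exact ⟨m, rfl⟩⟩

theorem mem_range_aug_of_bijective (i0 : ι) (hbij : Function.Bijective fun x : M => f i0 • x)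
    (x : (cx f M).X 0) (hx : (cx f M).d 0 1 x = 0) : x ∈ LinearMap.range (aug f M) := by
  obtain ⟨k, m, hm⟩ := exists_pow_smul_eq_mk f i0 (val f x (one i0))
  obtain ⟨m', hm'⟩ : ∃ m', f i0 ^ k • m' = m := by
    refine ((hbij.iterate k).2 m).imp fun m' h => ?_
    rw [← h, smul_iterate_apply]
  have hxi : val f x (one i0) = mkLoc f M (one i0) m' := by
    rw [← sub_eq_zero]
    refine inv_pow_smul_injective f (inv_apply (one i0) 0) k ?_
    show f i0 ^ k • _ = 0
    rw [smul_sub, hm, ← map_smul, hm', sub_self]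
  refine ⟨m', ext_val f fun a => ?_⟩
  rw [eq_one a, val_aug]
  have h1 : Refines f M (one (a 0)) ![i0, a 0] := fun _ => inv_apply ![i0, a 0] 1
  have h0 : Refines f M (one i0) ![i0, a 0] := fun _ => inv_apply ![i0, a 0] 0
  obtain ⟨l, hl⟩ := exists_pow_of_res_eq_zero f (i := i0) (j := a 0) (a := ![i0, a 0])
    (by rw [cp_pair]; rfl) h1 (val f x (one (a 0)) - mkLoc f M (one (a 0)) m') (by
      rw [map_sub, res_pair_eq_of_d_eq_zero f hx i0 (a 0) h1 h0, hxi, res_mk, res_mk, sub_self])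
  exact (sub_eq_zero.1 (inv_pow_smul_injective f (inv_base f i0 hbij _) l hl)).symm

theorem mem_range_aug_of_components {κ : Type*} [Fintype κ] {E : κ → ModuleCat.{u} A}
    (p : ∀ i, M ⟶ E i) (q : ∀ i, E i ⟶ M) (hpq : ∑ i, p i ≫ q i = 𝟙 M)
    (h : ∀ i (x : (cx f (E i)).X 0), (cx f (E i)).d 0 1 x = 0 → x ∈ LinearMap.range (aug f (E i)))
    (x : (cx f M).X 0) (hx : (cx f M).d 0 1 x = 0) : x ∈ LinearMap.range (aug f M) := by
  rw [← val_sum_components f p q hpq x]
  refine Submodule.sum_mem _ fun i _ => ?_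
  obtain ⟨e, he⟩ := h i ((cxMap f (p i)).f 0 x) (by
    rw [← ConcreteCategory.comp_apply, (cxMap f (p i)).comm, ConcreteCategory.comp_apply, hx,
      map_zero])
  exact ⟨q i e, by rw [← cxMap_aug, he]⟩

section Zero

/-- The cocycles in degree zero. -/
noncomputable abbrev Z0 (K : CochainComplex (ModuleCat.{u} A) ℕ) : Submodule A (K.X 0) :=
  LinearMap.ker (K.d 0 1).hom

theorem exists_zero_homology_iso (K : CochainComplex (ModuleCat.{u} A) ℕ) :
    ∃ c : Z0 K →ₗ[A] K.homology 0, Function.Bijective c ∧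
      ∀ (z : K.cycles 0) (h : K.iCycles 0 z ∈ Z0 K), c ⟨K.iCycles 0 z, h⟩ = K.homologyπ 0 z := by
  have hb : Function.Bijective (LinearMap.codRestrict (Z0 K) (K.iCycles 0).hom
      (fun z => Groth.L28.HomElt.d_iCycles 0 1 z)) := by
    refine ⟨fun a b h => Groth.L28.HomElt.iCycles_injective K 0 (congrArg Subtype.val h), fun x => ?_⟩
    obtain ⟨z, hz⟩ := Groth.L28.HomElt.exists_cycle (K := K) (j := 0) (k := 1) (by simp) x.1 x.2
    exact ⟨z, Subtype.ext hz⟩
  refine ⟨(K.homologyπ 0).hom.comp (LinearEquiv.ofBijective _ hb).symm.toLinearMap, ?_, fun z h => ?_⟩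
  · refine Function.Bijective.comp (g := (K.homologyπ 0).hom)
      ⟨?_, Groth.L28.HomElt.homologyπ_surjective K 0⟩ (LinearEquiv.ofBijective _ hb).symm.bijective
    rw [injective_iff_map_eq_zero]
    intro z hz
    obtain ⟨y, hy⟩ := (Groth.L28.HomElt.π_eq_zero_iff (i := 0) (by simp) z).1 hz
    rw [K.shape 0 0 (by simp)] at hy
    exact Groth.L28.HomElt.iCycles_injective K 0 (hy.symm.trans (map_zero _).symm)
  · show K.homologyπ 0 ((LinearEquiv.ofBijective _ hb).symm ⟨K.iCycles 0 z, h⟩) = _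
    refine congrArg _ ((LinearEquiv.ofBijective _ hb).injective ?_)
    rw [LinearEquiv.apply_symm_apply]
    rfl

theorem map_Z0 {K L : CochainComplex (ModuleCat.{u} A) ℕ} (φ : K ⟶ L) (x : Z0 K) :
    φ.f 0 x.1 ∈ Z0 L := by
  show L.d 0 1 (φ.f 0 x.1) = 0
  rw [← ConcreteCategory.comp_apply, φ.comm, ConcreteCategory.comp_apply,
    show K.d 0 1 x.1 = 0 from x.2, map_zero]

end Zero

section Compare

variable (fs : List A)

/-- The family of the list. -/
abbrev fam : ULift.{u} (Fin fs.length) → A := fun i => fs.get i.down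

theorem mem_torsionSub_iff {N : Type u} [AddCommGroup N] [Module A N] (x : N) :
    x ∈ DRing.torsionSub (Ideal.ofList fs) N ↔ ∀ i : Fin fs.length, ∃ k : ℕ, fs.get i ^ k • x = 0 := by
  constructor
  · rintro ⟨n, hn⟩ i
    exact ⟨n, hn _ (pow_mem_ofList_pow fs (List.get_mem fs i) le_rfl)⟩
  · intro h
    choose k hk using h
    refine exists_pow_kills fs (x := x) (m := Finset.univ.sup k) fun a ha => ?_
    obtain ⟨i, rfl⟩ := List.get_of_mem ha
    rw [← Nat.sub_add_cancel (Finset.le_sup (f := k) (Finset.mem_univ i)), pow_add, mul_smul, hk,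
      smul_zero]

/-- Degree zero cochains are the effacing module. -/
theorem exists_zero_equiv (M : ModuleCat.{u} A) :
    ∃ e : (cx (fam fs) M).X 0 ≃ₗ[A] (∀ i, locAt fs M i),
      ∀ m : M, e (aug (fam fs) M m) = iotaE fs M m := by
  have hloc : ∀ i : Fin fs.length,
      IsLocalizedModule (Submonoid.powers (fs.get i)) (mkLoc (fam fs) M (one ⟨i⟩)) := fun i =>
    (congrArg (fun s => IsLocalizedModule (Submonoid.powers s) (mkLoc (fam fs) M (one ⟨i⟩)))
      (cp_one (fam fs) ⟨i⟩)).mp inferInstance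
  have hex : ∀ i : Fin fs.length, ∃ e : loc (fam fs) M (one ⟨i⟩) ≃ₗ[A] locAt fs M i, ∀ m : M,
      e (mkLoc (fam fs) M (one ⟨i⟩) m) =
        LocalizedModule.mkLinearMap (Submonoid.powers (fs.get i)) M m := fun i =>
    haveI := hloc i
    ⟨IsLocalizedModule.linearEquiv (Submonoid.powers (fs.get i)) (mkLoc (fam fs) M (one ⟨i⟩))
      (LocalizedModule.mkLinearMap (Submonoid.powers (fs.get i)) M),
      fun m => IsLocalizedModule.linearEquiv_apply _ _ _ m⟩
  choose ei hei using hex
  let v : (cx (fam fs) M).X 0 →ₗ[A] ∀ a : Fin 1 → ULift.{u} (Fin fs.length), loc (fam fs) M a :=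
    val (fam fs) (n := 0)
  let φ : (cx (fam fs) M).X 0 →ₗ[A] (∀ i, locAt fs M i) :=
    LinearMap.pi fun i => (ei i).toLinearMap.comp ((LinearMap.proj (R := A)
      (φ := fun a : Fin 1 → ULift.{u} (Fin fs.length) => loc (fam fs) M a) (one ⟨i⟩)).comp v)
  refine ⟨LinearEquiv.ofBijective φ ⟨fun x y h => ext_val _ fun a => ?_, fun y => ?_⟩, fun m => ?_⟩
  · rw [eq_one a]
    exact (ei (a 0).down).injective (congrFun h (a 0).down)
  · obtain ⟨x, hx⟩ := exists_val_one (fam fs) (M := M)
      fun j : ULift.{u} (Fin fs.length) => (ei j.down).symm (y j.down)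
    refine ⟨x, funext fun i => ?_⟩
    show ei i (val (fam fs) x (one ⟨i⟩)) = y i
    rw [hx ⟨i⟩, LinearEquiv.apply_symm_apply]
  · funext i
    exact hei i m

/-- `H⁰(C)/M = R¹`. -/
theorem nonempty_Z0_quotient_equiv (M : ModuleCat.{u} A) :
    Nonempty ((Z0 (cx (fam fs) M) ⧸ (LinearMap.range (aug (fam fs) M)).comap (Z0 (cx (fam fs) M)).subtype)
      ≃ₗ[A] RT fs 1 M) := by
  obtain ⟨e, he⟩ := exists_zero_equiv fs M
  let π : Z0 (cx (fam fs) M) →ₗ[A] DRing.torsionSub (Ideal.ofList fs) (effQ fs M) :=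
    LinearMap.codRestrict _
      ((LinearMap.range (iotaE fs M)).mkQ.comp (e.toLinearMap.comp (Z0 (cx (fam fs) M)).subtype))
      fun x => (mem_torsionSub_iff fs _).2 fun i => by
        obtain ⟨k, m, hm⟩ := (d_eq_zero_iff (fam fs) x.1).1 x.2 ⟨i⟩
        refine ⟨k, ?_⟩
        show fs.get i ^ k • (LinearMap.range (iotaE fs M)).mkQ (e x.1) = 0
        rw [← map_smul, ← map_smul, ← hm, he]
        exact (Submodule.Quotient.mk_eq_zero _).2 ⟨m, rfl⟩
  have hπ : Function.Surjective π := by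
    rintro ⟨y, hy⟩
    obtain ⟨v, rfl⟩ := Submodule.mkQ_surjective (LinearMap.range (iotaE fs M)) y
    have hv : (cx (fam fs) M).d 0 1 (e.symm v) = 0 := (d_eq_zero_iff (fam fs) _).2 fun i => by
      obtain ⟨k, hk⟩ := (mem_torsionSub_iff fs _).1 hy i.down
      have hk' : (LinearMap.range (iotaE fs M)).mkQ (fs.get i.down ^ k • v) = 0 :=
        (map_smul _ _ _).trans hk
      obtain ⟨m, hm⟩ := (Submodule.Quotient.mk_eq_zero _).1 hk'
      exact ⟨k, m, e.injective (by rw [he, hm, map_smul, e.apply_symm_apply])⟩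
    exact ⟨⟨e.symm v, hv⟩, Subtype.ext (congrArg (LinearMap.range (iotaE fs M)).mkQ (e.apply_symm_apply v))⟩
  have hker : LinearMap.ker π =
      (LinearMap.range (aug (fam fs) M)).comap (Z0 (cx (fam fs) M)).subtype := by
    ext x
    rw [LinearMap.mem_ker, Submodule.mem_comap]
    constructor
    · intro hx
      obtain ⟨m, hm⟩ := (Submodule.Quotient.mk_eq_zero _).1 (congrArg Subtype.val hx)
      exact ⟨m, e.injective ((he m).trans hm)⟩
    · rintro ⟨m, hm⟩
      refine Subtype.ext ((Submodule.Quotient.mk_eq_zero _).2 ⟨m, ?_⟩)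
      exact (he m).symm.trans (congrArg e hm)
  exact ⟨(Submodule.quotEquivOfEq _ _ hker.symm).trans (π.quotKerEquivOfSurjective hπ)⟩

theorem effE_components (M : ModuleCat.{u} A) :
    ∑ i : Fin fs.length, (ModuleCat.ofHom (LinearMap.proj i) : effE fs M ⟶ ModuleCat.of A (locAt fs M i)) ≫
      ModuleCat.ofHom (LinearMap.single A (locAt fs M) i) = 𝟙 (effE fs M) := by
  classical
  refine ModuleCat.hom_ext (LinearMap.ext fun x => ?_)
  rw [ModuleCat.hom_sum, LinearMap.sum_apply]
  exact Finset.univ_sum_single x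

theorem isZero_homology_effE (M : ModuleCat.{u} A) (n : ℕ) :
    IsZero ((cx (fam fs) (effE fs M)).homology (n + 1)) :=
  isZero_homology_of_components (fam fs) (E := fun i => ModuleCat.of A (locAt fs M i)) _ _
    (effE_components fs M) n fun i =>
      isZero_homology_of_bijective (fam fs) ⟨i⟩ (bijective_smul_locAt fs M i) n

theorem mem_range_aug_effE (M : ModuleCat.{u} A) (x : (cx (fam fs) (effE fs M)).X 0)
    (hx : (cx (fam fs) (effE fs M)).d 0 1 x = 0) : x ∈ LinearMap.range (aug (fam fs) (effE fs M)) :=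
  mem_range_aug_of_components (fam fs) (E := fun i => ModuleCat.of A (locAt fs M i)) _ _
    (effE_components fs M)
    (fun i => mem_range_aug_of_bijective (fam fs) ⟨i⟩ (bijective_smul_locAt fs M i)) x hx

/-- Passing to the image does not change the Čech cohomology. -/
theorem nonempty_homology_equiv_range (M : ModuleCat.{u} A) (n : ℕ) :
    Nonempty ((cx (fam fs) M).homology n ≃ₗ[A] (cx (fam fs) (effSeq₁ fs M).X₃).homology n) := by
  have hC := cSeq_shortExact (fam fs) (effSeq₁_shortExact fs M)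
  have hzero : ∀ k, Subsingleton ((cx (fam fs) (effSeq₁ fs M).X₁).X k) :=
    subsingleton_X_of_torsion (fam fs) fun i x => by
      obtain ⟨k, hk⟩ := (mem_ker_iotaE fs M x.1).1 x.2 _ (List.get_mem fs i.down)
      exact ⟨k, Subtype.ext hk⟩
  have : ∀ k, IsIso ((cxMap (fam fs) (effSeq₁ fs M).g).f k) := fun k => by
    have hk := hC.map_of_exact (HomologicalComplex.eval (ModuleCat.{u} A) (ComplexShape.up ℕ) k)
    exact hk.isIso_g_iff.2 (ModuleCat.isZero_iff_subsingleton.2 (hzero k))
  haveI : IsIso (cxMap (fam fs) (effSeq₁ fs M).g) := HomologicalComplex.Hom.isIso_of_components _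
  exact ⟨((HomologicalComplex.homologyFunctor (ModuleCat.{u} A) (ComplexShape.up ℕ) n).mapIso
    (asIso (cxMap (fam fs) (effSeq₁ fs M).g))).toLinearEquiv⟩

theorem nonempty_homology_succ_equiv_effQ (M : ModuleCat.{u} A) (n : ℕ) :
    Nonempty ((cx (fam fs) M).homology (n + 2) ≃ₗ[A] (cx (fam fs) (effQ fs M)).homology (n + 1)) := by
  obtain ⟨e⟩ := nonempty_homology_equiv_range fs M (n + 2)
  have hC := cSeq_shortExact (fam fs) (effSeq₂_shortExact fs M)
  haveI := hC.isIso_δ (n + 1) (n + 2) (show (ComplexShape.up ℕ).Rel (n + 1) (n + 2) by simp) (isZero_homology_effE fs M n)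
    (isZero_homology_effE fs M (n + 1))
  exact ⟨e.trans (asIso (hC.δ (n + 1) (n + 2) _)).symm.toLinearEquiv⟩

theorem nonempty_homology_one_equiv (M : ModuleCat.{u} A) :
    Nonempty ((cx (fam fs) M).homology 1 ≃ₗ[A] RT fs 2 M) := by
  obtain ⟨e⟩ := nonempty_homology_equiv_range fs M 1
  obtain ⟨e'⟩ := nonempty_Z0_quotient_equiv fs (effQ fs M)
  let K := cx (fam fs) (effQ fs M)
  let KE := cx (fam fs) (effE fs M)
  have hC := cSeq_shortExact (fam fs) (effSeq₂_shortExact fs M)
  obtain ⟨c, hc, hcπ⟩ := exists_zero_homology_iso K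
  obtain ⟨cE, hcE, hcEπ⟩ := exists_zero_homology_iso KE
  let g := (cSeq (fam fs) (effSeq₂ fs M)).g
  have hnat : ∀ x : Z0 KE, (HomologicalComplex.homologyMap g 0).hom (cE x) = c ⟨g.f 0 x.1, map_Z0 g x⟩ := by
    intro x
    obtain ⟨z, hz⟩ := Groth.L28.HomElt.exists_cycle (K := KE) (j := 0) (k := 1) (by simp) x.1 x.2
    have hzm : KE.iCycles 0 z ∈ Z0 KE := by rw [hz]; exact x.2
    rw [show x = ⟨KE.iCycles 0 z, hzm⟩ from Subtype.ext hz.symm, hcEπ]
    refine (Groth.L28.HomElt.homologyMap_π g 0 z).trans ((hcπ _ (Groth.L28.HomElt.d_iCycles 0 1 _)).symm.trans ?_)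
    exact congrArg c (Subtype.ext (Groth.L28.HomElt.iCycles_cyclesMap g 0 z))
  let d : Z0 K →ₗ[A] (cx (fam fs) (effSeq₂ fs M).X₁).homology 1 := (hC.δ 0 1 (by simp)).hom.comp c
  have hd : Function.Surjective d := by
    intro y
    obtain ⟨w, hw⟩ := ((ShortComplex.ShortExact.moduleCat_exact_iff_function_exact _).1
      (hC.homology_exact₁ 0 1 (by simp)) y).1
      (@Subsingleton.elim _ (ModuleCat.subsingleton_of_isZero (isZero_homology_effE fs M 0)) _ _)
    obtain ⟨x, rfl⟩ := hc.2 w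
    exact ⟨x, hw⟩
  have hker : LinearMap.ker d = (LinearMap.range (aug (fam fs) (effQ fs M))).comap (Z0 K).subtype := by
    have hex := (ShortComplex.ShortExact.moduleCat_exact_iff_function_exact _).1
      (hC.homology_exact₃ 0 1 (by simp))
    ext x
    rw [LinearMap.mem_ker, Submodule.mem_comap]
    refine (hex (c x)).trans ⟨?_, ?_⟩
    · rintro ⟨w, hw⟩
      obtain ⟨y, rfl⟩ := hcE.2 w
      obtain ⟨v, hv⟩ := mem_range_aug_effE fs M y.1 y.2
      refine ⟨(effSeq₂ fs M).g v, ?_⟩
      have hx : x = ⟨g.f 0 y.1, map_Z0 g y⟩ := hc.1 (hw.symm.trans (hnat y))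
      rw [hx]
      show aug (fam fs) (effQ fs M) ((effSeq₂ fs M).g v) = g.f 0 y.1
      rw [← hv]
      exact (cxMap_aug (fam fs) (effSeq₂ fs M).g v).symm
    · rintro ⟨q, hq⟩
      obtain ⟨v, rfl⟩ := Submodule.mkQ_surjective (LinearMap.range (iotaE fs M)) q
      refine ⟨cE ⟨aug (fam fs) (effE fs M) v, d_aug (fam fs) (M := effE fs M) v⟩, (hnat _).trans (congrArg c (Subtype.ext ?_))⟩
      exact (cxMap_aug (fam fs) (effSeq₂ fs M).g v).trans hq
  exact ⟨e.trans ((d.quotKerEquivOfSurjective hd).symm.trans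
    ((Submodule.quotEquivOfEq _ _ hker).trans e'))⟩

/-- Čech cohomology is the iterated torsion. -/
theorem nonempty_homology_equiv_RT : ∀ (n : ℕ) (M : ModuleCat.{u} A),
    Nonempty ((cx (fam fs) M).homology (n + 1) ≃ₗ[A] RT fs (n + 2) M) := by
  intro n
  induction n with
  | zero => exact nonempty_homology_one_equiv fs
  | succ n ih =>
    intro M
    obtain ⟨e⟩ := nonempty_homology_succ_equiv_effQ fs M n
    obtain ⟨e'⟩ := ih (effQ fs M)
    exact ⟨e.trans e'⟩

end Compare

end Groth.L04.Koszul.Cech
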