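import Groth.Agent.L02.PC.Cone
import Groth.Agent.L28.Kun.Cls
import Mathlib.Algebra.Homology.HomotopyCategory.Pretriangulated
import Mathlib.Algebra.Homology.Linear

/-!
# Homology of mapping cones of complexes of modules, element by element
-/

set_option autoImplicit false
set_option backward.isDefEq.respectTransparency.types false

universe u

open CategoryTheory CategoryTheory.Limits CochainComplex CochainComplex.HomComplex
open Groth.L02.PC (coneEquiv coneEquiv_d)
open Groth.L28.Kun (Z cl cl_surjective cl_eq_zero_iff homologyMap_cl)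

namespace Groth.L04.Koszul

variable {A : Type u} [CommRing A]

section Desc

variable (K : CochainComplex (ModuleCat.{u} A) ℤ) {n : ℤ} {N : Type u} [AddCommGroup N] [Module A N]

theorem exists_mk (c : K.homology n) : ∃ x : Z K n, cl K n x = c := cl_surjective K n c

theorem ker_cl_le {g : Z K n →ₗ[A] N} (hg : ∀ x : Z K n, (∃ y, K.d (n - 1) n y = x.1) → g x = 0) :
    LinearMap.ker (cl K n) ≤ LinearMap.ker g := fun x hx =>
  hg x ((cl_eq_zero_iff K (sub_add_cancel n 1) x).1 hx)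

/-- A linear map on homology from a map on cycles. -/
noncomputable def descCl (g : Z K n →ₗ[A] N)
    (hg : ∀ x : Z K n, (∃ y, K.d (n - 1) n y = x.1) → g x = 0) : K.homology n →ₗ[A] N :=
  (Submodule.liftQ _ g (ker_cl_le K hg)).comp
    ((cl K n).quotKerEquivOfSurjective (cl_surjective K n)).symm.toLinearMap

theorem descCl_cl (g : Z K n →ₗ[A] N) (hg : ∀ x : Z K n, (∃ y, K.d (n - 1) n y = x.1) → g x = 0)
    (x : Z K n) : descCl K g hg (cl K n x) = g x := by
  have : ((cl K n).quotKerEquivOfSurjective (cl_surjective K n)).symm (cl K n x) =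
      Submodule.Quotient.mk x := by
    rw [LinearEquiv.symm_apply_eq, LinearMap.quotKerEquivOfSurjective_apply_mk]
  show Submodule.liftQ _ g (ker_cl_le K hg) _ = _
  erw [this]
  rfl

theorem cl_congr {x : K.X n} (hx : x ∈ Z K n) (y : Z K n) (h : x = y.1) :
    cl K n ⟨x, hx⟩ = cl K n y := congrArg _ (Subtype.ext h)

end Desc

section Maps

variable {K L : CochainComplex (ModuleCat.{u} A) ℤ}

theorem homologyMap_smul_apply (a : A) (f : K ⟶ L) (n : ℤ) (c : K.homology n) :
    HomologicalComplex.homologyMap (a • f) n c = a • HomologicalComplex.homologyMap f n c := by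
  obtain ⟨x, rfl⟩ := exists_mk K c
  rw [homologyMap_cl, homologyMap_cl, ← map_smul]
  rfl

theorem homologyMap_id_apply (n : ℤ) (c : K.homology n) :
    HomologicalComplex.homologyMap (𝟙 K) n c = c := by
  rw [HomologicalComplex.homologyMap_id]
  rfl

theorem homologyMap_comp_apply {P : CochainComplex (ModuleCat.{u} A) ℤ} (f : K ⟶ L) (g : L ⟶ P)
    (n : ℤ) (c : K.homology n) :
    HomologicalComplex.homologyMap (f ≫ g) n c =
      HomologicalComplex.homologyMap g n (HomologicalComplex.homologyMap f n c) := by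
  rw [HomologicalComplex.homologyMap_comp]
  rfl

end Maps

section Cone

variable {P K : CochainComplex (ModuleCat.{u} A) ℤ} (φ : P ⟶ K)

/-- The element of the cone with given components. -/
noncomputable def cmk (i j : ℤ) (hij : i + 1 = j) (p : P.X j) (x : K.X i) : (mappingCone φ).X i :=
  (coneEquiv φ i j hij).symm (p, x)

theorem coneEquiv_cmk {i j : ℤ} (hij : i + 1 = j) (p : P.X j) (x : K.X i) :
    coneEquiv φ i j hij (cmk φ i j hij p x) = (p, x) :=
  LinearEquiv.apply_symm_apply _ _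

theorem cmk_coneEquiv {i j : ℤ} (hij : i + 1 = j) (z : (mappingCone φ).X i) :
    cmk φ i j hij (coneEquiv φ i j hij z).1 (coneEquiv φ i j hij z).2 = z :=
  LinearEquiv.symm_apply_apply _ _

theorem d_cmk {i j k : ℤ} (hij : i + 1 = j) (hjk : j + 1 = k) (p : P.X j) (x : K.X i) :
    (mappingCone φ).d i j (cmk φ i j hij p x) =
      cmk φ j k hjk (-P.d j k p) (φ.f j p + K.d i j x) := by
  apply (coneEquiv φ j k hjk).injective
  rw [coneEquiv_d φ i j k hij hjk, coneEquiv_cmk, coneEquiv_cmk]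

theorem exists_cmk {i j : ℤ} (hij : i + 1 = j) (z : (mappingCone φ).X i) :
    ∃ p x, cmk φ i j hij p x = z := ⟨_, _, cmk_coneEquiv φ hij z⟩

theorem cmk_inj {i j : ℤ} (hij : i + 1 = j) {p p' : P.X j} {x x' : K.X i}
    (h : cmk φ i j hij p x = cmk φ i j hij p' x') : p = p' ∧ x = x' := by
  have := congrArg (coneEquiv φ i j hij) h
  rw [coneEquiv_cmk, coneEquiv_cmk] at this
  exact Prod.ext_iff.1 this

theorem cmk_zero {i j : ℤ} (hij : i + 1 = j) : cmk φ i j hij 0 0 = 0 :=
  map_zero (coneEquiv φ i j hij).symm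

theorem cmk_add {i j : ℤ} (hij : i + 1 = j) (p p' : P.X j) (x x' : K.X i) :
    cmk φ i j hij (p + p') (x + x') = cmk φ i j hij p x + cmk φ i j hij p' x' :=
  map_add (coneEquiv φ i j hij).symm (p, x) (p', x')

theorem smul_cmk {i j : ℤ} (hij : i + 1 = j) (a : A) (p : P.X j) (x : K.X i) :
    a • cmk φ i j hij p x = cmk φ i j hij (a • p) (a • x) :=
  (map_smul (coneEquiv φ i j hij).symm a (p, x)).symm

theorem inr_f_eq {i j : ℤ} (hij : i + 1 = j) (x : K.X i) :
    (mappingCone.inr φ).f i x = cmk φ i j hij 0 x := by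
  show _ = (mappingCone.inl φ).v j i (by omega) 0 + (mappingCone.inr φ).f i x
  rw [map_zero, zero_add]

theorem mem_Z_cmk_iff {i j k : ℤ} (hij : i + 1 = j) (hjk : j + 1 = k) (p : P.X j) (x : K.X i) :
    cmk φ i j hij p x ∈ Z (mappingCone φ) i ↔ P.d j k p = 0 ∧ φ.f j p + K.d i j x = 0 := by
  subst hij
  subst hjk
  show (mappingCone φ).d i (i + 1) (cmk φ i (i + 1) rfl p x) = 0 ↔ _
  rw [d_cmk φ rfl rfl]
  constructor
  · intro h
    rw [← cmk_zero φ rfl] at h
    obtain ⟨h1, h2⟩ := cmk_inj φ rfl h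
    exact ⟨neg_eq_zero.1 h1, h2⟩
  · rintro ⟨h1, h2⟩
    rw [h1, h2, neg_zero, cmk_zero]

/-- The connecting map of the cone on cycles. -/
noncomputable def deltaZ (i j : ℤ) (hij : i + 1 = j) : Z (mappingCone φ) i →ₗ[A] P.homology j :=
  (cl P j).comp (LinearMap.codRestrict _
    (((LinearMap.fst A (P.X j) (K.X i)).comp (coneEquiv φ i j hij).toLinearMap).comp
      (Z (mappingCone φ) i).subtype)
    (fun z => by
      have h := z.2
      rw [← cmk_coneEquiv φ hij z.1] at h
      exact ((mem_Z_cmk_iff φ hij rfl _ _).1 h).1))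

theorem deltaZ_cmk {i j : ℤ} (hij : i + 1 = j) (p : P.X j) (x : K.X i)
    (h : cmk φ i j hij p x ∈ Z (mappingCone φ) i) :
    deltaZ φ i j hij ⟨_, h⟩ = cl P j ⟨p, ((mem_Z_cmk_iff φ hij rfl p x).1 h).1⟩ := by
  show cl P j _ = _
  congr 1
  exact Subtype.ext (congrArg Prod.fst (coneEquiv_cmk φ hij p x))

/-- The connecting map of the cone. -/
noncomputable def deltaC (i j : ℤ) (hij : i + 1 = j) :
    (mappingCone φ).homology i →ₗ[A] P.homology j :=
  descCl (mappingCone φ) (deltaZ φ i j hij) (by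
    rintro ⟨z, hz⟩ ⟨y, hy⟩
    obtain ⟨q, y', rfl⟩ := exists_cmk φ (sub_add_cancel i 1) y
    obtain ⟨p, x, rfl⟩ := exists_cmk φ hij z
    rw [deltaZ_cmk, cl_eq_zero_iff P hij]
    change (mappingCone φ).d (i - 1) i (cmk φ (i - 1) i _ q y') = cmk φ i j hij p x at hy
    rw [d_cmk φ (sub_add_cancel i 1) hij] at hy
    exact ⟨-q, by rw [map_neg]; exact (cmk_inj φ hij hy).1⟩)

theorem deltaC_cl {i j : ℤ} (hij : i + 1 = j) (p : P.X j) (x : K.X i)
    (h : cmk φ i j hij p x ∈ Z (mappingCone φ) i) :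
    deltaC φ i j hij (cl _ i ⟨_, h⟩) = cl P j ⟨p, ((mem_Z_cmk_iff φ hij rfl p x).1 h).1⟩ :=
  (descCl_cl _ _ _ _).trans (deltaZ_cmk φ hij p x h)

/-- `H(K) → H(cone) → H(P)` is exact. -/
theorem exact_inr_deltaC (i j : ℤ) (hij : i + 1 = j) :
    Function.Exact (HomologicalComplex.homologyMap (mappingCone.inr φ) i).hom (deltaC φ i j hij) := by
  intro c
  constructor
  · intro hc
    obtain ⟨⟨z, hz⟩, rfl⟩ := exists_mk (mappingCone φ) c
    obtain ⟨p, x, rfl⟩ := exists_cmk φ hij z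
    rw [deltaC_cl, cl_eq_zero_iff P hij] at hc
    obtain ⟨q, hq⟩ := hc
    change P.d i j q = p at hq
    have hz' := (mem_Z_cmk_iff φ hij rfl p x).1 hz
    have hc' : φ.f i q + x ∈ Z K i := by
      show K.d i (i + 1) (φ.f i q + x) = 0
      subst hij
      rw [map_add, ← ConcreteCategory.comp_apply, φ.comm, ConcreteCategory.comp_apply, hq]
      exact hz'.2
    refine ⟨cl K i ⟨_, hc'⟩, ?_⟩
    erw [homologyMap_cl]
    rw [← sub_eq_zero, ← map_sub, cl_eq_zero_iff _ (sub_add_cancel i 1)]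
    refine ⟨cmk φ (i - 1) i (sub_add_cancel i 1) q 0, ?_⟩
    change (mappingCone φ).d (i - 1) i _ = (mappingCone.inr φ).f i (φ.f i q + x) - cmk φ i j hij p x
    rw [d_cmk φ (sub_add_cancel i 1) hij, inr_f_eq φ hij, eq_sub_iff_add_eq, ← cmk_add, hq,
      neg_add_cancel, map_zero, add_zero]
  · rintro ⟨c', rfl⟩
    obtain ⟨⟨x, hx⟩, rfl⟩ := exists_mk K c'
    erw [homologyMap_cl]
    have he : (mappingCone.inr φ).f i x = cmk φ i j hij 0 x := inr_f_eq φ hij x
    rw [cl_congr _ _ ⟨cmk φ i j hij 0 x, (mem_Z_cmk_iff φ hij rfl 0 x).2 ⟨map_zero _, by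
      subst hij; rw [map_zero, zero_add]; exact hx⟩⟩ he, deltaC_cl, cl_eq_zero_iff P hij]
    exact ⟨0, map_zero _⟩

/-- `H(cone) → H(P) → H(K)` is exact. -/
theorem exact_deltaC_map (i j : ℤ) (hij : i + 1 = j) :
    Function.Exact (deltaC φ i j hij) (HomologicalComplex.homologyMap φ j).hom := by
  intro c
  constructor
  · intro hc
    obtain ⟨⟨p, hp⟩, rfl⟩ := exists_mk P c
    change HomologicalComplex.homologyMap φ j (cl P j ⟨p, hp⟩) = 0 at hc
    rw [homologyMap_cl, cl_eq_zero_iff K hij] at hc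
    obtain ⟨x, hx⟩ := hc
    change K.d i j x = φ.f j p at hx
    have hm : cmk φ i j hij p (-x) ∈ Z (mappingCone φ) i :=
      (mem_Z_cmk_iff φ hij rfl _ _).2 ⟨hp, by rw [map_neg, hx, add_neg_cancel]⟩
    exact ⟨cl _ i ⟨_, hm⟩, deltaC_cl φ hij p (-x) hm⟩
  · rintro ⟨c', rfl⟩
    obtain ⟨⟨z, hz⟩, rfl⟩ := exists_mk (mappingCone φ) c'
    obtain ⟨p, x, rfl⟩ := exists_cmk φ hij z
    rw [deltaC_cl]
    erw [homologyMap_cl]
    rw [cl_eq_zero_iff K hij]
    exact ⟨-x, by
      rw [map_neg, neg_eq_iff_add_eq_zero, add_comm]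
      exact ((mem_Z_cmk_iff φ hij rfl p x).1 hz).2⟩

/-- `H(P) → H(K) → H(cone)` is exact. -/
theorem exact_map_inr (i : ℤ) :
    Function.Exact (HomologicalComplex.homologyMap φ i).hom
      (HomologicalComplex.homologyMap (mappingCone.inr φ) i).hom := by
  intro c
  constructor
  · intro hc
    obtain ⟨⟨x, hx⟩, rfl⟩ := exists_mk K c
    change HomologicalComplex.homologyMap (mappingCone.inr φ) i (cl K i ⟨x, hx⟩) = 0 at hc
    rw [homologyMap_cl, cl_eq_zero_iff _ (sub_add_cancel i 1)] at hc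
    obtain ⟨y, hy⟩ := hc
    obtain ⟨q, w, rfl⟩ := exists_cmk φ (sub_add_cancel i 1) y
    change (mappingCone φ).d (i - 1) i (cmk φ _ i _ q w) = (mappingCone.inr φ).f i x at hy
    rw [d_cmk φ (sub_add_cancel i 1) (rfl : i + 1 = i + 1), inr_f_eq φ rfl] at hy
    obtain ⟨h1, h2⟩ := cmk_inj φ rfl hy
    refine ⟨cl P i ⟨q, neg_eq_zero.1 h1⟩, ?_⟩
    erw [homologyMap_cl]
    rw [← sub_eq_zero, ← map_sub, cl_eq_zero_iff K (sub_add_cancel i 1)]
    refine ⟨-w, ?_⟩
    change K.d (i - 1) i (-w) = φ.f i q - x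
    rw [← h2, map_neg]
    abel
  · rintro ⟨c', rfl⟩
    obtain ⟨⟨p, hp⟩, rfl⟩ := exists_mk P c'
    erw [homologyMap_cl, homologyMap_cl]
    rw [cl_eq_zero_iff _ (sub_add_cancel i 1)]
    refine ⟨cmk φ (i - 1) i (sub_add_cancel i 1) p 0, ?_⟩
    change (mappingCone φ).d (i - 1) i _ = (mappingCone.inr φ).f i (φ.f i p)
    rw [d_cmk φ (sub_add_cancel i 1) (rfl : i + 1 = i + 1), inr_f_eq φ rfl, map_zero, add_zero,
      show P.d i (i + 1) p = 0 from hp, neg_zero]

section Map

variable {P' K' : CochainComplex (ModuleCat.{u} A) ℤ} (φ' : P' ⟶ K') (a : P ⟶ P') (b : K ⟶ K')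
  (comm : φ ≫ b = a ≫ φ')

theorem map_cmk {i j : ℤ} (hij : i + 1 = j) (p : P.X j) (x : K.X i) :
    (mappingCone.map φ φ' a b comm).f i (cmk φ i j hij p x) =
      cmk φ' i j hij (a.f j p) (b.f i x) := by
  have h1 := ConcreteCategory.congr_hom
    (mappingCone.inl_v_desc_f φ ((Cochain.ofHom a).comp (mappingCone.inl φ') (zero_add _))
      (b ≫ mappingCone.inr φ') (by simp [reassoc_of% comm]) j i (by omega)) p
  have h2 := ConcreteCategory.congr_hom
    (mappingCone.inr_f_desc_f φ ((Cochain.ofHom a).comp (mappingCone.inl φ') (zero_add _))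
      (b ≫ mappingCone.inr φ') (by simp [reassoc_of% comm]) i) x
  rw [Cochain.zero_cochain_comp_v, Cochain.ofHom_v, ConcreteCategory.comp_apply,
    ConcreteCategory.comp_apply] at h1
  rw [HomologicalComplex.comp_f, ConcreteCategory.comp_apply, ConcreteCategory.comp_apply] at h2
  show (mappingCone.map φ φ' a b comm).f i
    ((mappingCone.inl φ).v j i (by omega) p + (mappingCone.inr φ).f i x) = _
  rw [map_add]
  exact congrArg₂ (· + ·) h1 h2

theorem deltaC_naturality {i j : ℤ} (hij : i + 1 = j) (c : (mappingCone φ).homology i) :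
    deltaC φ' i j hij (HomologicalComplex.homologyMap (mappingCone.map φ φ' a b comm) i c) =
      HomologicalComplex.homologyMap a j (deltaC φ i j hij c) := by
  obtain ⟨⟨z, hz⟩, rfl⟩ := exists_mk (mappingCone φ) c
  obtain ⟨p, x, rfl⟩ := exists_cmk φ hij z
  rw [deltaC_cl, homologyMap_cl, homologyMap_cl]
  have hm := Groth.L28.Kun.map_mem_Z (mappingCone.map φ φ' a b comm) ⟨_, hz⟩
  rw [cl_congr _ hm ⟨cmk φ' i j hij (a.f j p) (b.f i x), (map_cmk φ φ' a b comm hij p x) ▸ hm⟩
    (map_cmk φ φ' a b comm hij p x), deltaC_cl]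

end Map

end Cone

section Smul

variable (K : CochainComplex (ModuleCat.{u} A) ℤ) (f : A)

theorem homologyMap_smul_id (n : ℤ) (c : K.homology n) :
    HomologicalComplex.homologyMap (f • 𝟙 K) n c = f • c := by
  rw [homologyMap_smul_apply, homologyMap_id_apply]

theorem isZero_cone_smul_iff (i j : ℤ) (hij : i + 1 = j) :
    IsZero ((mappingCone (f • 𝟙 K)).homology i) ↔
      (∀ c : K.homology i, ∃ c', f • c' = c) ∧ (∀ c : K.homology j, f • c = 0 → c = 0) := by
  rw [ModuleCat.isZero_iff_subsingleton]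
  constructor
  · intro h
    refine ⟨fun c => ?_, fun c hc => ?_⟩
    · obtain ⟨c', hc'⟩ := (exact_map_inr (f • 𝟙 K) i c).1 (Subsingleton.elim _ _)
      exact ⟨c', (homologyMap_smul_id K f i c').symm.trans hc'⟩
    · obtain ⟨d, rfl⟩ := (exact_deltaC_map (f • 𝟙 K) i j hij c).1
        ((homologyMap_smul_id K f j c).trans hc)
      rw [Subsingleton.elim d 0, map_zero]
  · rintro ⟨h1, h2⟩
    refine subsingleton_of_forall_eq 0 fun d => ?_
    have hd : deltaC (f • 𝟙 K) i j hij d = 0 := h2 _ ((homologyMap_smul_id K f j _).symm.trans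
      ((exact_deltaC_map (f • 𝟙 K) i j hij _).2 ⟨d, rfl⟩))
    obtain ⟨c, rfl⟩ := (exact_inr_deltaC (f • 𝟙 K) i j hij d).1 hd
    obtain ⟨c', rfl⟩ := h1 c
    exact (exact_map_inr (f • 𝟙 K) i _).2 ⟨c', homologyMap_smul_id K f i c'⟩

end Smul

end Groth.L04.Koszul
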