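import Groth.Agent.L04.Koszul.Efface
import Groth.Agent.L04.Koszul.Compare
import Groth.Prelude.Def_DerCA
import Mathlib.Algebra.Homology.HomotopyCategory.ShiftSequence
import Mathlib.Algebra.Module.LocalizedModule.Exact
import Mathlib.Algebra.Homology.HomologicalComplexAbelian

/-!
# The extended Čech complex and iterated torsion
-/

set_option autoImplicit false
set_option backward.isDefEq.respectTransparency.types false

universe u

open CategoryTheory CategoryTheory.Limits CochainComplex DerCA
open Groth.L28.Kun (Z cl cl_surjective cl_eq_zero_iff homologyMap_cl)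

namespace Groth.L04.Koszul.ExtCech

variable {A : Type u} [CommRing A]

section Loc

variable (S : Submonoid A) {K L : CochainComplex (ModuleCat.{u} A) ℤ}

/-- The terms of the localised complex. -/
abbrev LX (K : CochainComplex (ModuleCat.{u} A) ℤ) (n : ℤ) : Type u := LocalizedModule S (K.X n)

/-- The localisation map on terms. -/
noncomputable def ι (K : CochainComplex (ModuleCat.{u} A) ℤ) (n : ℤ) :
    K.X n →ₗ[A] ((locCx S).obj K).X n := LocalizedModule.mkLinearMap S (K.X n)

instance isLocalizedModule_ι (n : ℤ) : IsLocalizedModule S (ι S K n) :=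
  inferInstanceAs (IsLocalizedModule S (LocalizedModule.mkLinearMap S (K.X n)))

theorem f_ι (φ : K ⟶ L) (n : ℤ) (x : K.X n) :
    ((locCx S).map φ).f n (ι S K n x) = ι S L n (φ.f n x) :=
  IsLocalizedModule.map_apply S (LocalizedModule.mkLinearMap S (K.X n)) (LocalizedModule.mkLinearMap S (L.X n))
    (φ.f n).hom x

theorem d_ι (i j : ℤ) (x : K.X i) : ((locCx S).obj K).d i j (ι S K i x) = ι S K j (K.d i j x) :=
  IsLocalizedModule.map_apply S (LocalizedModule.mkLinearMap S (K.X i)) (LocalizedModule.mkLinearMap S (K.X j))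
    (K.d i j).hom x

theorem exists_smul_eq (n : ℤ) (y : ((locCx S).obj K).X n) : ∃ (s : S) (x : K.X n), (s : A) • y = ι S K n x := by
  obtain ⟨⟨x, s⟩, h⟩ := IsLocalizedModule.surj S (ι S K n) y
  exact ⟨s, x, h⟩

theorem smul_bij (n : ℤ) (s : S) :
    Function.Bijective fun y : ((locCx S).obj K).X n => (s : A) • y :=
  (Module.End.isUnit_iff _).1 (IsLocalizedModule.map_units (ι S K n) s)

theorem eq_zero (n : ℤ) {x : K.X n} : ι S K n x = 0 ↔ ∃ s : S, (s : A) • x = 0 :=
  IsLocalizedModule.eq_zero_iff S (ι S K n)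

theorem unit_f (n : ℤ) (x : K.X n) : (locCxUnit S K).f n x = ι S K n x := rfl

/-- Localisation commutes with homology. -/
instance isLocalizedModule_homology (n : ℤ) :
    IsLocalizedModule S (HomologicalComplex.homologyMap (locCxUnit S K) n).hom := by
  refine (isLocalizedModule_iff _ _).mpr ⟨fun s => ?_, fun y => ?_, fun {a b} he => ?_⟩
  · rw [Module.End.isUnit_iff]
    constructor
    · intro c c' h
      rw [← sub_eq_zero]
      have h0 : (s : A) • (c - c') = 0 := by rw [smul_sub]; exact sub_eq_zero.2 h
      obtain ⟨⟨z, hz⟩, hzc⟩ := exists_mk _ (c - c')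
      rw [← hzc] at h0 ⊢
      rw [← map_smul, cl_eq_zero_iff _ (sub_add_cancel n 1)] at h0
      obtain ⟨w, hw⟩ := h0
      rw [cl_eq_zero_iff _ (sub_add_cancel n 1)]
      obtain ⟨w', rfl⟩ := (smul_bij S (n - 1) s).2 w
      refine ⟨w', (smul_bij S n s).1 ?_⟩
      exact (map_smul _ _ _).symm.trans hw
    · intro c
      obtain ⟨⟨z, hz⟩, rfl⟩ := exists_mk _ c
      obtain ⟨z', rfl⟩ := (smul_bij S n s).2 z
      have hz' : z' ∈ Z ((locCx S).obj K) n := (smul_bij S (n + 1) s).1 ((map_smul _ _ _).symm.trans
        (hz.trans (smul_zero _).symm))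
      exact ⟨cl _ n ⟨z', hz'⟩, (map_smul (cl ((locCx S).obj K) n) (s : A) ⟨z', hz'⟩).symm⟩
  · obtain ⟨⟨z, hz⟩, rfl⟩ := exists_mk _ y
    obtain ⟨s, x, hx⟩ := exists_smul_eq S n z
    have h0 : ι S K (n + 1) (K.d n (n + 1) x) = 0 := by
      rw [← d_ι, ← hx, map_smul, show ((locCx S).obj K).d n (n + 1) z = 0 from hz, smul_zero]
    obtain ⟨t, ht⟩ := (eq_zero S (n + 1)).1 h0
    have hx' : (t : A) • x ∈ Z K n := by
      show K.d n (n + 1) ((t : A) • x) = 0
      rw [map_smul, ht]
    refine ⟨⟨cl K n ⟨_, hx'⟩, t * s⟩, ?_⟩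
    show ((t * s : S) : A) • cl ((locCx S).obj K) n ⟨z, hz⟩ = _
    rw [← map_smul]
    refine Eq.trans ?_ (homologyMap_cl _ _).symm
    refine congrArg _ (Subtype.ext ?_)
    show ((t : A) * s) • z = ι S K n ((t : A) • x)
    rw [mul_smul, hx, map_smul]
  · obtain ⟨⟨z, hz⟩, hzc⟩ := exists_mk _ (a - b)
    have h0 : HomologicalComplex.homologyMap (locCxUnit S K) n (cl K n ⟨z, hz⟩) = 0 := by
      rw [hzc, map_sub, sub_eq_zero]
      exact he
    rw [homologyMap_cl, cl_eq_zero_iff _ (sub_add_cancel n 1)] at h0
    obtain ⟨w, hw⟩ := h0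
    obtain ⟨s, w', hw'⟩ := exists_smul_eq S (n - 1) w
    change ((locCx S).obj K).d (n - 1) n w = ι S K n z at hw
    have h1 : ι S K n ((s : A) • z - K.d (n - 1) n w') = 0 := by
      rw [map_sub, map_smul, ← hw, ← d_ι, ← hw', map_smul, sub_self]
    obtain ⟨t, ht⟩ := (eq_zero S n).1 h1
    refine ⟨t * s, ?_⟩
    rw [← sub_eq_zero]
    show ((t * s : S) : A) • a - ((t * s : S) : A) • b = 0
    rw [← smul_sub, ← hzc, ← map_smul, cl_eq_zero_iff _ (sub_add_cancel n 1)]
    refine ⟨(t : A) • w', ?_⟩
    show K.d (n - 1) n ((t : A) • w') = ((t : A) * s) • z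
    rw [smul_sub, sub_eq_zero] at ht
    rw [map_smul, mul_smul, ht]

theorem bijective_smul_loc {M N : Type u} [AddCommGroup M] [Module A M] [AddCommGroup N] [Module A N]
    (g : M →ₗ[A] N) [IsLocalizedModule S g] (f : A) (h : Function.Bijective fun x : M => f • x) :
    Function.Bijective fun y : N => f • y := by
  constructor
  · intro y y' hyy
    rw [← sub_eq_zero]
    obtain ⟨⟨x, s⟩, hx⟩ := IsLocalizedModule.surj S g (y - y')
    change (s : A) • (y - y') = g x at hx
    have h0 : g (f • x) = 0 := by
      rw [map_smul, ← hx, smul_comm, smul_sub f]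
      exact (congrArg ((s : A) • ·) (sub_eq_zero.2 hyy)).trans (smul_zero _)
    obtain ⟨t, ht⟩ := (IsLocalizedModule.eq_zero_iff S g).1 h0
    have hx0 : g x = 0 := (IsLocalizedModule.eq_zero_iff S g).2 ⟨t, h.1 (by
      show f • ((t : A) • x) = f • (0 : M)
      rw [smul_comm, smul_zero]; exact ht)⟩
    exact ((Module.End.isUnit_iff _).1 (IsLocalizedModule.map_units g s)).1
      ((hx.trans hx0).trans (smul_zero _).symm)
  · intro y
    obtain ⟨⟨x, s⟩, hx⟩ := IsLocalizedModule.surj S g y
    change (s : A) • y = g x at hx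
    obtain ⟨x', rfl⟩ := h.2 x
    obtain ⟨y', hy'⟩ := ((Module.End.isUnit_iff _).1 (IsLocalizedModule.map_units g s)).2 (g x')
    refine ⟨y', ((Module.End.isUnit_iff _).1 (IsLocalizedModule.map_units g s)).1 ?_⟩
    change (s : A) • (f • y') = (s : A) • y
    rw [smul_comm, show (s : A) • y' = g x' from hy', ← map_smul]
    exact hx.symm

theorem subsingleton_loc {M N : Type u} [AddCommGroup M] [Module A M] [AddCommGroup N] [Module A N]
    (g : M →ₗ[A] N) [IsLocalizedModule S g] [Subsingleton M] : Subsingleton N := by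
  refine subsingleton_of_forall_eq 0 fun y => ?_
  obtain ⟨⟨x, s⟩, hx⟩ := IsLocalizedModule.surj S g y
  change (s : A) • y = g x at hx
  refine ((Module.End.isUnit_iff _).1 (IsLocalizedModule.map_units g s)).1 ?_
  change (s : A) • y = (s : A) • (0 : N)
  rw [hx, Subsingleton.elim x 0, map_zero, smul_zero]

theorem bijective_of_bijective {M N : Type u} [AddCommGroup M] [Module A M] [AddCommGroup N] [Module A N]
    (g : M →ₗ[A] N) [IsLocalizedModule S g] (h : ∀ s : S, Function.Bijective fun x : M => (s : A) • x) :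
    Function.Bijective g := by
  constructor
  · intro a b hab
    obtain ⟨s, hs⟩ := (IsLocalizedModule.eq_iff_exists S g).1 hab
    exact (h s).1 hs
  · intro y
    obtain ⟨⟨x, s⟩, hx⟩ := IsLocalizedModule.surj S g y
    change (s : A) • y = g x at hx
    obtain ⟨x', rfl⟩ := (h s).2 x
    refine ⟨x', ((Module.End.isUnit_iff _).1 (IsLocalizedModule.map_units g s)).1 ?_⟩
    exact (map_smul g _ _).symm.trans hx.symm

end Loc

/-- The step map. -/
noncomputable abbrev unitP (M : ModuleCat.{u} A) (f : A) (fs : List A) :=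
  locCxUnit (Submonoid.powers f) (extCech M fs)

/-- The homology of the step. -/
noncomputable def stepIso (M : ModuleCat.{u} A) (f : A) (fs : List A) (i q : ℤ) (h : -1 + q = i) :
    (extCech M (f :: fs)).homology q ≅ (mappingCone (unitP M f fs)).homology i :=
  (CochainComplex.ShiftSequence.shiftIso (ModuleCat.{u} A) (-1) q i h).app (mappingCone (unitP M f fs))

theorem single_subsingleton (M : ModuleCat.{u} A) (q : ℤ) (hq : q ≠ 0) :
    Subsingleton ((extCech M []).homology q : Type u) := by
  haveI := ModuleCat.isZero_iff_subsingleton.1 (HomologicalComplex.isZero_single_obj_X (c := ComplexShape.up ℤ) 0 M q hq)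
  refine subsingleton_of_forall_eq 0 fun c => ?_
  obtain ⟨x, rfl⟩ := exists_mk _ c
  rw [show x = 0 from Subtype.ext (@Subsingleton.elim ((extCech M []).X q : Type u) this _ _), map_zero]

theorem subsingleton_step (M : ModuleCat.{u} A) (f : A) (fs : List A) (q : ℤ)
    (h1 : Subsingleton ((extCech M fs).homology (q - 1) : Type u))
    (h2 : Subsingleton ((extCech M fs).homology q : Type u)) :
    Subsingleton ((extCech M (f :: fs)).homology q : Type u) := by
  haveI := subsingleton_loc (Submonoid.powers f)
    (HomologicalComplex.homologyMap (unitP M f fs) (q - 1)).hom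
  haveI : Subsingleton ((mappingCone (unitP M f fs)).homology (q - 1) : Type u) := subsingleton_of_forall_eq 0 fun c => by
    obtain ⟨c', rfl⟩ := (exact_inr_deltaC (unitP M f fs) (q - 1) q (sub_add_cancel q 1) c).1 (Subsingleton.elim _ _)
    rw [Subsingleton.elim c' 0, map_zero]
  exact (stepIso M f fs (q - 1) q (by ring)).toLinearEquiv.toEquiv.subsingleton

theorem subsingleton_neg (M : ModuleCat.{u} A) : ∀ (fs : List A) (q : ℤ), q < 0 →
    Subsingleton ((extCech M fs).homology q : Type u)
  | [], q, hq => single_subsingleton M q hq.ne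
  | f :: fs, q, hq => subsingleton_step M f fs q (subsingleton_neg M fs (q - 1) (by omega)) (subsingleton_neg M fs q hq)

theorem subsingleton_zero_module (M : ModuleCat.{u} A) [Subsingleton M] : ∀ (fs : List A) (q : ℤ),
    Subsingleton ((extCech M fs).homology q : Type u)
  | [], q => by
    refine subsingleton_of_forall_eq 0 fun c => ?_
    obtain ⟨x, rfl⟩ := exists_mk _ c
    have hz : IsZero ((extCech M []).X q) :=
      (HomologicalComplex.eval _ (ComplexShape.up ℤ) q).map_isZero
        ((HomologicalComplex.single _ (ComplexShape.up ℤ) 0).map_isZero (ModuleCat.isZero_of_subsingleton M))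
    rw [show x = 0 from Subtype.ext (@Subsingleton.elim _ (ModuleCat.isZero_iff_subsingleton.1 hz) _ _), map_zero]
  | f :: fs, q => subsingleton_step M f fs q (subsingleton_zero_module M fs _) (subsingleton_zero_module M fs q)

/-- The degree zero cohomology of the empty list. -/
noncomputable def nilIso (M : ModuleCat.{u} A) : (extCech M []).homology 0 ≅ M :=
  (HomologicalComplex.homologyFunctorSingleIso (ModuleCat.{u} A) (ComplexShape.up ℤ) 0).app M

theorem bijective_smul_homology (M : ModuleCat.{u} A) (g : A) (hg : Function.Bijective fun x : M => g • x) :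
    ∀ (fs : List A) (q : ℤ), Function.Bijective fun c : ((extCech M fs).homology q : Type u) => g • c
  | [], q => by
    by_cases hq : q = 0
    · subst hq
      let e := (nilIso M).toLinearEquiv
      refine ⟨fun a b h => e.injective (hg.1 ?_), fun b => ?_⟩
      · exact (map_smul e g a).symm.trans ((congrArg e h).trans (map_smul e g b))
      · obtain ⟨m, hm⟩ := hg.2 (e b)
        exact ⟨e.symm m, e.injective ((map_smul e g _).trans (by rw [e.apply_symm_apply]; exact hm))⟩
    · haveI := single_subsingleton M q hq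
      exact ⟨fun a b _ => Subsingleton.elim a b, fun b => ⟨0, Subsingleton.elim _ _⟩⟩
  | f :: fs, q => by
    have ih := bijective_smul_homology M g hg fs
    have ihL := fun n : ℤ => bijective_smul_loc (Submonoid.powers f)
      (HomologicalComplex.homologyMap (unitP M f fs) n).hom g (ih n)
    let φ := unitP M f fs
    have hC : Function.Bijective fun c : ((mappingCone φ).homology (q - 1) : Type u) => g • c := by
      constructor
      · intro a b hab
        rw [← sub_eq_zero]
        have h0 : g • (a - b) = 0 := by rw [smul_sub]; exact sub_eq_zero.2 hab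
        have hd : deltaC φ (q - 1) q (sub_add_cancel q 1) (a - b) = 0 := by
          refine (ih q).1 ?_
          show g • deltaC φ (q - 1) q (sub_add_cancel q 1) (a - b) = g • (0 : (extCech M fs).homology q)
          rw [← map_smul, h0, map_zero, smul_zero]
        obtain ⟨l, hl⟩ := (exact_inr_deltaC φ (q - 1) q (sub_add_cancel q 1) _).1 hd
        rw [← hl, ← map_smul] at h0
        obtain ⟨k, hk⟩ := (exact_map_inr φ (q - 1) _).1 h0
        obtain ⟨k', rfl⟩ := (ih (q - 1)).2 k
        have hl' : (HomologicalComplex.homologyMap φ (q - 1)).hom k' = l :=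
          (ihL (q - 1)).1 ((map_smul _ _ _).symm.trans hk)
        rw [← hl, ← hl']
        exact (exact_map_inr φ (q - 1) _).2 ⟨k', rfl⟩
      · intro c
        obtain ⟨k', hk'⟩ := (ih q).2 (deltaC φ (q - 1) q (sub_add_cancel q 1) c)
        change g • k' = _ at hk'
        have h0 : (HomologicalComplex.homologyMap φ q).hom k' = 0 := by
          refine (ihL q).1 ?_
          show g • (HomologicalComplex.homologyMap φ q).hom k' = g • (0 : ((locCx (Submonoid.powers f)).obj (extCech M fs)).homology q)
          rw [← map_smul, hk', (exact_deltaC_map φ (q - 1) q (sub_add_cancel q 1) _).2 ⟨c, rfl⟩, smul_zero]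
        obtain ⟨c', rfl⟩ := (exact_deltaC_map φ (q - 1) q (sub_add_cancel q 1) _).1 h0
        obtain ⟨l, hl⟩ := (exact_inr_deltaC φ (q - 1) q (sub_add_cancel q 1) (c - g • c')).1 (by
          rw [map_sub, map_smul, hk', sub_self])
        obtain ⟨l', rfl⟩ := (ihL (q - 1)).2 l
        refine ⟨c' + (HomologicalComplex.homologyMap (mappingCone.inr φ) (q - 1)).hom l', ?_⟩
        show g • (c' + _) = c
        rw [smul_add, ← map_smul, hl, add_sub_cancel]
    let e := (stepIso M f fs (q - 1) q (by ring)).toLinearEquiv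
    refine ⟨fun a b h => e.injective (hC.1 ?_), fun b => ?_⟩
    · exact (map_smul e g a).symm.trans ((congrArg e h).trans (map_smul e g b))
    · obtain ⟨m, hm⟩ := hC.2 (e b)
      exact ⟨e.symm m, e.injective ((map_smul e g _).trans (by rw [e.apply_symm_apply]; exact hm))⟩

/-- A module on which an element of the list acts bijectively has no extended Čech cohomology. -/
theorem subsingleton_of_bijective (M : ModuleCat.{u} A) {g : A} (hg : Function.Bijective fun x : M => g • x) :
    ∀ (fs : List A), g ∈ fs → ∀ q : ℤ, Subsingleton ((extCech M fs).homology q : Type u)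
  | f :: fs, hf, q => by
    by_cases hfs : g ∈ fs
    · exact subsingleton_step M f fs q (subsingleton_of_bijective M hg fs hfs _) (subsingleton_of_bijective M hg fs hfs q)
    obtain rfl : g = f := (List.mem_cons.1 hf).resolve_right hfs
    have hpow : ∀ (n : ℤ) (s : Submonoid.powers g),
        Function.Bijective fun c : ((extCech M fs).homology n : Type u) => (s : A) • c := by
      rintro n ⟨_, k, rfl⟩
      have h : (fun c : ((extCech M fs).homology n : Type u) => g ^ k • c) = (fun c => g • c)^[k] :=
        funext fun c => (smul_iterate_apply g k c).symm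
      show Function.Bijective fun c : ((extCech M fs).homology n : Type u) => g ^ k • c
      rw [h]
      exact (bijective_smul_homology M g hg fs n).iterate k
    have hb := fun n : ℤ => bijective_of_bijective (Submonoid.powers g)
      (HomologicalComplex.homologyMap (unitP M g fs) n).hom (hpow n)
    haveI : Subsingleton ((mappingCone (unitP M g fs)).homology (q - 1) : Type u) := subsingleton_of_forall_eq 0 fun c => by
      have hd : deltaC (unitP M g fs) (q - 1) q (sub_add_cancel q 1) c = 0 := (hb q).1
        (((exact_deltaC_map (unitP M g fs) (q - 1) q (sub_add_cancel q 1) _).2 ⟨c, rfl⟩).trans (map_zero _).symm)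
      obtain ⟨l, rfl⟩ := (exact_inr_deltaC (unitP M g fs) (q - 1) q (sub_add_cancel q 1) c).1 hd
      obtain ⟨k, rfl⟩ := (hb (q - 1)).2 l
      exact (exact_map_inr (unitP M g fs) (q - 1) _).2 ⟨k, rfl⟩
    exact (stepIso M g fs (q - 1) q (by ring)).toLinearEquiv.toEquiv.subsingleton

/-- The degree zero cohomology injects into the module with image the torsion. -/
theorem exists_zero (M : ModuleCat.{u} A) : ∀ fs : List A,
    ∃ b : ((extCech M fs).homology 0 : Type u) →ₗ[A] M, Function.Injective b ∧
      ∀ m, m ∈ LinearMap.range b ↔ ∀ f ∈ fs, ∃ k : ℕ, f ^ k • m = 0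
  | [] => ⟨(nilIso M).toLinearEquiv.toLinearMap, (nilIso M).toLinearEquiv.injective, fun m =>
      ⟨fun _ f hf => absurd hf List.not_mem_nil, fun _ => ⟨(nilIso M).toLinearEquiv.symm m,
        (nilIso M).toLinearEquiv.apply_symm_apply m⟩⟩⟩
  | f :: fs => by
    obtain ⟨b, hb, hbr⟩ := exists_zero M fs
    haveI := subsingleton_neg M fs (-1) (by omega)
    haveI := subsingleton_loc (Submonoid.powers f) (HomologicalComplex.homologyMap (unitP M f fs) (-1)).hom
    let δ := deltaC (unitP M f fs) (-1) 0 (by omega)
    have hδ : Function.Injective δ := by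
      rw [injective_iff_map_eq_zero]
      intro c hc
      obtain ⟨l, rfl⟩ := (exact_inr_deltaC (unitP M f fs) (-1) 0 (by omega) c).1 hc
      rw [Subsingleton.elim l 0, map_zero]
    let e := (stepIso M f fs (-1) 0 (by ring)).toLinearEquiv
    refine ⟨b.comp (δ.comp e.toLinearMap), hb.comp (hδ.comp e.injective), fun m => ?_⟩
    rw [List.forall_mem_cons, ← hbr m]
    have key : ∀ c, (∃ x, δ (e x) = c) ↔ ∃ k : ℕ, f ^ k • c = 0 := fun c => by
      have h := exact_deltaC_map (unitP M f fs) (-1) 0 (by omega) c
      have h' := IsLocalizedModule.eq_zero_iff (Submonoid.powers f)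
        (HomologicalComplex.homologyMap (unitP M f fs) 0).hom (m := c)
      constructor
      · rintro ⟨x, hx⟩
        obtain ⟨⟨_, k, rfl⟩, hk⟩ := h'.1 (h.2 ⟨e x, hx⟩)
        exact ⟨k, hk⟩
      · rintro ⟨k, hk⟩
        obtain ⟨y, hy⟩ := h.1 (h'.2 ⟨⟨_, k, rfl⟩, hk⟩)
        exact ⟨e.symm y, (congrArg δ (e.apply_symm_apply y)).trans hy⟩
    constructor
    · rintro ⟨x, rfl⟩
      obtain ⟨k, hk⟩ := (key _).1 ⟨x, rfl⟩
      exact ⟨⟨k, (map_smul b _ _).symm.trans ((congrArg b hk).trans (map_zero b))⟩, _, rfl⟩
    · rintro ⟨⟨k, hk⟩, c, rfl⟩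
      obtain ⟨x, hx⟩ := (key c).2 ⟨k, hb ((map_smul b _ _).trans (hk.trans (map_zero b).symm))⟩
      exact ⟨x, congrArg b hx⟩

/-- The degree zero cohomology is the torsion. -/
theorem nonempty_zero_equiv (fs : List A) (M : ModuleCat.{u} A) :
    Nonempty (((extCech M fs).homology 0 : Type u) ≃ₗ[A] DRing.torsionSub (Ideal.ofList fs) M) := by
  obtain ⟨b, hb, hbr⟩ := exists_zero M fs
  exact ⟨(LinearEquiv.ofInjective b hb).trans (LinearEquiv.ofEq _ _ (by
    ext m
    rw [hbr, ← mem_ker_iotaE, ker_iotaE]))⟩

/-- Torsion modules have no higher cohomology. -/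
theorem subsingleton_pos_of_torsion (M : ModuleCat.{u} A) : ∀ (fs : List A),
    (∀ f ∈ fs, ∀ x : M, ∃ k : ℕ, f ^ k • x = 0) → ∀ q : ℤ, 0 < q →
      Subsingleton ((extCech M fs).homology q : Type u)
  | [], _, q, hq => single_subsingleton M q hq.ne'
  | f :: fs, h, q, hq => by
    have htail : ∀ g ∈ fs, ∀ x : M, ∃ k : ℕ, g ^ k • x = 0 := fun g hg => h g (List.mem_cons_of_mem _ hg)
    have ih := subsingleton_pos_of_torsion M fs htail
    have hL : Subsingleton (((locCx (Submonoid.powers f)).obj (extCech M fs)).homology (q - 1) : Type u) := by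
      let g := (HomologicalComplex.homologyMap (unitP M f fs) (q - 1)).hom
      by_cases hq1 : 0 < q - 1
      · haveI := ih (q - 1) hq1
        exact subsingleton_loc (Submonoid.powers f) g
      · obtain ⟨b, hb, -⟩ := exists_zero M fs
        refine subsingleton_of_forall_eq 0 fun y => ?_
        obtain ⟨⟨x, s⟩, hx⟩ := IsLocalizedModule.surj (Submonoid.powers f) g y
        change (s : A) • y = g x at hx
        have hq0 : q - 1 = 0 := by omega
        obtain ⟨k, hk⟩ : ∃ k : ℕ, f ^ k • x = 0 := by
          clear hx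
          clear_value g
          clear g
          revert x
          rw [hq0]
          intro x
          obtain ⟨k, hk⟩ := h f List.mem_cons_self (b x)
          exact ⟨k, hb ((map_smul b _ _).trans (hk.trans (map_zero b).symm))⟩
        have h0 : g x = 0 := (IsLocalizedModule.eq_zero_iff (Submonoid.powers f) g).2 ⟨⟨_, k, rfl⟩, hk⟩
        exact ((Module.End.isUnit_iff _).1 (IsLocalizedModule.map_units g s)).1
          ((hx.trans h0).trans (smul_zero _).symm)
    haveI := ih q hq
    haveI : Subsingleton ((mappingCone (unitP M f fs)).homology (q - 1) : Type u) := subsingleton_of_forall_eq 0 fun c => by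
      obtain ⟨l, rfl⟩ := (exact_inr_deltaC (unitP M f fs) (q - 1) q (sub_add_cancel q 1) c).1 (Subsingleton.elim _ _)
      rw [Subsingleton.elim l 0, map_zero]
    exact (stepIso M f fs (q - 1) q (by ring)).toLinearEquiv.toEquiv.subsingleton

end Groth.L04.Koszul.ExtCech
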