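import Groth.Agent.L04.Koszul.ExtCech

/-!
# The extended Čech cohomology is the iterated torsion
-/

set_option autoImplicit false
set_option backward.isDefEq.respectTransparency.types false

universe u

open CategoryTheory CategoryTheory.Limits CochainComplex DerCA
open Groth.L28.Kun (Z cl cl_surjective cl_eq_zero_iff homologyMap_cl)

namespace Groth.L04.Koszul.ExtCech

variable {A : Type u} [CommRing A]

theorem unit_natural (S : Submonoid A) {K L : CochainComplex (ModuleCat.{u} A) ℤ} (φ : K ⟶ L) :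
    locCxUnit S K ≫ (locCx S).map φ = φ ≫ locCxUnit S L :=
  HomologicalComplex.Hom.ext (funext fun n => ((locUnit S).naturality (φ.f n)).symm)

/-- Functoriality of the extended Čech complex in the module. -/
noncomputable def emap {M N : ModuleCat.{u} A} (g : M ⟶ N) : ∀ fs : List A, extCech M fs ⟶ extCech N fs
  | [] => (HomologicalComplex.single (ModuleCat.{u} A) (ComplexShape.up ℤ) 0).map g
  | f :: fs => (mappingCone.map (unitP M f fs) (unitP N f fs) (emap g fs)
      ((locCx (Submonoid.powers f)).map (emap g fs)) (unit_natural _ _))⟦(-1 : ℤ)⟧'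

theorem locCx_exact (S : Submonoid A) (T : ShortComplex (CochainComplex (ModuleCat.{u} A) ℤ))
    (hT : T.ShortExact) : (T.map (locCx S)).ShortExact := by
  refine HomologicalComplex.shortExact_of_degreewise_shortExact _ fun n => ?_
  have h := hT.map_of_exact (HomologicalComplex.eval (ModuleCat.{u} A) (ComplexShape.up ℤ) n)
  haveI := h.mono_f
  haveI := h.epi_g
  refine { exact := ?_, mono_f := ?_, epi_g := ?_ }
  · rw [ShortComplex.ShortExact.moduleCat_exact_iff_function_exact]
    exact IsLocalizedModule.map_exact S (LocalizedModule.mkLinearMap S (T.X₁.X n))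
      (LocalizedModule.mkLinearMap S (T.X₂.X n)) (LocalizedModule.mkLinearMap S (T.X₃.X n)) _ _
      ((ShortComplex.ShortExact.moduleCat_exact_iff_function_exact _).1 h.exact)
  · rw [ModuleCat.mono_iff_injective]
    exact IsLocalizedModule.map_injective S (LocalizedModule.mkLinearMap S (T.X₁.X n))
      (LocalizedModule.mkLinearMap S (T.X₂.X n)) _ ((ModuleCat.mono_iff_injective _).1 h.mono_f)
  · rw [ModuleCat.epi_iff_surjective]
    exact IsLocalizedModule.map_surjective S (LocalizedModule.mkLinearMap S (T.X₂.X n))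
      (LocalizedModule.mkLinearMap S (T.X₃.X n)) _ ((ModuleCat.epi_iff_surjective _).1 h.epi_g)

section Cone

variable {T U : ShortComplex (CochainComplex (ModuleCat.{u} A) ℤ)} (φ : T ⟶ U)

/-- The short complex of cones. -/
noncomputable def coneSeq : ShortComplex (CochainComplex (ModuleCat.{u} A) ℤ) :=
  ShortComplex.mk (mappingCone.map φ.τ₁ φ.τ₂ T.f U.f φ.comm₁₂)
    (mappingCone.map φ.τ₂ φ.τ₃ T.g U.g φ.comm₂₃) (by
      refine HomologicalComplex.Hom.ext (funext fun n => ModuleCat.hom_ext (LinearMap.ext fun z => ?_))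
      obtain ⟨p, x, rfl⟩ := exists_cmk φ.τ₁ (rfl : n + 1 = n + 1) z
      refine (congrArg ((mappingCone.map φ.τ₂ φ.τ₃ T.g U.g φ.comm₂₃).f n)
        (map_cmk φ.τ₁ φ.τ₂ T.f U.f φ.comm₁₂ rfl p x)).trans ?_
      refine (map_cmk φ.τ₂ φ.τ₃ T.g U.g φ.comm₂₃ rfl _ _).trans ?_
      rw [← ConcreteCategory.comp_apply, ← HomologicalComplex.comp_f, T.zero,
        ← ConcreteCategory.comp_apply, ← HomologicalComplex.comp_f, U.zero]
      exact cmk_zero _ rfl)

theorem coneSeq_shortExact (hT : T.ShortExact) (hU : U.ShortExact) : (coneSeq φ).ShortExact := by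
  refine HomologicalComplex.shortExact_of_degreewise_shortExact _ fun n => ?_
  have hTn := fun k => hT.map_of_exact (HomologicalComplex.eval (ModuleCat.{u} A) (ComplexShape.up ℤ) k)
  have hUn := fun k => hU.map_of_exact (HomologicalComplex.eval (ModuleCat.{u} A) (ComplexShape.up ℤ) k)
  refine { exact := ?_, mono_f := ?_, epi_g := ?_ }
  · rw [ShortComplex.ShortExact.moduleCat_exact_iff_function_exact]
    intro z
    obtain ⟨q, y, rfl⟩ := exists_cmk φ.τ₂ (rfl : n + 1 = n + 1) z
    have hmap := map_cmk φ.τ₂ φ.τ₃ T.g U.g φ.comm₂₃ (rfl : n + 1 = n + 1) q y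
    constructor
    · intro hw
      obtain ⟨h1, h2⟩ := cmk_inj _ rfl (hmap.symm.trans (hw.trans (cmk_zero φ.τ₃ rfl).symm))
      obtain ⟨p, rfl⟩ := (((ShortComplex.ShortExact.moduleCat_exact_iff_function_exact _).1 (hTn (n + 1)).exact) _).1 h1
      obtain ⟨x, rfl⟩ := (((ShortComplex.ShortExact.moduleCat_exact_iff_function_exact _).1 (hUn n).exact) _).1 h2
      exact ⟨cmk φ.τ₁ n (n + 1) rfl p x, map_cmk φ.τ₁ φ.τ₂ T.f U.f φ.comm₁₂ rfl p x⟩
    · rintro ⟨w, hw⟩
      rw [← hw]
      exact congr($((coneSeq φ).zero).f n w)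
  · rw [ModuleCat.mono_iff_injective]
    intro z w h
    obtain ⟨p, x, rfl⟩ := exists_cmk φ.τ₁ (rfl : n + 1 = n + 1) z
    obtain ⟨q, y, rfl⟩ := exists_cmk φ.τ₁ (rfl : n + 1 = n + 1) w
    obtain ⟨h1, h2⟩ := cmk_inj φ.τ₂ rfl ((map_cmk φ.τ₁ φ.τ₂ T.f U.f φ.comm₁₂ rfl p x).symm.trans
      (h.trans (map_cmk φ.τ₁ φ.τ₂ T.f U.f φ.comm₁₂ rfl q y)))
    rw [(ModuleCat.mono_iff_injective _).1 (hTn (n + 1)).mono_f h1, (ModuleCat.mono_iff_injective _).1 (hUn n).mono_f h2]
  · rw [ModuleCat.epi_iff_surjective]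
    intro w
    obtain ⟨q, y, rfl⟩ := exists_cmk φ.τ₃ (rfl : n + 1 = n + 1) w
    obtain ⟨p, rfl⟩ := (ModuleCat.epi_iff_surjective _).1 (hTn (n + 1)).epi_g q
    obtain ⟨x, rfl⟩ := (ModuleCat.epi_iff_surjective _).1 (hUn n).epi_g y
    exact ⟨_, map_cmk φ.τ₂ φ.τ₃ T.g U.g φ.comm₂₃ rfl p x⟩

end Cone

/-- A short exact sequence of modules gives a short exact sequence of extended Čech complexes. -/
theorem exists_eSeq {S : ShortComplex (ModuleCat.{u} A)} (hS : S.ShortExact) : ∀ fs : List A,
    ∃ h : emap S.f fs ≫ emap S.g fs = 0, (ShortComplex.mk _ _ h).ShortExact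
  | [] => ⟨((S.map (HomologicalComplex.single (ModuleCat.{u} A) (ComplexShape.up ℤ) 0))).zero,
      hS.map_of_exact (HomologicalComplex.single (ModuleCat.{u} A) (ComplexShape.up ℤ) 0)⟩
  | f :: fs => by
    obtain ⟨h, hT⟩ := exists_eSeq hS fs
    let T : ShortComplex (CochainComplex (ModuleCat.{u} A) ℤ) := ShortComplex.mk _ _ h
    let φ : T ⟶ T.map (locCx (Submonoid.powers f)) :=
      { τ₁ := unitP S.X₁ f fs, τ₂ := unitP S.X₂ f fs, τ₃ := unitP S.X₃ f fs,
        comm₁₂ := unit_natural _ _, comm₂₃ := unit_natural _ _ }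
    have hC := (coneSeq_shortExact φ hT (locCx_exact _ T hT)).map_of_exact
      (shiftFunctor (CochainComplex (ModuleCat.{u} A) ℤ) (-1 : ℤ))
    exact ⟨((coneSeq φ).map (shiftFunctor (CochainComplex (ModuleCat.{u} A) ℤ) (-1 : ℤ))).zero, hC⟩

/-- The connecting map with vanishing neighbours. -/
theorem nonempty_delta_equiv {S : ShortComplex (ModuleCat.{u} A)} (hS : S.ShortExact) (fs : List A) (q r : ℤ)
    (hqr : q + 1 = r) (h1 : Subsingleton ((extCech S.X₂ fs).homology q : Type u))
    (h2 : Subsingleton ((extCech S.X₂ fs).homology r : Type u)) :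
    Nonempty (((extCech S.X₃ fs).homology q : Type u) ≃ₗ[A] ((extCech S.X₁ fs).homology r : Type u)) := by
  obtain ⟨h, hE⟩ := exists_eSeq hS fs
  haveI : Mono (hE.δ q r hqr) :=
    (hE.homology_exact₃ q r hqr).mono_g ((ModuleCat.isZero_iff_subsingleton.2 h1).eq_of_src _ _)
  haveI : Epi (hE.δ q r hqr) :=
    (hE.homology_exact₁ q r hqr).epi_f ((ModuleCat.isZero_iff_subsingleton.2 h2).eq_of_tgt _ _)
  haveI : IsIso (hE.δ q r hqr) := isIso_of_mono_of_epi _
  exact ⟨(asIso (hE.δ q r hqr)).toLinearEquiv⟩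

/-- The two outer neighbours vanish. -/
theorem nonempty_mid_equiv {S : ShortComplex (ModuleCat.{u} A)} (hS : S.ShortExact) (fs : List A) (q : ℤ)
    (h1 : Subsingleton ((extCech S.X₁ fs).homology q : Type u))
    (h2 : Subsingleton ((extCech S.X₁ fs).homology (q + 1) : Type u)) :
    Nonempty (((extCech S.X₂ fs).homology q : Type u) ≃ₗ[A] ((extCech S.X₃ fs).homology q : Type u)) := by
  obtain ⟨h, hE⟩ := exists_eSeq hS fs
  haveI : Mono (HomologicalComplex.homologyMap (emap S.g fs) q) :=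
    (hE.homology_exact₂ q).mono_g ((ModuleCat.isZero_iff_subsingleton.2 h1).eq_of_src _ _)
  haveI : Epi (HomologicalComplex.homologyMap (emap S.g fs) q) :=
    (hE.homology_exact₃ q (q + 1) rfl).epi_f ((ModuleCat.isZero_iff_subsingleton.2 h2).eq_of_tgt _ _)
  haveI : IsIso (HomologicalComplex.homologyMap (emap S.g fs) q) := isIso_of_mono_of_epi _
  exact ⟨(asIso (HomologicalComplex.homologyMap (emap S.g fs) q)).toLinearEquiv⟩

theorem subsingleton_mid {S : ShortComplex (ModuleCat.{u} A)} (hS : S.ShortExact) (fs : List A) (q : ℤ)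
    (h1 : Subsingleton ((extCech S.X₁ fs).homology q : Type u))
    (h3 : Subsingleton ((extCech S.X₃ fs).homology q : Type u)) :
    Subsingleton ((extCech S.X₂ fs).homology q : Type u) := by
  obtain ⟨h, hE⟩ := exists_eSeq hS fs
  exact ModuleCat.isZero_iff_subsingleton.1 ((hE.homology_exact₂ q).isZero_of_both_zeros
    ((ModuleCat.isZero_iff_subsingleton.2 h1).eq_of_src _ _) ((ModuleCat.isZero_iff_subsingleton.2 h3).eq_of_tgt _ _))

theorem subsingleton_pi (fs : List A) (q : ℤ) : ∀ (n : ℕ) (E : Fin n → ModuleCat.{u} A),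
    (∀ i, Subsingleton ((extCech (E i) fs).homology q : Type u)) →
      Subsingleton ((extCech (ModuleCat.of A (∀ i, E i)) fs).homology q : Type u) := by
  intro n
  induction n with
  | zero => exact fun E _ => subsingleton_zero_module _ fs q
  | succ n ih =>
    intro E hE
    let ι₀ : E 0 ⟶ ModuleCat.of A (∀ i, E i) := ModuleCat.ofHom (LinearMap.single A (fun i => E i) 0)
    let π : ModuleCat.of A (∀ i, E i) ⟶ ModuleCat.of A (∀ i : Fin n, E i.succ) :=
      ModuleCat.ofHom (LinearMap.pi fun i => LinearMap.proj i.succ)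
    have hz : ι₀ ≫ π = 0 := ModuleCat.hom_ext (LinearMap.ext fun x => funext fun i =>
      Pi.single_eq_of_ne (M := fun j => (E j : Type u)) (Fin.succ_ne_zero i) x)
    have hS : (ShortComplex.mk ι₀ π hz).ShortExact := by
      refine { exact := ?_, mono_f := ?_, epi_g := ?_ }
      · rw [ShortComplex.moduleCat_exact_iff]
        intro (x : ∀ i, E i) hx
        refine ⟨x 0, funext fun i => ?_⟩
        cases i using Fin.cases with
        | zero => exact Pi.single_eq_same (M := fun j => (E j : Type u)) 0 (x 0)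
        | succ i => exact (Pi.single_eq_of_ne (M := fun j => (E j : Type u)) (Fin.succ_ne_zero i) (x 0)).trans (congrFun hx i).symm
      · exact (ModuleCat.mono_iff_injective _).2 (Pi.single_injective (M := fun j => (E j : Type u)) 0)
      · refine (ModuleCat.epi_iff_surjective _).2 fun y =>
          ⟨(Fin.cons (α := fun j => (E j : Type u)) 0 y : ∀ i, E i), ?_⟩
        exact funext fun i => Fin.cons_succ (α := fun j => (E j : Type u)) (0 : E 0) y i
    exact subsingleton_mid hS fs q (hE 0) (ih _ fun i => hE i.succ)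

variable (fs : List A)

theorem subsingleton_effE (M : ModuleCat.{u} A) (q : ℤ) :
    Subsingleton ((extCech (effE fs M) fs).homology q : Type u) :=
  subsingleton_pi fs q fs.length (fun i => ModuleCat.of A (locAt fs M i)) fun i =>
    subsingleton_of_bijective _ (bijective_smul_locAt fs M i) fs (List.get_mem fs i) q

/-- The extended Čech cohomology is the iterated torsion. -/
theorem nonempty_equiv_RT : ∀ (k : ℕ) (M : ModuleCat.{u} A),
    Nonempty (((extCech M fs).homology (k : ℤ) : Type u) ≃ₗ[A] RT fs k M) := by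
  intro k
  induction k with
  | zero => exact fun M => nonempty_zero_equiv fs M
  | succ k ih =>
    intro M
    have htor : ∀ f ∈ fs, ∀ x : (effSeq₁ fs M).X₁, ∃ n : ℕ, f ^ n • x = 0 := fun f hf x => by
      obtain ⟨n, hn⟩ := (mem_ker_iotaE fs M x.1).1 x.2 f hf
      exact ⟨n, Subtype.ext hn⟩
    obtain ⟨a⟩ := nonempty_mid_equiv (effSeq₁_shortExact fs M) fs ((k + 1 : ℕ) : ℤ)
      (subsingleton_pos_of_torsion _ fs htor _ (by omega)) (subsingleton_pos_of_torsion _ fs htor _ (by omega))
    obtain ⟨b⟩ := nonempty_delta_equiv (effSeq₂_shortExact fs M) fs (k : ℤ) ((k + 1 : ℕ) : ℤ) (by omega)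
      (subsingleton_effE fs M _) (subsingleton_effE fs M _)
    obtain ⟨e⟩ := ih (effQ fs M)
    exact ⟨a.trans (b.symm.trans e)⟩

/-- Over a Noetherian ring it is local cohomology. -/
theorem nonempty_equiv_localCohomology [IsNoetherianRing A] (i : ℕ) (M : ModuleCat.{u} A) :
    Nonempty (((extCech M fs).homology (i : ℤ) : Type u) ≃ₗ[A]
      ((localCohomology (Ideal.ofList fs) i).obj M : Type u)) := by
  obtain ⟨a⟩ := nonempty_equiv_RT fs i M
  obtain ⟨b⟩ := nonempty_HLim_equiv_RT fs i M ((i : ℤ) - fs.length) (sub_add_cancel _ _)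
  obtain ⟨c⟩ := nonempty_H_equiv_HLim fs i M
  exact ⟨a.trans (b.symm.trans c.symm)⟩

end Groth.L04.Koszul.ExtCech
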