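import Groth.Agent.L04.Koszul.Punctured
import Groth.Agent.L10.TopCoh

/-!
# Flasqueness of the sheaves of injective modules
-/

set_option autoImplicit false
set_option backward.isDefEq.respectTransparency.types false

universe u

open CategoryTheory CategoryTheory.Limits TopologicalSpace Opposite AlgebraicGeometry

namespace Groth.L04.Koszul.Cech

variable {A : Type u} [CommRing A]

theorem exists_list_punctured [NoetherianSpace (PrimeSpectrum A)]
    (U : (Spec (CommRingCat.of A)).Opens) :
    ∃ fs : List A, U = LocCoh.puncturedOpen A (Ideal.span {a | a ∈ fs}) := by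
  obtain ⟨s, hs, he⟩ := (PrimeSpectrum.isCompact_isOpen_iff_ideal (R := A) (s := (SetLike.coe U : Set (PrimeSpectrum A)))).1
    ⟨TopologicalSpace.NoetherianSpace.isCompact _, U.2⟩
  obtain ⟨t, rfl⟩ := hs
  refine ⟨t.toList, TopologicalSpace.Opens.ext ?_⟩
  rw [show ({a | a ∈ t.toList} : Set A) = ↑t by ext; simp]
  exact he.symm

variable (fs : List A) (M : ModuleCat.{u} A)

/-- Surjectivity of the restriction is the vanishing of the first group. -/
theorem surjective_res_iff :
    Function.Surjective ((Coh.toAb (tilde (R := CommRingCat.of A) M)).obj.map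
        (homOfLE (le_top : LocCoh.puncturedOpen A (Ideal.span {a | a ∈ fs}) ≤ ⊤)).op) ↔
      Subsingleton (HLim fs M (((1 : ℕ) : ℤ) - fs.length)) := by
  rw [puncturedOpen_eq]
  let D := tildeLocData (fam fs) M
  have hρ : Function.Surjective D.ρ :=
    (@asIso _ _ _ _ (tilde.toOpen (R := CommRingCat.of A) M ⊤) (tilde.isIso_toOpen_top (R := CommRingCat.of A) (M := M))).toLinearEquiv.surjective
  obtain ⟨-, ⟨b⟩⟩ := nonempty_ker_coker_equiv fs M D (tilde (R := CommRingCat.of A) M).isSheaf
    (-(fs.length : ℤ)) (((1 : ℕ) : ℤ) - fs.length) (by omega) (by omega)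
  rw [← b.toEquiv.subsingleton_congr, Submodule.Quotient.subsingleton_iff, LinearMap.range_eq_top]
  constructor
  · intro h y
    obtain ⟨x, hx⟩ := h y
    obtain ⟨m, rfl⟩ := hρ x
    exact ⟨m, hx⟩
  · intro h y
    obtain ⟨m, hm⟩ := h y
    exact ⟨D.ρ m, hm⟩

theorem isFlasque_iff [NoetherianSpace (PrimeSpectrum A)] :
    TopCat.Sheaf.IsFlasque (Coh.toAb (tilde (R := CommRingCat.of A) M)) ↔
      ∀ fs : List A, Subsingleton (HLim fs M (((1 : ℕ) : ℤ) - fs.length)) := by
  constructor
  · intro h fs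
    exact (surjective_res_iff fs M).1 ((AddCommGrpCat.epi_iff_surjective _).1 (h.epi _))
  · intro h
    refine ⟨fun {U V} i => (AddCommGrpCat.epi_iff_surjective _).2 fun y => ?_⟩
    obtain ⟨fs, hfs⟩ := exists_list_punctured (A := A) V.unop
    have hs := (surjective_res_iff fs M).2 (h fs)
    rw [← hfs] at hs
    obtain ⟨x, hx⟩ := hs y
    refine ⟨(Coh.toAb (tilde (R := CommRingCat.of A) M)).obj.map (homOfLE (le_top : U.unop ≤ ⊤)).op x, ?_⟩
    refine Eq.trans ?_ hx
    rw [← ConcreteCategory.comp_apply, ← Functor.map_comp]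
    rfl

theorem subsingleton_HLim_of_isFlasque
    (h : TopCat.Sheaf.IsFlasque (Coh.toAb (tilde (R := CommRingCat.of A) M))) (i : ℕ) (hi : 0 < i) :
    Subsingleton (HLim fs M ((i : ℤ) - fs.length)) := by
  obtain _ | _ | i := i
  · omega
  · exact (surjective_res_iff fs M).1 ((AddCommGrpCat.epi_iff_surjective _).1 (h.epi _))
  · obtain ⟨e⟩ := nonempty_hhon_punctured fs M (i + 1) (by omega)
    obtain ⟨e'⟩ := Groth.L17.nonempty_hhon_equiv (tilde (R := CommRingCat.of A) M)
      (LocCoh.puncturedOpen A (Ideal.span {a | a ∈ fs})) (i + 1)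
    exact @Equiv.subsingleton _ _ (e.symm.trans e').toEquiv
      (Groth.L10.TopCoh.subsingleton_ext_of_flasque (Coh.toAb (tilde (R := CommRingCat.of A) M)) h
      (LocCoh.puncturedOpen A (Ideal.span {a | a ∈ fs})) i)

end Groth.L04.Koszul.Cech
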