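import Groth.Agent.L04.Koszul.Vanish
import Groth.Agent.L04.LC.Basic
import Groth.Agent.L04.InjNoeth
import Mathlib.Algebra.Colimit.Module

/-!
# Direct limit Koszul cohomology and local cohomology
-/

set_option autoImplicit false
set_option backward.isDefEq.respectTransparency.types false

universe u

open CategoryTheory CategoryTheory.Limits CochainComplex CohIII
open Groth.L28.Kun (Z cl homologyMap_cl)

namespace Groth.L04.Koszul

variable {A : Type u} [CommRing A] (fs : List A)

/-- The stage `n`. -/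
noncomputable abbrev Stage (M : ModuleCat.{u} A) (j : ℤ) (n : ℕ) : Type u :=
  ((koszulCx M (fs.map (· ^ n))).homology j : Type u)

/-- The transition. -/
noncomputable abbrev trH (M : ModuleCat.{u} A) (j : ℤ) (n m : ℕ) (h : n ≤ m) :
    Stage fs M j n →ₗ[A] Stage fs M j m :=
  (HomologicalComplex.homologyMap (koszulTrans M n m h fs) j).hom

theorem trH_cl (M : ModuleCat.{u} A) (j : ℤ) {n m : ℕ} (h : n ≤ m)
    (x : Z (koszulCx M (fs.map (· ^ n))) j) :
    trH fs M j n m h (cl _ j x) =
      cl _ j ⟨_, Groth.L28.Kun.map_mem_Z (koszulTrans M n m h fs) x⟩ := homologyMap_cl _ x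

instance directedSystem (M : ModuleCat.{u} A) (j : ℤ) :
    DirectedSystem (Stage fs M j) (fun n m h => trH fs M j n m h) where
  map_self n c := by
    obtain ⟨x, rfl⟩ := exists_mk _ c
    exact (trH_cl fs M j _ x).trans (cl_congr _ _ x (trans_self n fs j x.1))
  map_map n m l h h' c := by
    obtain ⟨x, rfl⟩ := exists_mk _ c
    rw [trH_cl, trH_cl, trH_cl]
    exact cl_congr _ _ _ (trans_trans h h' fs j x.1)

/-- The direct limit of Koszul cohomology in complex degree `j`. -/
noncomputable abbrev HLim (M : ModuleCat.{u} A) (j : ℤ) : Type u :=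
  Module.DirectLimit (Stage fs M j) (fun n m h => trH fs M j n m h)

/-- The map from a stage. -/
noncomputable abbrev ιL (M : ModuleCat.{u} A) (j : ℤ) (n : ℕ) :
    Stage fs M j n →ₗ[A] HLim fs M j :=
  Module.DirectLimit.of A ℕ (Stage fs M j) (fun n m h => trH fs M j n m h) n

theorem ιL_surjective (M : ModuleCat.{u} A) (j : ℤ) (z : HLim fs M j) :
    ∃ n c, ιL fs M j n c = z := Module.DirectLimit.exists_of z

theorem ιL_trH (M : ModuleCat.{u} A) (j : ℤ) {n m : ℕ} (h : n ≤ m) (c : Stage fs M j n) :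
    ιL fs M j m (trH fs M j n m h c) = ιL fs M j n c := Module.DirectLimit.of_f

theorem exists_of_ιL_eq_zero (M : ModuleCat.{u} A) (j : ℤ) {n : ℕ} {c : Stage fs M j n}
    (h : ιL fs M j n c = 0) : ∃ m, ∃ h : n ≤ m, trH fs M j n m h c = 0 :=
  Module.DirectLimit.of.zero_exact h

theorem subsingleton_HLim (M : ModuleCat.{u} A) (j : ℤ)
    (h : ∀ n (c : Stage fs M j n), ∃ m, ∃ hm : n ≤ m, trH fs M j n m hm c = 0) :
    Subsingleton (HLim fs M j) :=
  subsingleton_of_forall_eq 0 fun z => by
    obtain ⟨n, c, rfl⟩ := ιL_surjective fs M j z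
    obtain ⟨m, hm, h0⟩ := h n c
    rw [← ιL_trH fs M j hm c, h0, map_zero]

theorem subsingleton_HLim_of_out (M : ModuleCat.{u} A) (j : ℤ)
    (hj : 0 < j ∨ j + fs.length < 0) : Subsingleton (HLim fs M j) :=
  subsingleton_HLim fs M j fun n c => ⟨n, le_rfl,
    @Subsingleton.elim _ (subsingleton_homology_of_out M _ j (by simpa using hj)) _ _⟩

section Map

variable {M N : ModuleCat.{u} A} (g : M ⟶ N) (j : ℤ)

/-- The map induced on a stage. -/
noncomputable abbrev mapH (n : ℕ) : Stage fs M j n →ₗ[A] Stage fs N j n :=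
  (HomologicalComplex.homologyMap (kmap g (fs.map (· ^ n))) j).hom

theorem mapH_trH {n m : ℕ} (h : n ≤ m) (c : Stage fs M j n) :
    mapH fs g j m (trH fs M j n m h c) = trH fs N j n m h (mapH fs g j n c) := by
  refine (homologyMap_comp_apply _ _ j c).symm.trans (Eq.trans ?_ (homologyMap_comp_apply _ _ j c))
  rw [trans_kmap g h fs]

/-- The map induced on the limit. -/
noncomputable def mapL : HLim fs M j →ₗ[A] HLim fs N j :=
  Module.DirectLimit.map (mapH fs g j) (fun _ _ h => LinearMap.ext fun c => mapH_trH fs g j h c)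

theorem mapL_ι (n : ℕ) (c : Stage fs M j n) :
    mapL fs g j (ιL fs M j n c) = ιL fs N j n (mapH fs g j n c) :=
  Module.DirectLimit.map_apply_of _ _ _

end Map

section LES

variable {S : ShortComplex (ModuleCat.{u} A)} (hS : S.ShortExact) (j k : ℤ) (hjk : j + 1 = k)

/-- The connecting map on a stage. -/
noncomputable abbrev dH (n : ℕ) : Stage fs S.X₃ j n →ₗ[A] Stage fs S.X₁ k n :=
  ((kSeq_shortExact hS (fs.map (· ^ n))).δ j k hjk).hom

/-- The map of short complexes given by the transition. -/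
noncomputable def seqTrans {n m : ℕ} (h : n ≤ m) :
    kSeq hS (fs.map (· ^ n)) ⟶ kSeq hS (fs.map (· ^ m)) where
  τ₁ := koszulTrans S.X₁ n m h fs
  τ₂ := koszulTrans S.X₂ n m h fs
  τ₃ := koszulTrans S.X₃ n m h fs
  comm₁₂ := trans_kmap S.f h fs
  comm₂₃ := trans_kmap S.g h fs

theorem dH_trH {n m : ℕ} (h : n ≤ m) (c : Stage fs S.X₃ j n) :
    dH fs hS j k hjk m (trH fs S.X₃ j n m h c) = trH fs S.X₁ k n m h (dH fs hS j k hjk n c) :=
  (ConcreteCategory.congr_hom (HomologicalComplex.HomologySequence.δ_naturality (seqTrans fs hS h)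
    (kSeq_shortExact hS (fs.map (· ^ n))) (kSeq_shortExact hS (fs.map (· ^ m))) j k hjk) c).symm

/-- The connecting map. -/
noncomputable def dL : HLim fs S.X₃ j →ₗ[A] HLim fs S.X₁ k :=
  Module.DirectLimit.map (dH fs hS j k hjk)
    (fun _ _ h => LinearMap.ext fun c => dH_trH fs hS j k hjk h c)

theorem dL_ι (n : ℕ) (c : Stage fs S.X₃ j n) :
    dL fs hS j k hjk (ιL fs S.X₃ j n c) = ιL fs S.X₁ k n (dH fs hS j k hjk n c) :=
  Module.DirectLimit.map_apply_of _ _ _

theorem stage_exact₃ (n : ℕ) : Function.Exact (mapH fs S.g j n) (dH fs hS j k hjk n) :=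
  (ShortComplex.ShortExact.moduleCat_exact_iff_function_exact _).1
    ((kSeq_shortExact hS (fs.map (· ^ n))).homology_exact₃ j k hjk)

theorem stage_exact₁ (n : ℕ) : Function.Exact (dH fs hS j k hjk n) (mapH fs S.f k n) :=
  (ShortComplex.ShortExact.moduleCat_exact_iff_function_exact _).1
    ((kSeq_shortExact hS (fs.map (· ^ n))).homology_exact₁ j k hjk)

theorem lim_exact₃ : Function.Exact (mapL fs S.g j) (dL fs hS j k hjk) := by
  intro z
  constructor
  · intro hz
    obtain ⟨n, c, rfl⟩ := ιL_surjective fs _ j z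
    rw [dL_ι] at hz
    obtain ⟨m, h, hm⟩ := exists_of_ιL_eq_zero fs _ k hz
    rw [← dH_trH fs hS j k hjk h] at hm
    obtain ⟨c', hc'⟩ := (stage_exact₃ fs hS j k hjk m _).1 hm
    exact ⟨ιL fs _ j m c', by rw [mapL_ι, hc', ιL_trH]⟩
  · rintro ⟨w, rfl⟩
    obtain ⟨n, c, rfl⟩ := ιL_surjective fs _ j w
    rw [mapL_ι, dL_ι, (stage_exact₃ fs hS j k hjk n _).2 ⟨c, rfl⟩, map_zero]

theorem lim_exact₁ : Function.Exact (dL fs hS j k hjk) (mapL fs S.f k) := by
  intro z
  constructor
  · intro hz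
    obtain ⟨n, c, rfl⟩ := ιL_surjective fs _ k z
    rw [mapL_ι] at hz
    obtain ⟨m, h, hm⟩ := exists_of_ιL_eq_zero fs _ k hz
    rw [← mapH_trH fs S.f k h] at hm
    obtain ⟨c', hc'⟩ := (stage_exact₁ fs hS j k hjk m _).1 hm
    exact ⟨ιL fs _ j m c', by rw [dL_ι, hc', ιL_trH]⟩
  · rintro ⟨w, rfl⟩
    obtain ⟨n, c, rfl⟩ := ιL_surjective fs _ j w
    rw [dL_ι, mapL_ι, (stage_exact₁ fs hS j k hjk n _).2 ⟨c, rfl⟩, map_zero]

end LES

section Bottom

variable (M : ModuleCat.{u} A) (j : ℤ) (hj : j + fs.length = 0)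

/-- The bottom degree maps to the module. -/
noncomputable def botL : HLim fs M j →ₗ[A] M :=
  Module.DirectLimit.lift A ℕ (Stage fs M j) (fun n m h => trH fs M j n m h)
    (fun n => botMap M (fs.map (· ^ n)) j (by simpa using hj))
    (fun _ _ h c => botMap_trans h fs j hj c)

theorem botL_ι (n : ℕ) (c : Stage fs M j n) :
    botL fs M j hj (ιL fs M j n c) = botMap M (fs.map (· ^ n)) j (by simpa using hj) c :=
  Module.DirectLimit.lift_of _ _ _

theorem botL_injective : Function.Injective (botL fs M j hj) := by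
  rw [injective_iff_map_eq_zero]
  intro z hz
  obtain ⟨n, c, rfl⟩ := ιL_surjective fs M j z
  rw [botL_ι] at hz
  rw [botMap_injective M _ j _ (hz.trans (map_zero _).symm), map_zero]

/-- An element killed by powers of generators is killed by a power of the ideal. -/
theorem exists_pow_kills {N : Type u} [AddCommGroup N] [Module A N] {x : N} {m : ℕ}
    (h : ∀ a ∈ fs, a ^ m • x = 0) : ∃ n : ℕ, ∀ a ∈ Ideal.ofList fs ^ n, a • x = 0 := by
  have hr : Ideal.ofList fs ≤ Ideal.radical (LinearMap.ker (LinearMap.toSpanSingleton A N x)) :=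
    Ideal.span_le.2 fun a ha => ⟨m, by simpa using h a ha⟩
  obtain ⟨n, hn⟩ := Ideal.exists_pow_le_of_le_radical_of_fg hr
    (Submodule.fg_span (List.finite_toSet fs))
  exact ⟨n, fun a ha => by simpa using hn ha⟩

theorem pow_mem_ofList_pow {a : A} (ha : a ∈ fs) {n m : ℕ} (h : n ≤ m) :
    a ^ m ∈ Ideal.ofList fs ^ n :=
  Ideal.pow_le_pow_right h (Ideal.pow_mem_pow (Ideal.subset_span (s := {x | x ∈ fs}) ha) m)

theorem range_botL : LinearMap.range (botL fs M j hj) = DRing.torsionSub (Ideal.ofList fs) M := by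
  ext x
  constructor
  · rintro ⟨z, rfl⟩
    obtain ⟨n, c, rfl⟩ := ιL_surjective fs M j z
    rw [botL_ι]
    exact exists_pow_kills fs fun a ha =>
      (mem_range_botMap M _ j (by simpa using hj) _).1 ⟨c, rfl⟩ _ (List.mem_map_of_mem ha)
  · rintro ⟨n, hn⟩
    obtain ⟨c, hc⟩ := (mem_range_botMap M (fs.map (· ^ n)) j (by simpa using hj) x).2 fun b hb => by
      obtain ⟨a, ha, rfl⟩ := List.mem_map.1 hb
      exact hn _ (pow_mem_ofList_pow fs ha le_rfl)
    exact ⟨ιL fs M j n c, (botL_ι fs M j hj n c).trans hc⟩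

end Bottom

theorem botL_natural {M N : ModuleCat.{u} A} (g : M ⟶ N) (j : ℤ) (hj : j + fs.length = 0)
    (z : HLim fs M j) : botL fs N j hj (mapL fs g j z) = g (botL fs M j hj z) := by
  obtain ⟨n, c, rfl⟩ := ιL_surjective fs M j z
  rw [mapL_ι, botL_ι, botL_ι]
  exact botMap_kmap g _ j _ c

section Injective

theorem inr_comp_trans (M : ModuleCat.{u} A) (f : A) {n m : ℕ} (h : n ≤ m) (j : ℤ)
    (b : Stage fs M j n) :
    trH (f :: fs) M j n m h
        (HomologicalComplex.homologyMap (mappingCone.inr (stepHom M (f ^ n) (fs.map (· ^ n)))) j b) =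
      HomologicalComplex.homologyMap (mappingCone.inr (stepHom M (f ^ m) (fs.map (· ^ m)))) j
        (f ^ (m - n) • trH fs M j n m h b) := by
  obtain ⟨x, rfl⟩ := exists_mk _ b
  rw [trH_cl, ← map_smul]
  erw [homologyMap_cl, homologyMap_cl]
  refine Eq.trans ?_ (homologyMap_cl _ _).symm
  refine cl_congr _ _ _ ?_
  show (koszulTrans M n m h (f :: fs)).f j ((mappingCone.inr (stepHom M (f ^ n) (fs.map (· ^ n)))).f j x.1) =
    (mappingCone.inr (stepHom M (f ^ m) (fs.map (· ^ m)))).f j
      (f ^ (m - n) • (koszulTrans M n m h fs).f j x.1)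
  rw [inr_f_eq _ (rfl : j + 1 = j + 1), inr_f_eq _ (rfl : j + 1 = j + 1)]
  refine (trans_cmk f fs h rfl 0 x.1).trans ?_
  rw [map_zero]

/-- Every class of positive degree dies in the limit for an injective module. -/
theorem exists_trH_eq_zero [IsNoetherianRing A] (M : ModuleCat.{u} A) (hM : Module.Injective A M) :
    ∀ (fs : List A) (j : ℤ), 0 < j + fs.length → ∀ (n : ℕ) (c : Stage fs M j n),
      ∃ m, ∃ h : n ≤ m, trH fs M j n m h c = 0 := by
  intro fs
  induction fs with
  | nil =>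
    intro j hj n c
    exact ⟨n, le_rfl, @Subsingleton.elim _ (subsingleton_homology_of_out M _ j
      (Or.inl (by simpa using hj))) _ _⟩
  | cons f fs ih =>
    intro j hj n c
    simp only [List.length_cons] at hj
    obtain ⟨m, hnm, hm⟩ := ih (j + 1) (by omega) n
      (deltaC (stepHom M (f ^ n) (fs.map (· ^ n))) j (j + 1) rfl c)
    obtain ⟨b, hb⟩ := (exact_inr_deltaC (stepHom M (f ^ m) (fs.map (· ^ m))) j (j + 1) rfl
      (trH (f :: fs) M j n m hnm c)).1 (Eq.trans (deltaC_naturality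
        (stepHom M (f ^ n) (fs.map (· ^ n))) (stepHom M (f ^ m) (fs.map (· ^ m))) _ _ _ rfl c) hm)
    suffices h : ∃ l, ∃ hl : m ≤ l, ∀ (_ : n ≤ l),
        HomologicalComplex.homologyMap (mappingCone.inr (stepHom M (f ^ l) (fs.map (· ^ l)))) j
          (f ^ (l - m) • trH fs M j m l hl b) = 0 by
      obtain ⟨l, hl, h0⟩ := h
      refine ⟨l, hnm.trans hl, ?_⟩
      rw [← DirectedSystem.map_map (f := fun n m h => trH (f :: fs) M j n m h) hnm hl c, ← hb]
      exact (inr_comp_trans fs M f hl j b).trans (h0 (hnm.trans hl))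
    by_cases hj' : 0 < j + fs.length
    · obtain ⟨l, hl, h0⟩ := ih j hj' m b
      exact ⟨l, hl, fun _ => by rw [h0, smul_zero, map_zero]⟩
    · have hj0 : j + fs.length = 0 := by omega
      let x := botMap M (fs.map (· ^ m)) j (by simpa using hj0) b
      obtain ⟨N, hN⟩ := exists_pow_kills fs (x := x) fun a ha =>
        (mem_range_botMap M _ j (by simpa using hj0) x).1 ⟨b, rfl⟩ _ (List.mem_map_of_mem ha)
      obtain ⟨k, hk⟩ := monotone_stabilizes_iff_noetherian.2 (inferInstance : IsNoetherian A A)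
        ⟨fun k => LinearMap.ker (LinearMap.toSpanSingleton A A (f ^ k)), fun a b hab c hc => by
          simp only [LinearMap.mem_ker, LinearMap.toSpanSingleton_apply, smul_eq_mul] at hc ⊢
          rw [← Nat.add_sub_cancel' hab, pow_add, ← mul_assoc, hc, zero_mul]⟩
      haveI := Groth.L04.injective_powTorsion hM (Ideal.ofList fs)
      let x' : Groth.L04.powTorsion (Ideal.ofList fs) M :=
        ⟨x, Groth.L04.mem_powTorsion.2 ⟨N, hN⟩⟩
      let φ : A →ₗ[A] A := LinearMap.toSpanSingleton A A (f ^ (k + m))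
      obtain ⟨h, hh⟩ := Module.Injective.out ((LinearMap.ker φ).liftQ φ le_rfl)
        (by
          rw [← LinearMap.ker_eq_bot, Submodule.ker_liftQ_eq_bot]
          exact le_rfl)
        ((LinearMap.ker φ).liftQ (LinearMap.toSpanSingleton A _ (f ^ k • x')) (fun a ha => by
          have : a ∈ LinearMap.ker (LinearMap.toSpanSingleton A A (f ^ k)) :=
            (SetLike.ext_iff.1 (hk (k + m) (Nat.le_add_right k m)) a).2 ha
          simp only [LinearMap.mem_ker, LinearMap.toSpanSingleton_apply, smul_eq_mul] at this ⊢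
          rw [smul_smul, this, zero_smul]))
      have hy : f ^ (k + m) • h 1 = f ^ k • x' := by
        have := hh (Submodule.Quotient.mk 1)
        simp only [Submodule.liftQ_apply, φ, LinearMap.toSpanSingleton_apply, smul_eq_mul,
          one_mul, one_smul] at this
        rw [← this, ← map_smul, smul_eq_mul, mul_one]
      obtain ⟨N', hN'⟩ := Groth.L04.mem_powTorsion.1 (h 1).2
      obtain ⟨l, hl₁, hl₂⟩ : ∃ l, k + m ≤ l ∧ N' ≤ l := ⟨max (k + m) N', le_max_left _ _, le_max_right _ _⟩
      refine ⟨l, by omega, fun _ => ?_⟩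
      obtain ⟨b', hb'⟩ := (mem_range_botMap M (fs.map (· ^ l)) j (by simpa using hj0) (h 1).1).2
        fun a ha => by
          obtain ⟨a, ha', rfl⟩ := List.mem_map.1 ha
          exact hN' _ (pow_mem_ofList_pow fs ha' hl₂)
      refine (exact_map_inr (stepHom M (f ^ l) (fs.map (· ^ l))) j _).2
        ⟨b', (homologyMap_smul_id _ (f ^ l) j b').trans ?_⟩
      apply botMap_injective M (fs.map (· ^ l)) j (by simpa using hj0)
      rw [map_smul, map_smul, hb']
      refine Eq.trans ?_ (congrArg (f ^ (l - m) • ·) (botMap_trans (by omega : m ≤ l) fs j hj0 b).symm)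
      show f ^ l • (h 1).1 = f ^ (l - m) • x
      have hy' : f ^ (k + m) • (h 1).1 = f ^ k • x := congrArg Subtype.val hy
      conv_lhs => rw [← Nat.sub_add_cancel hl₁, pow_add, mul_smul, hy', smul_smul, ← pow_add]
      congr 2
      omega

theorem subsingleton_HLim_of_injective [IsNoetherianRing A] (M : ModuleCat.{u} A)
    (hM : Module.Injective A M) (j : ℤ) (hj : 0 < j + fs.length) : Subsingleton (HLim fs M j) :=
  subsingleton_HLim fs M j (exists_trH_eq_zero M hM fs j hj)

end Injective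

end Groth.L04.Koszul
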