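import Groth.Agent.L04.Koszul.SchemeData

/-!
# Čech cohomology as direct limit Koszul cohomology
-/

set_option autoImplicit false
set_option backward.isDefEq.respectTransparency.types false

universe u

open CategoryTheory CategoryTheory.Limits TopologicalSpace Opposite AlgebraicGeometry

namespace Groth.L04.Koszul.Cech

variable {A : Type u} [CommRing A] (fs : List A) (M : ModuleCat.{u} A)

theorem nonempty_HLim_equiv_cx (p : ℕ) (hp : 1 ≤ p) (j : ℤ) (hj : j + fs.length = ((p + 1 : ℕ) : ℤ)) :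
    Nonempty (HLim fs M j ≃ₗ[A] (cx (fam fs) M).homology p) := by
  obtain ⟨k, rfl⟩ : ∃ k, p = k + 1 := ⟨p - 1, by omega⟩
  obtain ⟨e⟩ := nonempty_HLim_equiv_RT fs (k + 2) M j hj
  obtain ⟨e'⟩ := nonempty_homology_equiv_RT fs k M
  exact ⟨e.trans e'.symm⟩

theorem ker_aug : LinearMap.ker (aug (fam fs) M) = DRing.torsionSub (Ideal.ofList fs) M := by
  obtain ⟨e, he⟩ := exists_zero_equiv fs M
  rw [← ker_iotaE]
  ext m
  rw [LinearMap.mem_ker, LinearMap.mem_ker, ← he]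
  exact (map_eq_zero_iff e e.injective).symm

variable {X : TopCat.{u}} {U : ULift.{u} (Fin fs.length) → Opens X}

/-- Kernel and cokernel of the restriction to the union. -/
theorem nonempty_ker_coker_equiv (D : LocData (fam fs) U M)
    (hQ : TopCat.Presheaf.IsSheaf (D.Q : TopCat.Presheaf AddCommGrpCat.{u} X)) (j₀ j₁ : ℤ)
    (h₀ : j₀ + fs.length = 0) (h₁ : j₁ + fs.length = 1) :
    Nonempty (LinearMap.ker (D.toSect (iSup U)) ≃ₗ[A] HLim fs M j₀) ∧
      Nonempty ((D.P.obj (op (iSup U)) ⧸ LinearMap.range (D.toSect (iSup U))) ≃ₗ[A] HLim fs M j₁) := by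
  obtain ⟨e, he⟩ := D.exists_sections_equiv hQ
  obtain ⟨e₀⟩ := nonempty_HLim_equiv_RT fs 0 M j₀ (by exact_mod_cast h₀)
  obtain ⟨e₁⟩ := nonempty_HLim_equiv_RT fs 1 M j₁ (by exact_mod_cast h₁)
  obtain ⟨q⟩ := nonempty_Z0_quotient_equiv fs M
  refine ⟨⟨(LinearEquiv.ofEq _ _ ?_).trans e₀.symm⟩,
    ⟨(Submodule.Quotient.equiv _ _ e ?_).trans (q.trans e₁.symm)⟩⟩
  · rw [← ker_aug]
    ext m
    rw [LinearMap.mem_ker, LinearMap.mem_ker, ← he]
    constructor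
    · intro h
      rw [h, map_zero]
      rfl
    · intro h
      exact e.injective ((Subtype.ext h : e (D.toSect (iSup U) m) = 0).trans (map_zero e).symm)
  · ext z
    constructor
    · rintro ⟨_, ⟨m, rfl⟩, rfl⟩
      exact ⟨m, (he m).symm⟩
    · rintro ⟨m, hm⟩
      exact ⟨_, ⟨m, rfl⟩, Subtype.ext ((he m).trans hm)⟩

end Groth.L04.Koszul.Cech

namespace Groth.L04.Koszul.Cech

variable (X : Scheme.{u}) [CompactSpace X] [QuasiSeparatedSpace X]

theorem nonempty_cechH_koszulHLim (fs : List Γ(X, ⊤)) (F : X.Modules) [Coh.IsQCoh F] (p : ℕ) (hp : 1 ≤ p) :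
    Nonempty (↑(CohB1.cechH (fun i : ULift.{u} (Fin fs.length) => X.basicOpen (fs.get i.down)) F p) ≃+
      CohIII.koszulHLim fs (ModuleCat.of Γ(X, ⊤) (F.val.obj (op ⊤))) (p + 1)) := by
  obtain ⟨e⟩ := (schemeLocData F (fam fs)).nonempty_cechHTop_equiv p
  obtain ⟨e'⟩ := nonempty_HLim_equiv_cx fs (ModuleCat.of Γ(X, ⊤) (F.val.obj (op ⊤))) p hp
    ((p + 1 : ℕ) - fs.length) (sub_add_cancel _ _)
  exact ⟨e.trans e'.symm.toAddEquiv⟩

theorem iSup_basicOpen_ulift (fs : List Γ(X, ⊤)) :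
    (⨆ i : ULift.{u} (Fin fs.length), X.basicOpen (fs.get i.down)) =
      ⨆ i : Fin fs.length, X.basicOpen (fs.get i) :=
  le_antisymm (iSup_le fun i => le_iSup (fun i : Fin fs.length => X.basicOpen (fs.get i)) i.down)
    (iSup_le fun i => le_iSup (fun i : ULift.{u} (Fin fs.length) => X.basicOpen (fs.get i.down)) ⟨i⟩)

theorem nonempty_hhon_koszulHLim (fs : List Γ(X, ⊤))
    (haff : ∀ i : Fin fs.length, IsAffineOpen (X.basicOpen (fs.get i)))
    (F : X.Modules) [Coh.IsQCoh F] (q : ℕ) (hq : 1 ≤ q) :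
    Nonempty (Coh.HHon X F (⨆ i : Fin fs.length, X.basicOpen (fs.get i)) q ≃+
      CohIII.koszulHLim fs (ModuleCat.of Γ(X, ⊤) (F.val.obj (op ⊤))) (q + 1)) := by
  have hU : ∀ (n : ℕ) (a : Fin (n + 1) → ULift.{u} (Fin fs.length)),
      IsAffineOpen (⨅ k, X.basicOpen (fs.get (a k).down)) := fun n a => by
    rw [← Groth.L10.Cech.tup_eq_iInf (X := X.toTopCat) (fun i : ULift.{u} (Fin fs.length) => X.basicOpen (fs.get i.down)) a]
    have h := basicOpen_prod_eq (X := X) (fam fs) a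
    have hle : X.basicOpen (cp (fam fs) a) ≤ X.basicOpen (fam fs (a 0)) := by
      rw [h]
      exact (Pi.π ((fun i => X.basicOpen (fam fs i)) ∘ a) 0).le
    have h' := (haff (a 0).down).basicOpen
      (X.presheaf.map (homOfLE (le_top : X.basicOpen (fam fs (a 0)) ≤ ⊤)).op (cp (fam fs) a))
    rw [Scheme.basicOpen_res, inf_eq_right.2 hle, h] at h'
    exact h'
  obtain ⟨e⟩ := Groth.L17.nonempty_cechH_equiv
    (fun i : ULift.{u} (Fin fs.length) => X.basicOpen (fs.get i.down)) F hU q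
  obtain ⟨e'⟩ := nonempty_cechH_koszulHLim X fs F q hq
  obtain ⟨e''⟩ := Groth.L17.nonempty_hhon_equiv F (⨆ i : Fin fs.length, X.basicOpen (fs.get i)) q
  rw [iSup_basicOpen_ulift] at e
  exact ⟨e''.trans (e.symm.trans e')⟩

theorem nonempty_sections_ker_coker (fs : List Γ(X, ⊤)) (F : X.Modules) [Coh.IsQCoh F] :
    Nonempty (((Coh.toAb F).obj.map (homOfLE (le_top : (⨆ i : Fin fs.length, X.basicOpen (fs.get i)) ≤ ⊤)).op).hom.ker ≃+ CohIII.koszulHLim fs (ModuleCat.of Γ(X, ⊤) (F.val.obj (op ⊤))) 0) ∧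
    Nonempty (↑((Coh.toAb F).obj.obj (op (⨆ i : Fin fs.length, X.basicOpen (fs.get i)))) ⧸
        ((Coh.toAb F).obj.map (homOfLE (le_top : (⨆ i : Fin fs.length, X.basicOpen (fs.get i)) ≤ ⊤)).op).hom.range ≃+ CohIII.koszulHLim fs (ModuleCat.of Γ(X, ⊤) (F.val.obj (op ⊤))) 1) := by
  rw [← iSup_basicOpen_ulift]
  obtain ⟨⟨a⟩, ⟨b⟩⟩ := nonempty_ker_coker_equiv fs _ (schemeLocData F (fam fs)) (isSheaf_sectPresheaf F)
    (((0 : ℕ) : ℤ) - (fs.length : ℤ)) (((1 : ℕ) : ℤ) - (fs.length : ℤ)) (by omega) (by omega)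
  exact ⟨⟨a.toAddEquiv⟩, ⟨b.toAddEquiv⟩⟩

end Groth.L04.Koszul.Cech
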