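import Groth.Agent.L04.Koszul.TopLim
import Mathlib.RingTheory.MvPolynomial.Ideal
import Mathlib.RingTheory.Regular.RegularSequence
import Mathlib.LinearAlgebra.FreeModule.Basic

/-!
# Koszul cohomology of the powers of the variables of a polynomial ring
-/

set_option autoImplicit false
set_option backward.isDefEq.respectTransparency.types false

universe u

open MvPolynomial RingTheory.Sequence

namespace Groth.L04.Koszul.Poly

variable {A : Type u} [CommRing A] {k : ℕ}

/-- The list of variables. -/
noncomputable abbrev vars (A : Type u) [CommRing A] (k : ℕ) : List (MvPolynomial (Fin k) A) :=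
  List.ofFn fun j : Fin k => (X j : MvPolynomial (Fin k) A)

theorem map_vars (n : ℕ) : (vars A k).map (· ^ n) =
    List.ofFn fun j : Fin k => (monomial (Finsupp.single j n) 1 : MvPolynomial (Fin k) A) := by
  rw [List.map_ofFn]
  exact congrArg List.ofFn (funext fun j => by simp [X_pow_eq_monomial])

theorem ofList_smul_top_eq (n : ℕ) :
    (Ideal.ofList ((vars A k).map (· ^ n)) • ⊤ : Ideal (MvPolynomial (Fin k) A)) =
      Ideal.span ((fun s => monomial s (1 : A)) '' Set.range fun j : Fin k => Finsupp.single j n) := by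
  rw [smul_eq_mul, Ideal.mul_top, map_vars]
  refine congrArg Ideal.span (Set.ext fun p => ?_)
  show p ∈ List.ofFn _ ↔ _
  rw [List.mem_ofFn, ← Set.range_comp]
  rfl

theorem isWeaklyRegular_vars (n : ℕ) :
    IsWeaklyRegular (MvPolynomial (Fin k) A) ((vars A k).map (· ^ n)) := by
  classical
  rw [map_vars]
  refine ⟨fun i hi => ?_⟩
  rw [List.length_ofFn] at hi
  have htake : (Ideal.ofList ((List.ofFn fun j : Fin k =>
      (monomial (Finsupp.single j n) 1 : MvPolynomial (Fin k) A)).take i) • ⊤ :
        Ideal (MvPolynomial (Fin k) A)) =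
      Ideal.span ((fun s => monomial s (1 : A)) ''
        ((fun j : Fin k => Finsupp.single j n) '' {j | (j : ℕ) < i})) := by
    rw [smul_eq_mul, Ideal.mul_top]
    refine congrArg Ideal.span (Set.ext fun p => ?_)
    simp only [Set.mem_setOf_eq, List.mem_take_iff_getElem, List.getElem_ofFn, List.length_ofFn,
      Set.mem_image, exists_exists_and_eq_and]
    constructor
    · rintro ⟨j, hj, rfl⟩
      exact ⟨⟨j, (lt_min_iff.1 hj).2⟩, (lt_min_iff.1 hj).1, rfl⟩
    · rintro ⟨j, hj, rfl⟩
      exact ⟨j, lt_min hj j.2, rfl⟩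
  rw [List.getElem_ofFn]
  refine (isSMulRegular_quotient_iff_mem_of_smul_mem _ _).2 fun p hp => ?_
  rw [htake, mem_ideal_span_monomial_image] at hp ⊢
  intro d hd
  have hne : coeff (d + Finsupp.single ⟨i, hi⟩ n) (monomial (Finsupp.single ⟨i, hi⟩ n) (1 : A) * p) ≠ 0 := by
    rw [coeff_monomial_mul', if_pos (le_add_self), add_tsub_cancel_right, one_mul]
    exact mem_support_iff.1 hd
  obtain ⟨s, ⟨j, hj, rfl⟩, hs⟩ := hp _ (mem_support_iff.2 hne)
  refine ⟨_, ⟨j, hj, rfl⟩, Finsupp.single_le_iff.2 ?_⟩
  have hji : (⟨i, hi⟩ : Fin k) ≠ j := fun e => by subst e; exact lt_irrefl i hj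
  have := Finsupp.single_le_iff.1 hs
  rwa [Finsupp.add_apply, Finsupp.single_eq_of_ne hji.symm, add_zero] at this

/-- The exponent of the inverse monomial attached to `d` at level `n`. -/
noncomputable def rev (n : ℕ) (d : Fin k →₀ ℕ) : Fin k →₀ ℕ :=
  Finsupp.equivFunOnFinite.symm fun j => n - 1 - d j

theorem rev_apply (n : ℕ) (d : Fin k →₀ ℕ) (j : Fin k) : rev n d j = n - 1 - d j := rfl

/-- The coordinates at level `n`. -/
noncomputable def phi (n : ℕ) :
    MvPolynomial (Fin k) A →ₗ[A] ((Fin k →₀ ℕ) →₀ A) :=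
  (basisMonomials (Fin k) A).constr A fun d =>
    if ∀ j, d j < n then Finsupp.single (rev n d) 1 else 0

theorem phi_monomial (n : ℕ) (d : Fin k →₀ ℕ) (a : A) :
    phi n (monomial d a) = if ∀ j, d j < n then Finsupp.single (rev n d) a else 0 := by
  have h1 : (monomial d a : MvPolynomial (Fin k) A) = a • monomial d 1 := by
    rw [smul_monomial, smul_eq_mul, mul_one]
  have h2 : phi n (monomial d (1 : A)) = if ∀ j, d j < n then Finsupp.single (rev n d) 1 else 0 := by
    have := (basisMonomials (Fin k) A).constr_basis A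
      (fun d : Fin k →₀ ℕ => if ∀ j, d j < n then Finsupp.single (rev n d) (1 : A) else 0) d
    rwa [coe_basisMonomials] at this
  rw [h1, map_smul, h2]
  split
  · rw [Finsupp.smul_single, smul_eq_mul, mul_one]
  · rw [smul_zero]

theorem phi_eq_zero_of_mem (n : ℕ) (p : MvPolynomial (Fin k) A)
    (hp : p ∈ (Ideal.ofList ((vars A k).map (· ^ n)) • ⊤ : Ideal (MvPolynomial (Fin k) A))) :
    phi n p = 0 := by
  rw [ofList_smul_top_eq, mem_ideal_span_monomial_image] at hp
  rw [p.as_sum, map_sum]
  refine Finset.sum_eq_zero fun d hd => ?_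
  obtain ⟨_, ⟨j, rfl⟩, hj⟩ := hp d hd
  rw [phi_monomial, if_neg fun h => absurd (h j) (not_lt.2 (Finsupp.single_le_iff.1 hj))]

theorem mem_of_phi_eq_zero (n : ℕ) (p : MvPolynomial (Fin k) A) (h : phi n p = 0) :
    p ∈ (Ideal.ofList ((vars A k).map (· ^ n)) • ⊤ : Ideal (MvPolynomial (Fin k) A)) := by
  classical
  rw [ofList_smul_top_eq, mem_ideal_span_monomial_image]
  intro d hd
  by_contra hcon
  have hbox : ∀ j, d j < n := fun j => not_le.1 fun hle =>
    hcon ⟨_, ⟨j, rfl⟩, Finsupp.single_le_iff.2 hle⟩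
  refine mem_support_iff.1 hd ?_
  have h' := DFunLike.congr_fun h (rev n d)
  rw [p.as_sum, map_sum, Finsupp.finset_sum_apply, Finsupp.zero_apply,
    Finset.sum_eq_single d] at h'
  · rwa [phi_monomial, if_pos hbox, Finsupp.single_eq_same] at h'
  · intro e _ hed
    rw [phi_monomial]
    split
    · rename_i hbe
      refine Finsupp.single_eq_of_ne fun e' => hed (Finsupp.ext fun j => ?_)
      have := DFunLike.congr_fun e' j
      rw [rev_apply, rev_apply] at this
      have := hbox j
      have := hbe j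
      omega
    · rfl
  · exact fun hd' => absurd hd hd'

theorem prod_vars_pow (a : ℕ) : ((vars A k).map (· ^ a)).prod =
    monomial (Finsupp.equivFunOnFinite.symm fun _ => a) 1 := by
  rw [List.map_ofFn, List.prod_ofFn, monomial_eq, C_1, one_mul, Finsupp.prod_fintype _ _ (fun _ => pow_zero _)]
  rfl

theorem phi_trans {n m : ℕ} (h : n ≤ m) (p : MvPolynomial (Fin k) A) :
    phi m (((vars A k).map (· ^ (m - n))).prod * p) = phi n p := by
  suffices hl : (phi m).comp (LinearMap.mulLeft A ((vars A k).map (· ^ (m - n))).prod) = phi n from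
    LinearMap.congr_fun hl p
  refine (basisMonomials (Fin k) A).ext fun d => ?_
  rw [coe_basisMonomials, LinearMap.comp_apply, LinearMap.mulLeft_apply, prod_vars_pow,
    monomial_mul, one_mul, phi_monomial, phi_monomial]
  have e : (∀ j, (Finsupp.equivFunOnFinite.symm (fun _ : Fin k => m - n) + d) j < m) ↔ ∀ j, d j < n :=
    forall_congr' fun j => by
      rw [Finsupp.add_apply, Finsupp.equivFunOnFinite_symm_apply_apply]
      omega
  simp only [e]
  split
  · rename_i hd
    congr 1
    ext j
    rw [rev_apply, rev_apply, Finsupp.add_apply, Finsupp.equivFunOnFinite_symm_apply_apply]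
    have := hd j
    omega
  · rfl

theorem phi_surjective (g : (Fin k →₀ ℕ) →₀ A) :
    ∃ (n : ℕ) (p : MvPolynomial (Fin k) A), phi n p = g := by
  induction g using Finsupp.induction_linear with
  | zero => exact ⟨0, 0, map_zero _⟩
  | single q a =>
    refine ⟨(Finset.univ.sup q) + 1, monomial (rev ((Finset.univ.sup q) + 1) q) a, ?_⟩
    rw [phi_monomial, if_pos fun j => by rw [rev_apply]; omega]
    congr 1
    ext j
    rw [rev_apply, rev_apply]
    have : q j ≤ Finset.univ.sup q := Finset.le_sup (f := fun i => q i) (Finset.mem_univ j)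
    omega
  | add g g' hg hg' =>
    obtain ⟨n, p, rfl⟩ := hg
    obtain ⟨m, p', rfl⟩ := hg'
    exact ⟨max n m, ((vars A k).map (· ^ (max n m - n))).prod * p +
      ((vars A k).map (· ^ (max n m - m))).prod * p', by rw [map_add, phi_trans (le_max_left n m), phi_trans (le_max_right n m)]⟩

open CategoryTheory

/-- The module. -/
noncomputable abbrev S (A : Type u) [CommRing A] (k : ℕ) :
    ModuleCat.{u} (MvPolynomial (Fin k) A) := ModuleCat.of _ (MvPolynomial (Fin k) A)

/-- The top stage map. -/
noncomputable abbrev top (n : ℕ) : MvPolynomial (Fin k) A →ₗ[MvPolynomial (Fin k) A]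
    HLim (vars A k) (S A k) 0 :=
  (ιL (vars A k) (S A k) 0 n).comp (topMap (S A k) ((vars A k).map (· ^ n)))

theorem exists_top (z : HLim (vars A k) (S A k) 0) : ∃ n p, top n p = z := by
  obtain ⟨n, c, rfl⟩ := ιL_surjective _ _ _ z
  obtain ⟨p, rfl⟩ := topMap_surjective (S A k) _ c
  exact ⟨n, p, rfl⟩

theorem top_trans {n m : ℕ} (h : n ≤ m) (p : MvPolynomial (Fin k) A) :
    top m (((vars A k).map (· ^ (m - n))).prod * p) = top n p := by
  refine Eq.trans ?_ (ιL_trH (vars A k) (S A k) 0 h _)
  rw [trH_topMap (S A k) h (vars A k) p]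
  rfl

theorem phi_eq_of_top_eq {n m : ℕ} {p q : MvPolynomial (Fin k) A} (h : top n p = top m q) :
    phi n p = phi m q := by
  obtain ⟨N, hn, hm⟩ : ∃ N, n ≤ N ∧ m ≤ N := ⟨max n m, le_max_left _ _, le_max_right _ _⟩
  rw [← phi_trans hn p, ← phi_trans hm q]
  rw [← top_trans hn p, ← top_trans hm q, ← sub_eq_zero, ← map_sub, LinearMap.comp_apply] at h
  obtain ⟨l, hl, h0⟩ := exists_of_ιL_eq_zero _ _ _ h
  rw [trH_topMap (S A k) hl (vars A k)] at h0
  have hker : ((vars A k).map (· ^ (l - N))).prod *
      (((vars A k).map (· ^ (N - n))).prod * p - ((vars A k).map (· ^ (N - m))).prod * q) ∈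
      (Ideal.ofList ((vars A k).map (· ^ l)) • ⊤ : Ideal (MvPolynomial (Fin k) A)) := by
    have := LinearMap.mem_ker.2 h0
    rwa [ker_topMap] at this
  have := phi_eq_zero_of_mem l _ hker
  rwa [phi_trans hl, map_sub, sub_eq_zero] at this

theorem top_eq_of_phi_eq {n m : ℕ} {p q : MvPolynomial (Fin k) A} (h : phi n p = phi m q) :
    top n p = top m q := by
  obtain ⟨N, hn, hm⟩ : ∃ N, n ≤ N ∧ m ≤ N := ⟨max n m, le_max_left _ _, le_max_right _ _⟩
  rw [← top_trans hn p, ← top_trans hm q, ← sub_eq_zero, ← map_sub]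
  rw [← phi_trans hn p, ← phi_trans hm q, ← sub_eq_zero, ← map_sub] at h
  rw [LinearMap.comp_apply, LinearMap.mem_ker.1 ((ker_topMap (S A k) _).ge (mem_of_phi_eq_zero N _ h)),
    map_zero]

theorem free_top : Module.Free A
    (RestrictScalars A (MvPolynomial (Fin k) A) (HLim (vars A k) (S A k) 0)) := by
  let E := RestrictScalars.addEquiv A (MvPolynomial (Fin k) A) (HLim (vars A k) (S A k) 0)
  choose lev rep hrep using exists_top (A := A) (k := k)
  have hval : ∀ (n : ℕ) (p : MvPolynomial (Fin k) A),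
      phi (lev (top n p)) (rep (top n p)) = phi n p := fun n p => phi_eq_of_top_eq (hrep _)
  let Φ : RestrictScalars A (MvPolynomial (Fin k) A) (HLim (vars A k) (S A k) 0) →ₗ[A]
      ((Fin k →₀ ℕ) →₀ A) :=
    { toFun := fun x => phi (lev (E x)) (rep (E x))
      map_add' := fun x y => by
        obtain ⟨n, p, hx⟩ := exists_top (E x)
        obtain ⟨m, q, hy⟩ := exists_top (E y)
        rw [map_add E, ← hx, ← hy, ← top_trans (le_max_left n m) p, ← top_trans (le_max_right n m) q,
          ← map_add, hval, hval, hval, map_add]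
      map_smul' := fun a x => by
        obtain ⟨n, p, hx⟩ := exists_top (E x)
        rw [RestrictScalars.addEquiv_map_smul, ← hx, ← map_smul, hval, hval, RingHom.id_apply,
          ← map_smul (phi n)]
        congr 1
        rw [smul_eq_mul, Algebra.smul_def] }
  refine Module.Free.of_equiv (LinearEquiv.ofBijective Φ ⟨fun x y h => ?_, fun g => ?_⟩).symm
  · apply E.injective
    rw [← hrep (E x), ← hrep (E y)]
    exact top_eq_of_phi_eq h
  · obtain ⟨n, p, rfl⟩ := phi_surjective g
    refine ⟨E.symm (top n p), ?_⟩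
    show phi (lev (E (E.symm (top n p)))) (rep (E (E.symm (top n p)))) = _
    rw [AddEquiv.apply_symm_apply, hval]

end Groth.L04.Koszul.Poly
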