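import Groth.Agent.L04.Koszul.Vanish
import Groth.Prelude.Def_Koszul

/-!
# The Koszul complex of a sequence multiplied by a scalar
-/

set_option autoImplicit false
set_option backward.isDefEq.respectTransparency.types false

universe u

open CategoryTheory CategoryTheory.Limits CochainComplex
open Groth.L02.PC (coneEquiv)
open Groth.L28.Kun (Z cl cl_surjective cl_eq_zero_iff)

noncomputable section

namespace Groth.L04.Koszul.Scale

variable {A : Type u} [CommRing A]

open Groth.L04.Koszul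

local notation "Kz" => _root_.Koszul.koszul A

theorem step_apply (f : A) (l : List A) {j : ℤ} (p : (Kz l).X j) : (f • 𝟙 (Kz l)).f j p = f • p := rfl

theorem smul_regular {x : A} (hx : x ∈ nonZeroDivisors A) : ∀ (l : List A) (q : ℤ) (z : (Kz l).X q),
    x • z = 0 → z = 0 := by
  intro l
  induction l with
  | nil =>
    intro q z hz
    by_cases hq : q = 0
    · subst hq
      let e : (Kz []).X 0 ≃ₗ[A] A :=
        (HomologicalComplex.singleObjXSelf (ComplexShape.up ℤ) 0 (ModuleCat.of A A)).toLinearEquiv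
      refine e.injective ?_
      rw [map_zero]
      have := congrArg e hz
      rw [map_smul, map_zero, smul_eq_mul] at this
      exact (mem_nonZeroDivisors_iff.1 hx).1 _ this
    · haveI : Subsingleton ((Kz []).X q) := ModuleCat.isZero_iff_subsingleton.1
        (HomologicalComplex.isZero_single_obj_X (ComplexShape.up ℤ) 0 (ModuleCat.of A A) q hq)
      exact Subsingleton.elim _ _
  | cons f l ih =>
    intro q z hz
    obtain ⟨p, y, rfl⟩ := exists_cmk (f • 𝟙 (Kz l)) (i := q) rfl z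
    erw [smul_cmk] at hz
    obtain ⟨h1, h2⟩ := cmk_inj _ rfl (hz.trans (cmk_zero _ rfl).symm)
    rw [ih _ _ h1, ih _ _ h2]
    exact cmk_zero _ rfl

/-- The Koszul complex of `x • l` is that of `l` with differential scaled by `x`. -/
theorem exists_scale (x : A) : ∀ l : List A, ∃ θ : ∀ q : ℤ, (Kz (l.map (fun f => x * f))).X q ≃ₗ[A] (Kz l).X q,
    ∀ (i j : ℤ), i + 1 = j → ∀ z, θ j ((Kz (l.map (fun f => x * f))).d i j z) = x • (Kz l).d i j (θ i z) := by
  intro l
  induction l with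
  | nil =>
    refine ⟨fun q => LinearEquiv.refl A _, fun i j hij z => ?_⟩
    have : (Kz []).d i j = 0 := HomologicalComplex.single_obj_d (ComplexShape.up ℤ) 0 _ i j
    show (Kz []).d i j z = x • (Kz []).d i j z
    rw [show (Kz []).d i j z = 0 by rw [this]; rfl, smul_zero]
  | cons f l ih =>
    obtain ⟨θ, hθ⟩ := ih
    let E : ∀ q : ℤ, (Kz ((f :: l).map (fun f => x * f))).X q ≃ₗ[A] (Kz (f :: l)).X q := fun q =>
      (coneEquiv ((x * f) • 𝟙 (Kz (l.map (fun f => x * f)))) q (q + 1) rfl).trans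
        (((θ (q + 1)).prodCongr (θ q)).trans (coneEquiv (f • 𝟙 (Kz l)) q (q + 1) rfl).symm)
    refine ⟨E, fun i j hij z => ?_⟩
    have hE : ∀ (q : ℤ) p y, E q (cmk ((x * f) • 𝟙 (Kz (l.map (fun f => x * f)))) q (q + 1) rfl p y) =
        cmk (f • 𝟙 (Kz l)) q (q + 1) rfl (θ (q + 1) p) (θ q y) := fun q p y => by
      show (coneEquiv _ q (q + 1) rfl).symm ((θ (q + 1)).prodCongr (θ q) (coneEquiv _ q (q + 1) rfl _)) = _
      rw [coneEquiv_cmk]
      rfl
    subst hij
    obtain ⟨p, y, rfl⟩ := exists_cmk ((x * f) • 𝟙 (Kz (l.map (fun f => x * f)))) (i := i) rfl z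
    show E (i + 1) ((mappingCone ((x * f) • 𝟙 (Kz (l.map (fun f => x * f))))).d i (i + 1)
        (cmk ((x * f) • 𝟙 (Kz (l.map (fun f => x * f)))) i (i + 1) rfl p y)) =
      x • (mappingCone (f • 𝟙 (Kz l))).d i (i + 1) (E i (cmk ((x * f) • 𝟙 (Kz (l.map (fun f => x * f)))) i (i + 1) rfl p y))
    rw [d_cmk _ rfl rfl, hE, hE, d_cmk _ rfl rfl]
    erw [smul_cmk]
    rw [map_neg, map_add, hθ _ _ rfl, hθ _ _ rfl, step_apply, step_apply, map_smul, smul_add, smul_neg, smul_smul]

theorem nonempty_homology_scale (l : List A) (x : A) (hx : x ∈ nonZeroDivisors A) (q : ℤ) :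
    Nonempty ((Kz (l.map (fun f => x * f))).homology q ≅
      ModuleCat.of A (↥(LinearMap.ker ((Kz l).d q (q + 1)).hom) ⧸
        Submodule.comap (LinearMap.ker ((Kz l).d q (q + 1)).hom).subtype
          (Ideal.span {x} • LinearMap.range ((Kz l).d (q - 1) q).hom))) := by
  obtain ⟨θ, hθ⟩ := exists_scale x l
  let K' := Kz (l.map (fun f => x * f))
  let Z₀ := LinearMap.ker ((Kz l).d q (q + 1)).hom
  have hmem : ∀ w : Z K' q, θ q w.1 ∈ Z₀ := fun w => by
    refine smul_regular hx l _ _ ((hθ q _ rfl w.1).symm.trans ?_)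
    rw [show K'.d q (q + 1) w.1 = 0 from w.2, map_zero]
  let t : Z K' q →ₗ[A] Z₀ := ((θ q).toLinearMap.comp (Z K' q).subtype).codRestrict Z₀ hmem
  let g := (Submodule.mkQ (Submodule.comap Z₀.subtype (Ideal.span {x} • LinearMap.range ((Kz l).d (q - 1) q).hom))).comp t
  have hg : Function.Surjective g := by
    refine (Submodule.mkQ_surjective _).comp fun z => ?_
    refine ⟨⟨(θ q).symm z.1, LinearMap.mem_ker.2 ((θ (q + 1)).injective ?_)⟩, Subtype.ext ((θ q).apply_symm_apply _)⟩
    rw [map_zero]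
    refine (hθ q _ rfl _).trans ?_
    rw [LinearEquiv.apply_symm_apply, show (Kz l).d q (q + 1) z.1 = 0 from z.2, smul_zero]
  have hker : LinearMap.ker (cl K' q) = LinearMap.ker g := by
    ext w
    show cl K' q w = 0 ↔ Submodule.Quotient.mk (t w) = 0
    rw [cl_eq_zero_iff K' (sub_add_cancel q 1) w, Submodule.Quotient.mk_eq_zero, Submodule.mem_comap,
      Submodule.ideal_span_singleton_smul, Submodule.mem_smul_pointwise_iff_exists]
    show (∃ y, K'.d (q - 1) q y = w.1) ↔ ∃ b ∈ LinearMap.range ((Kz l).d (q - 1) q).hom, x • b = θ q w.1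
    constructor
    · rintro ⟨y, hy⟩
      exact ⟨_, ⟨θ (q - 1) y, rfl⟩, by rw [← hy]; exact (hθ _ _ (sub_add_cancel q 1) y).symm⟩
    · rintro ⟨b, ⟨y, rfl⟩, hb⟩
      refine ⟨(θ (q - 1)).symm y, (θ q).injective ?_⟩
      refine (hθ _ _ (sub_add_cancel q 1) _).trans ?_
      rw [LinearEquiv.apply_symm_apply]
      exact hb
  exact ⟨(((cl K' q).quotKerEquivOfSurjective (cl_surjective K' q)).symm.trans
    ((Submodule.quotEquivOfEq _ _ hker).trans (g.quotKerEquivOfSurjective hg))).toModuleIso⟩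

theorem nonempty_homology_scale_of_regular (l : List A) (hl : RingTheory.Sequence.IsWeaklyRegular A l) (x : A)
    (hx : x ∈ nonZeroDivisors A) (q : ℤ) (hq : q < 0) :
    Nonempty ((Kz (l.map (fun f => x * f))).homology q ≅
      ModuleCat.of A (TensorProduct A ↥(LinearMap.ker ((Kz l).d q (q + 1)).hom) (A ⧸ Ideal.span {x}))) := by
  obtain ⟨e⟩ := nonempty_homology_scale l x hx q
  have h0 : IsZero ((Kz l).homology q) := by
    rw [koszul_eq]
    exact isZero_of_isWeaklyRegular l (ModuleCat.of A A) hl q hq.ne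
  let Z₀ := LinearMap.ker ((Kz l).d q (q + 1)).hom
  suffices hs : Submodule.comap Z₀.subtype (Ideal.span {x} • LinearMap.range ((Kz l).d (q - 1) q).hom) =
      Ideal.span {x} • (⊤ : Submodule A Z₀) from
    ⟨e ≪≫ ((Submodule.quotEquivOfEq _ _ hs).trans (TensorProduct.tensorQuotEquivQuotSMul Z₀ (Ideal.span {x})).symm).toModuleIso⟩
  have hB : LinearMap.range ((Kz l).d (q - 1) q).hom = LinearMap.ker ((Kz l).d q (q + 1)).hom := by
    refine le_antisymm ?_ fun z hz => ?_
    · rintro _ ⟨y, rfl⟩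
      exact Groth.L28.Kun.d_mem_Z (Kz l) (q - 1) q y
    · haveI := ModuleCat.isZero_iff_subsingleton.1 h0
      exact (cl_eq_zero_iff (Kz l) (sub_add_cancel q 1) ⟨z, hz⟩).1 (Subsingleton.elim _ _)
  rw [hB]
  ext z
  rw [Submodule.mem_comap, Submodule.ideal_span_singleton_smul, Submodule.ideal_span_singleton_smul,
    Submodule.mem_smul_pointwise_iff_exists, Submodule.mem_smul_pointwise_iff_exists]
  exact ⟨fun ⟨b, hb, he⟩ => ⟨⟨b, hb⟩, trivial, Subtype.ext he⟩, fun ⟨b, _, he⟩ => ⟨b.1, b.2, congrArg Subtype.val he⟩⟩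

end Groth.L04.Koszul.Scale
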