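import Groth.Agent.L04.Koszul.CechBridge
import Groth.Agent.L16.QcqsPush
import Groth.Agent.L17.CechComparison
import Groth.Prelude.Def_ega3

/-!
# The Čech data of a quasi-coherent module on a quasi-compact quasi-separated scheme
-/

set_option autoImplicit false
set_option backward.isDefEq.respectTransparency.types false

universe u

open CategoryTheory CategoryTheory.Limits TopologicalSpace Opposite AlgebraicGeometry

namespace Groth.L04.Koszul.Cech

open Groth.L18.Frame (rs ro rs_rs ro_ro rs_smul)

variable {X : Scheme.{u}} (F : X.Modules)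

/-- Sections as modules over the global functions. -/
@[reducible] noncomputable def sectModule (V : X.Opens) : Module Γ(X, ⊤) Γ(F, V) :=
  Module.compHom _ (X.presheaf.map (homOfLE (le_top : V ≤ ⊤)).op).hom

/-- The presheaf of modules over the global functions. -/
noncomputable def sectPresheaf : (Opens X)ᵒᵖ ⥤ ModuleCat.{u} Γ(X, ⊤) where
  obj V :=
    letI := sectModule F V.unop
    ModuleCat.of Γ(X, ⊤) Γ(F, V.unop)
  map {V W} g :=
    letI := sectModule F V.unop
    letI := sectModule F W.unop
    ModuleCat.ofHom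
      { toFun := fun s => rs F g.unop.le s
        map_add' := fun s t => map_add _ s t
        map_smul' := fun a s => by
          show rs F g.unop.le (ro (le_top : V.unop ≤ ⊤) a • s) = ro (le_top : W.unop ≤ ⊤) a • rs F g.unop.le s
          rw [rs_smul, ro_ro] }
  map_id V := by
    letI := sectModule F V.unop
    exact ModuleCat.hom_ext (LinearMap.ext fun s => Groth.L18.Frame.rs_self F _ s)
  map_comp {V W T} g h := by
    letI := sectModule F V.unop
    letI := sectModule F W.unop
    letI := sectModule F T.unop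
    exact ModuleCat.hom_ext (LinearMap.ext fun s => (rs_rs F g.unop.le h.unop.le s).symm)

theorem basicOpen_prod_eq {ι : Type u} (f : ι → Γ(X, ⊤)) {n : ℕ} (a : Fin (n + 1) → ι) :
    X.basicOpen (cp f a) = Groth.L10.Cech.tup (E := X.Opens) (fun i => X.basicOpen (f i)) a := by
  rw [Groth.L10.Cech.tup_eq_iInf]
  induction n with
  | zero =>
    rw [show cp f a = f (a 0) from Fin.prod_univ_one _]
    exact (le_iInf fun k => (congrArg (fun k => X.basicOpen (f (a k)))
      (Subsingleton.elim (α := Fin 1) k (0 : Fin 1))).ge).antisymm (iInf_le _ (0 : Fin 1))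
  | succ n ih =>
    rw [show cp f a = f (a 0) * cp f (a ∘ Fin.succ) from Fin.prod_univ_succ _, Scheme.basicOpen_mul, ih]
    refine le_antisymm (le_iInf fun k => ?_) (le_inf (iInf_le _ 0) (le_iInf fun k => iInf_le _ k.succ))
    refine Fin.cases ?_ ?_ k
    · exact inf_le_left
    · exact fun k => inf_le_right.trans (iInf_le _ k)

variable [CompactSpace X] [QuasiSeparatedSpace X] [Coh.IsQCoh F]

/-- The Čech data. -/
noncomputable def schemeLocData {ι : Type u} (f : ι → Γ(X, ⊤)) :
    LocData f (fun i => X.basicOpen (f i)) (ModuleCat.of Γ(X, ⊤) (F.val.obj (op ⊤))) where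
  P := sectPresheaf F
  ρ :=
    letI := sectModule F ⊤
    { toFun := fun s => s
      map_add' := fun _ _ => rfl
      map_smul' := fun a s => by
        show (a • s : Γ(F, ⊤)) = ro (le_refl ⊤) a • s
        rw [Groth.L18.Frame.ro_self] }
  loc {n} a := by
    have e : Groth.L10.Cech.tup (E := X.Opens) (fun i => X.basicOpen (f i)) a = X.basicOpen (cp f a) :=
      (basicOpen_prod_eq f a).symm
    refine (isLocalizedModule_iff _ _).2 ⟨fun x => ?_, fun s => ?_, fun {t₁ t₂} he => ?_⟩
    · obtain ⟨_, k, rfl⟩ := x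
      refine (Module.End.isUnit_iff _).2 ?_
      have hu : IsUnit (ro (le_top : Groth.L10.Cech.tup (E := X.Opens) (fun i => X.basicOpen (f i)) a ≤ ⊤)
          (cp f a ^ k)) := by
        have h0 : IsUnit (ro (X.basicOpen_le (cp f a)) (cp f a)) :=
          X.toRingedSpace.isUnit_res_basicOpen (cp f a)
        have h1 := h0.map (X.presheaf.map (homOfLE e.le).op).hom
        rw [show (X.presheaf.map (homOfLE e.le).op).hom (ro (X.basicOpen_le (cp f a)) (cp f a)) =
          ro e.le (ro (X.basicOpen_le (cp f a)) (cp f a)) from rfl, ro_ro] at h1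
        rw [Groth.L16.QcqsPush.ro_pow]
        exact h1.pow k
      obtain ⟨u, hu⟩ := hu
      show Function.Bijective fun s : Γ(F, Groth.L10.Cech.tup (E := X.Opens) (fun i => X.basicOpen (f i)) a) =>
        ro (le_top : Groth.L10.Cech.tup (E := X.Opens) (fun i => X.basicOpen (f i)) a ≤ ⊤) (cp f a ^ k) • s
      rw [← hu]
      exact ⟨fun s t h => by
        have := congrArg (fun z => (↑u⁻¹ : Γ(X, Groth.L10.Cech.tup (E := X.Opens) (fun i => X.basicOpen (f i)) a)) • z) h
        simpa [smul_smul] using this, fun s => ⟨(↑u⁻¹ : Γ(X, Groth.L10.Cech.tup (E := X.Opens) (fun i => X.basicOpen (f i)) a)) • s, by simp [smul_smul]⟩⟩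
    · obtain ⟨k, t, ht⟩ := Groth.L16.QcqsPush.exists_pow_smul_eq_res F (U := (⊤ : X.Opens)) isCompact_univ
        isQuasiSeparated_univ (cp f a) (rs F e.ge s)
      refine ⟨⟨t, ⟨cp f a ^ k, k, rfl⟩⟩, ?_⟩
      have h2 := congrArg (rs F e.le) ht
      rw [rs_rs, rs_smul, rs_rs, Groth.L18.Frame.rs_self, ro_ro] at h2
      exact h2.symm
    · have h0 : rs F (X.basicOpen_le (cp f a)) (t₁ - t₂) = 0 := by
        have h1 : rs F (le_top : Groth.L10.Cech.tup (E := X.Opens) (fun i => X.basicOpen (f i)) a ≤ ⊤) (t₁ - t₂) = 0 :=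
          (map_sub _ _ _).trans (sub_eq_zero.2 he)
        have h2 := congrArg (rs F e.ge) h1
        rw [rs_rs] at h2
        exact h2.trans (map_zero _)
      obtain ⟨k, hk⟩ := Groth.L16.QcqsPush.exists_pow_smul_eq_zero F (U := (⊤ : X.Opens)) isCompact_univ
        (cp f a) (t₁ - t₂) h0
      refine ⟨⟨cp f a ^ k, k, rfl⟩, ?_⟩
      rw [← sub_eq_zero, ← smul_sub]
      exact hk

omit [CompactSpace X] [QuasiSeparatedSpace X] [Coh.IsQCoh F] in
theorem isSheaf_sectPresheaf :
    TopCat.Presheaf.IsSheaf ((sectPresheaf F ⋙ forget₂ _ AddCommGrpCat.{u}) :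
      TopCat.Presheaf AddCommGrpCat.{u} X.toTopCat) :=
  F.isSheaf

end Groth.L04.Koszul.Cech
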