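import Groth.Agent.L04.Koszul.Lim

/-!
# The top degree of the direct limit Koszul cohomology
-/

set_option autoImplicit false
set_option backward.isDefEq.respectTransparency.types false

universe u

open CategoryTheory CategoryTheory.Limits CochainComplex CohIII
open Groth.L28.Kun (Z cl homologyMap_cl)

namespace Groth.L04.Koszul

variable {A : Type u} [CommRing A]

theorem trH_topMap (M : ModuleCat.{u} A) {n m : ℕ} (h : n ≤ m) : ∀ (fs : List A) (x : M),
    trH fs M 0 n m h (topMap M (fs.map (· ^ n)) x) =
      topMap M (fs.map (· ^ m)) ((fs.map (· ^ (m - n))).prod • x) := by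
  intro fs
  induction fs with
  | nil =>
    intro x
    refine (homologyMap_id_apply (K := koszulCx M []) 0 _).trans ?_
    exact congrArg _ (one_smul A x).symm
  | cons f fs ih =>
    intro x
    show trH (f :: fs) M 0 n m h (HomologicalComplex.homologyMap
      (mappingCone.inr (stepHom M (f ^ n) (fs.map (· ^ n)))) 0 (topMap M (fs.map (· ^ n)) x)) = _
    rw [inr_comp_trans fs M f h 0, ih, ← map_smul, smul_smul, List.map_cons (f := (· ^ (m - n))),
      List.prod_cons]
    rfl

end Groth.L04.Koszul
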